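import Groth.Agent.AlgGrp.K402.Additive

/-!
# Morphisms from a product of varieties to a semi-abelian variety, arbitrary ground field
-/

set_option autoImplicit false
universe u
open CategoryTheory MonoidalCategory CartesianMonoidalCategory MonObj GrpObj AlgebraicGeometry Limits

namespace K402.AddField

open Groth.Agent Groth.Agent.Sga3B SemiAb Cross

/-- Points of the base change of a product are determined by their components. -/
theorem ext_bc_tensor {S S' : Scheme.{u}} (f : S' ⟶ S) {A B : Over S} {X : Over S'} (x y : X ⟶ Red.bc f (A ⊗ B))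
    (h1 : x ≫ (Over.pullback f).map (fst A B) = y ≫ (Over.pullback f).map (fst A B))
    (h2 : x ≫ (Over.pullback f).map (snd A B) = y ≫ (Over.pullback f).map (snd A B)) : x = y := by
  apply (BcPts.bcEquiv f X (A ⊗ B)).symm.injective
  ext1
  · rw [← BcPts.bcEquiv_symm_comp, ← BcPts.bcEquiv_symm_comp, h1]
  · rw [← BcPts.bcEquiv_symm_comp, ← BcPts.bcEquiv_symm_comp, h2]

theorem lift_map {S S' : Scheme.{u}} (c : S' ⟶ S) {X Y Z G : Over S} (f : X ⊗ Y ⟶ G) (u : Z ⟶ X) (v : Z ⟶ Y) :
    lift ((Over.pullback c).map u) ((Over.pullback c).map v) ≫ Functor.LaxMonoidal.μ (Over.pullback c) X Y ≫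
      (Over.pullback c).map f = (Over.pullback c).map (lift u v ≫ f) := by
  rw [Functor.map_comp, ← Category.assoc]
  congr 1
  apply ext_bc_tensor c
  · rw [Category.assoc, Functor.Monoidal.μ_fst, lift_fst, ← Functor.map_comp, lift_fst]
  · rw [Category.assoc, Functor.Monoidal.μ_snd, lift_snd, ← Functor.map_comp, lift_snd]

theorem main (k : Type u) [Field k]
    (X Y G : Over (Spec (CommRingCat.of k)))
    [LocallyOfFiniteType X.hom] [QuasiCompact X.hom] [IsSeparated X.hom] [GeometricallyIntegral X.hom]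
    [LocallyOfFiniteType Y.hom] [QuasiCompact Y.hom] [IsSeparated Y.hom] [GeometricallyIntegral Y.hom]
    [GrpObj G] [LocallyOfFiniteType G.hom] [QuasiCompact G.hom] (hG : SemiAb G)
    (x₀ : 𝟙_ (Over (Spec (CommRingCat.of k))) ⟶ X) (y₀ : 𝟙_ (Over (Spec (CommRingCat.of k))) ⟶ Y) (f : X ⊗ Y ⟶ G) :
    f * (fst X Y ≫ lift (𝟙 X) (toUnit X ≫ y₀) ≫ f)⁻¹ * (snd X Y ≫ lift (toUnit Y ≫ x₀) (𝟙 Y) ≫ f)⁻¹ *
      (toUnit (X ⊗ Y) ≫ lift x₀ y₀ ≫ f) = 1 := by
  let c : Spec (CommRingCat.of (AlgebraicClosure k)) ⟶ Spec (CommRingCat.of k) :=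
    Spec.map (CommRingCat.ofHom (algebraMap k (AlgebraicClosure k)))
  have i1 : LocallyOfFiniteType (Red.bc c X).hom := inferInstanceAs (LocallyOfFiniteType (pullback.snd X.hom c))
  have i2 : QuasiCompact (Red.bc c X).hom := inferInstanceAs (QuasiCompact (pullback.snd X.hom c))
  have i3 : IsSeparated (Red.bc c X).hom := inferInstanceAs (IsSeparated (pullback.snd X.hom c))
  have i4 : GeometricallyIntegral (Red.bc c X).hom := inferInstanceAs (GeometricallyIntegral (pullback.snd X.hom c))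
  have j1 : LocallyOfFiniteType (Red.bc c Y).hom := inferInstanceAs (LocallyOfFiniteType (pullback.snd Y.hom c))
  have j2 : QuasiCompact (Red.bc c Y).hom := inferInstanceAs (QuasiCompact (pullback.snd Y.hom c))
  have j3 : IsSeparated (Red.bc c Y).hom := inferInstanceAs (IsSeparated (pullback.snd Y.hom c))
  have j4 : GeometricallyIntegral (Red.bc c Y).hom := inferInstanceAs (GeometricallyIntegral (pullback.snd Y.hom c))
  have l2 : QuasiCompact (Red.bc c G).hom := inferInstanceAs (QuasiCompact (pullback.snd G.hom c))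
  have hG' : SemiAb (Red.bc c G) := SemiAb.bc c hG
  have hc := Comm.isCommMonObj hG'
  obtain ⟨a, b, hab⟩ := Additive.exists_mul hG' (Functor.LaxMonoidal.μ (Over.pullback c) X Y ≫
      (Over.pullback c).map f)
  have key := four_of_mul _ a b hab ((Over.pullback c).map (fst X Y)) ((Over.pullback c).map (toUnit _ ≫ x₀))
    ((Over.pullback c).map (snd X Y)) ((Over.pullback c).map (toUnit _ ≫ y₀))
  rw [lift_map, lift_map, lift_map, lift_map, ← Functor.map_inv', ← Functor.map_inv', ← Functor.map_mul,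
    ← Functor.map_mul, ← Functor.map_mul, ← Functor.map_one] at key
  have h := (Over.pullback c).map_injective key
  have e1 : fst X Y ≫ lift (𝟙 X) (toUnit X ≫ y₀) = lift (fst X Y) (toUnit (X ⊗ Y) ≫ y₀) := by
    rw [comp_lift, Category.comp_id, ← Category.assoc, toUnit_unique (fst X Y ≫ toUnit X) (toUnit _)]
  have e2 : snd X Y ≫ lift (toUnit Y ≫ x₀) (𝟙 Y) = lift (toUnit (X ⊗ Y) ≫ x₀) (snd X Y) := by
    rw [comp_lift, Category.comp_id, ← Category.assoc, toUnit_unique (snd X Y ≫ toUnit Y) (toUnit _)]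
  have e3 : toUnit (X ⊗ Y) ≫ lift x₀ y₀ = lift (toUnit (X ⊗ Y) ≫ x₀) (toUnit (X ⊗ Y) ≫ y₀) := comp_lift _ _ _
  rw [← e1, ← e2, ← e3, lift_fst_snd, Category.id_comp, Category.assoc, Category.assoc, Category.assoc] at h
  exact h

end K402.AddField
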