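import Groth.Agent.AlgGrp.K402.Tori
import Groth.Agent.Sga3.H784.FieldExt
import Groth.Agent.Books.AntiAffine
import Groth.Agent.Etcore.SmoothRed

/-!
# A normal torus in a smooth connected group is central
-/

set_option autoImplicit false
universe u
open CategoryTheory MonoidalCategory CartesianMonoidalCategory MonObj GrpObj AlgebraicGeometry Limits

namespace K402.Central

open Groth.Agent.Books.AffBridge Groth.Agent.Books.AffBridge2

open Groth.Agent Groth.Agent.Books.AlgPts Groth.Agent.Books.AlgPtsGrp Groth.Agent.Sga3B.RG Groth.Agent.Sga3B.RG.BrPts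
  Groth.Agent.Sga3B.RG.BrTorus Groth.Agent.Sga3B.RG.BrImg Groth.Agent.Sga3B.RG.BrDiag Groth.Agent.Sga3.H784
  Groth.Agent.Sga3.H784.Conj Groth.Agent.Sga3.H784.Commute

variable {K : Type u} [Field K] [IsAlgClosed K]

/-- A morphism from a connected reduced scheme taking finitely many values is constant. -/
theorem eq_const_of_finite {X Y : Over (Spec (CommRingCat.of K))} [LocallyOfFiniteType X.hom]
    [IsReduced X.left] [ConnectedSpace X.left] [LocallyOfFiniteType Y.hom] [IsSeparated Y.hom] (f : X ⟶ Y)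
    (h : (Set.range fun x : 𝟙_ (Over (Spec (CommRingCat.of K))) ⟶ X => x ≫ f).Finite)
    (x₀ : 𝟙_ (Over (Spec (CommRingCat.of K))) ⟶ X) : f = toUnit X ≫ x₀ ≫ f := by
  classical
  -- the values
  set F : Set (𝟙_ (Over (Spec (CommRingCat.of K))) ⟶ Y) :=
    Set.range fun x : 𝟙_ (Over (Spec (CommRingCat.of K))) ⟶ X => x ≫ f with hF
  have hcl : ∀ S : Set (𝟙_ (Over (Spec (CommRingCat.of K))) ⟶ Y), S ⊆ F →
      IsClosed (f.left ⁻¹' (pt '' S)) := by
    intro S hS
    have h1 : IsClosed (pt '' S) := by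
      have : pt '' S = ⋃ y ∈ S, {pt y} := by ext; simp [eq_comm]
      rw [this]
      exact (h.subset hS).isClosed_biUnion fun y _ => isClosed_pt y
    exact h1.preimage f.left.continuous
  have hun : ∀ z : X.left, z ∈ f.left ⁻¹' (pt '' F) := by
    have h1 : (Set.univ : Set X.left) ⊆ f.left ⁻¹' (pt '' F) := by
      refine subset_of_forall_pt isClosed_univ.isLocallyClosed (hcl F subset_rfl) ?_
      intro x _
      exact ⟨x ≫ f, ⟨x, rfl⟩, pt_comp x f⟩
    exact fun z => h1 (Set.mem_univ z)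
  have hopen : IsOpen (f.left ⁻¹' (pt '' {x₀ ≫ f})) := by
    have h1 : f.left ⁻¹' (pt '' {x₀ ≫ f}) = (f.left ⁻¹' (pt '' (F \ {x₀ ≫ f})))ᶜ := by
      ext z
      constructor
      · rintro ⟨y, hy, hyz⟩ ⟨y', hy', hyz'⟩
        rw [← hyz] at hyz'
        have := pt_injective hyz'
        subst this
        exact hy'.2 hy
      · intro hz
        obtain ⟨y, hy, hyz⟩ := hun z
        by_cases h2 : y = x₀ ≫ f
        · exact ⟨y, h2, hyz⟩
        · exact (hz ⟨y, ⟨hy, h2⟩, hyz⟩).elim
    rw [h1]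
    exact (hcl _ Set.sdiff_subset).isOpen_compl
  have hclopen : IsClopen (f.left ⁻¹' (pt '' {x₀ ≫ f})) := ⟨hcl _ (by rintro _ rfl; exact ⟨x₀, rfl⟩), hopen⟩
  have huniv := hclopen.eq_univ ⟨pt x₀, x₀ ≫ f, rfl, pt_comp x₀ f⟩
  refine hom_ext_of_points _ _ fun x => ?_
  have h3 : pt x ∈ f.left ⁻¹' (pt '' {x₀ ≫ f}) := by rw [huniv]; trivial
  obtain ⟨y, rfl, hy⟩ := h3
  rw [← pt_comp] at hy
  rw [← pt_injective hy, ← Category.assoc, toUnit_unique (x ≫ toUnit X) (𝟙 _), Category.id_comp]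

/-- The torsion points of a torus of given order are finite in number. -/
theorem finite_torsion {T : Over (Spec (CommRingCat.of K))} [GrpObj T] (hT : Red.IsTorus T) {m : ℕ} (hm : 0 < m) :
    {x : 𝟙_ (Over (Spec (CommRingCat.of K))) ⟶ T | x ^ m = 1}.Finite := by
  obtain ⟨n, e, he⟩ := isTorus_iff.1 hT
  have h1 : Finite {u : Kˣ // u ^ m = 1} := by
    have : NeZero m := ⟨hm.ne'⟩
    have h2 : Finite (rootsOfUnity m K) := inferInstance
    exact Finite.of_equiv _ (Equiv.subtypeEquivRight (p := fun u => u ∈ rootsOfUnity m K)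
      (q := fun u : Kˣ => u ^ m = 1) fun u => by rw [mem_rootsOfUnity])
  have h3 : Finite {x : 𝟙_ (Over (Spec (CommRingCat.of K))) ⟶ SpecOver K (KZ K n) // x ^ m = 1} :=
    Finite.of_equiv _ (FieldExt.torsEquiv (K := K) n m).symm
  have h4 : Finite {x : 𝟙_ (Over (Spec (CommRingCat.of K))) ⟶ T // x ^ m = 1} := by
    refine Finite.of_injective (β := {x : 𝟙_ (Over (Spec (CommRingCat.of K))) ⟶ SpecOver K (KZ K n) // x ^ m = 1})
      (fun x => ⟨x.1 ≫ e.hom, by rw [← MonObj.pow_comp, x.2, MonObj.one_comp]⟩) ?_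
    intro x y hxy
    have : x.1 ≫ e.hom = y.1 ≫ e.hom := congrArg Subtype.val hxy
    exact Subtype.ext ((cancel_mono e.hom).1 this)
  exact h4

/-- A normal torus in a smooth connected group over an algebraically closed field is central. -/
theorem central_of_normal {G T : Over (Spec (CommRingCat.of K))} [GrpObj G] [GrpObj T] [Smooth G.hom]
    [ConnectedSpace G.left] (i : T ⟶ G) [IsMonHom i] [Mono i] (hT : Red.IsTorus T)
    (hn : AlgGrp.IsNormalHom i) {X : Over (Spec (CommRingCat.of K))} (g : X ⟶ G) (t : X ⟶ T) :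
    g * (t ≫ i) = (t ≫ i) * g := by
  have hTs := Tori.smooth hT
  have hsep : IsSeparated T.hom := Books.AntiAffine.isSeparated_hom T
  have hsepG : IsSeparated G.hom := Books.AntiAffine.isSeparated_hom G
  have hred : IsReduced G.left := Etcore.SmoothRed.isReduced_of_smooth G.hom
  -- torsion points are central
  have h1 : ∀ x : 𝟙_ (Over (Spec (CommRingCat.of K))) ⟶ T, (∃ m : ℕ, 0 < m ∧ x ^ m = 1) →
      ∀ g : 𝟙_ (Over (Spec (CommRingCat.of K))) ⟶ G, g * (x ≫ i) * g⁻¹ = x ≫ i := by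
    rintro x ⟨m, hm, hx⟩ g
    obtain ⟨c, hc⟩ := hn G (𝟙 G) (toUnit G ≫ x)
    have hc' : ∀ y : 𝟙_ (Over (Spec (CommRingCat.of K))) ⟶ G, (y ≫ c) ≫ i = y * (x ≫ i) * y⁻¹ := by
      intro y
      rw [Category.assoc, ← hc, MonObj.comp_mul, MonObj.comp_mul, Category.comp_id, GrpObj.comp_inv, Category.comp_id,
        Category.assoc, ← Category.assoc y, toUnit_unique (y ≫ toUnit G) (𝟙 _), Category.id_comp]
    have hcm : ∀ y : 𝟙_ (Over (Spec (CommRingCat.of K))) ⟶ G, (y ≫ c) ^ m = 1 := by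
      intro y
      rw [← cancel_mono i, MonObj.pow_comp, hc', conj_pow, ← MonObj.pow_comp, hx, MonObj.one_comp]
      simp
    have hconst := eq_const_of_finite c ((finite_torsion hT hm).subset (by rintro _ ⟨y, rfl⟩; exact hcm y)) η[G]
    have h2 : ∀ y : 𝟙_ (Over (Spec (CommRingCat.of K))) ⟶ G, y ≫ c = η[G] ≫ c := by
      intro y
      conv_lhs => rw [hconst]
      rw [← Category.assoc, toUnit_unique (y ≫ toUnit G) (𝟙 _), Category.id_comp]
    have h3 : (η[G] ≫ c) ≫ i = x ≫ i := by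
      rw [hc' η[G], MonObj.one_eq_one]; simp
    rw [← hc', h2, h3]
  -- all the points of the torus are central
  have h2 : ∀ (g : 𝟙_ (Over (Spec (CommRingCat.of K))) ⟶ G), i ≫ (conjIso g).hom = i := by
    intro g
    refine hom_ext_torsion hT _ _ fun x hx => ?_
    rw [comp_conjIso_hom, MonObj.comp_mul, MonObj.comp_mul, GrpObj.comp_inv, ← Category.assoc,
      toUnit_unique (x ≫ toUnit T) (𝟙 _), Category.id_comp]
    exact h1 x hx g
  have h3 : (fst G T) * (snd G T ≫ i) = (snd G T ≫ i) * fst G T := by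
    have hs : Smooth (G ⊗ T).hom := inferInstanceAs (Smooth (pullback.fst G.hom T.hom ≫ G.hom))
    have hr : IsReduced (G ⊗ T).left := Etcore.SmoothRed.isReduced_of_smooth (G ⊗ T).hom
    refine hom_ext_of_points _ _ fun x => ?_
    have h4 := congrArg (fun f => (x ≫ snd G T) ≫ f) (h2 (x ≫ fst G T))
    simp only [comp_conjIso_hom] at h4
    rw [MonObj.comp_mul, MonObj.comp_mul, GrpObj.comp_inv, ← Category.assoc,
      toUnit_unique ((x ≫ snd G T) ≫ toUnit T) (𝟙 _), Category.id_comp] at h4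
    rw [MonObj.comp_mul, MonObj.comp_mul, ← Category.assoc x (snd G T) i]
    conv_rhs => rw [← h4]
    simp
  have h5 := congrArg (fun f => lift g t ≫ f) h3
  simpa [MonObj.comp_mul] using h5

end K402.Central
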