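import Groth.Agent.AlgGrp.K402.SemiAb
import Groth.Agent.AlgGrp.K402.Central
import Groth.Agent.Sga7.H109.ProperAffine
import Groth.Agent.S3027
import Groth.Agent.S3280

/-!
# Semi-abelian varieties are commutative
-/

set_option autoImplicit false
universe u
open CategoryTheory MonoidalCategory CartesianMonoidalCategory MonObj GrpObj AlgebraicGeometry Limits

namespace K402.Comm

open Groth.Agent SemiAb

/-- A group object whose groups of points are commutative is commutative. -/
theorem isCommMonObj_of_points {C : Type*} [Category C] [CartesianMonoidalCategory C] [BraidedCategory C]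
    (U : C) [GrpObj U] (h : ∀ (T : C) (a b : T ⟶ U), a * b = b * a) : IsCommMonObj U := by
  constructor
  have h2 : (μ[U] : U ⊗ U ⟶ U) = fst U U * snd U U := by
    rw [Hom.mul_def, lift_fst_snd, Category.id_comp]
  conv_rhs => rw [h2, h, Hom.mul_def]
  congr 1
  ext1 <;> simp

section field

variable {k : Type u} [Field k]

lemma isMonHom_of_comp_mono {C : Type*} [Category C] [CartesianMonoidalCategory C] {A B D : C} [GrpObj A] [GrpObj B]
    [GrpObj D] (f : A ⟶ B) (i : B ⟶ D) [IsMonHom i] [Mono i] [h : IsMonHom (f ≫ i)] : IsMonHom f where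
  one_hom := by rw [← cancel_mono i, Category.assoc, IsMonHom.one_hom, IsMonHom.one_hom]
  mul_hom := by
    rw [← cancel_mono i, Category.assoc, IsMonHom.mul_hom (f := f ≫ i), Category.assoc, IsMonHom.mul_hom (f := i),
      ← Category.assoc, MonoidalCategory.tensorHom_comp_tensorHom]

/-- A normal torus of a smooth connected group over a field is central. -/
theorem central_of_normal {G T : Over (Spec (CommRingCat.of k))} [GrpObj G] [GrpObj T] [Smooth G.hom]
    [ConnectedSpace G.left] (i : T ⟶ G) [IsMonHom i] [Mono i] (hT : Red.IsTorus T)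
    (hn : AlgGrp.IsNormalHom i) {X : Over (Spec (CommRingCat.of k))} (g : X ⟶ G) (t : X ⟶ T) :
    g * (t ≫ i) = (t ≫ i) * g := by
  let K : Type u := AlgebraicClosure k
  let f : Spec (CommRingCat.of K) ⟶ Spec (CommRingCat.of k) := Spec.map (CommRingCat.ofHom (algebraMap k K))
  have hgc := Sga3.H821.ChevDesc.geometricallyConnected G
  have i1 : Smooth (Red.bc f G).hom := inferInstanceAs (Smooth (pullback.snd G.hom f))
  have i3 : ConnectedSpace (Red.bc f G).left := by
    have : GeometricallyConnected (pullback.snd G.hom f) := inferInstance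
    exact GeometricallyConnected.connectedSpace_of_subsingleton (pullback.snd G.hom f)
  have hn' := Sga3B.NormBc.isNormalHom_bc f i hn
  have hT' : Red.IsTorus (Red.bc f T) := Sga3B.TorusBc.isTorus_bc f hT
  have hm : Mono ((Over.pullback f).map i) := inferInstance
  have key := Central.central_of_normal ((Over.pullback f).map i) hT' hn' ((Over.pullback f).map g)
    ((Over.pullback f).map t)
  apply (Over.pullback f).map_injective
  rw [Functor.map_mul, Functor.map_mul, Functor.map_comp]
  exact key

/-- **Semi-abelian varieties are commutative**. -/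
theorem isCommMonObj {G : Over (Spec (CommRingCat.of k))} [GrpObj G] [QuasiCompact G.hom] (h : SemiAb G) :
    IsCommMonObj G := by
  have hs := smooth h
  have hc := connectedSpace h
  obtain ⟨T, _, i, A, _, q, h1, h2, h3, h4, h5, h6, h7, h8, h9, h10⟩ := h
  obtain ⟨Z, _, z, hz1, hz2, hz3, Q, _, p, hp1, hp2, hp3, hp4, hp5, hp6⟩ := S3027.result k G
  have hm : Mono i := Books.AlgPtsGrp.mono_of_isClosedImmersion i
  have hn : AlgGrp.IsNormalHom i := Sga3.H821.AffProper.isNormalHom_of_isKernel k i q h7
  have hip : i ≫ p = 1 := by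
    obtain ⟨y, hy⟩ := (hz3 T i).2 fun T' t g => (central_of_normal i h3 hn g t).symm
    rw [← hy, Category.assoc]
    have : z ≫ p = 1 := hp6.w
    rw [this, MonObj.comp_one]
  obtain ⟨ψ, hψ1, hψ2, -⟩ := S3280.result k G T A Q q i h7 p (by rw [hip]; rfl)
  have hψ : ψ = 1 := Sga7.H109.ProperAffine.hom_eq_one k A Q ψ
  have hp : p = 1 := by rw [← hψ2, hψ, MonObj.comp_one]
  obtain ⟨y, hy⟩ := Sga3.H794.ChevKer.exists_lift_ker hp6 (𝟙 G) (by rw [Category.id_comp, hp])
  have hcent := (hz3 G (𝟙 G)).1 ⟨y, hy⟩
  refine isCommMonObj_of_points G fun X a b => ?_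
  simpa using hcent X a b

end field

end K402.Comm
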