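import Groth.Agent.Sga3B.GaPts
import Groth.Agent.Sga3B.TorusAlgClosed
import Mathlib.Algebra.Polynomial.RingDivision

/-!
# Homomorphisms from the additive group to a diagonalizable group are trivial
-/

set_option autoImplicit false
universe u
open CategoryTheory MonoidalCategory CartesianMonoidalCategory MonObj GrpObj AlgebraicGeometry Limits

namespace K402.GaTor

open Groth.Agent Groth.Agent.Sga3B DSPts GaPts

variable {k : Type u} [Field k]

/-- The structure map on global functions. -/
noncomputable def str (T : Over (Spec (CommRingCat.of k))) : k →+* Γ(T.left, ⊤) :=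
  ((Scheme.ΓSpecIso (CommRingCat.of k)).inv ≫ T.hom.appTop).hom

lemma str_hom (T : Over (Spec (CommRingCat.of k))) :
    T.left.toSpecΓ ≫ Spec.map (CommRingCat.ofHom (str T)) = T.hom := by
  have h : CommRingCat.ofHom (str T) = (Scheme.ΓSpecIso (CommRingCat.of k)).inv ≫ T.hom.appTop := rfl
  rw [h, Spec.map_comp, ← Scheme.toSpecΓ_naturality_assoc, toSpecΓ_SpecMap_ΓSpecIso_inv, Category.comp_id]

lemma comp_str {T T' : Over (Spec (CommRingCat.of k))} (h : T' ⟶ T) (r : k) :
    h.left.appTop (str T r) = str T' r := by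
  have h1 : T.hom.appTop ≫ h.left.appTop = T'.hom.appTop := by
    rw [← Scheme.Hom.comp_appTop, Over.w]
  have h2 := congrArg (fun f => f.hom ((Scheme.ΓSpecIso (CommRingCat.of k)).inv r)) h1
  exact h2

variable (k) in
/-- The affine line. -/
noncomputable abbrev line : Over (Spec (CommRingCat.of k)) :=
  Over.mk (Spec.map (CommRingCat.ofHom (algebraMap k (Polynomial k))))

variable (k) in
/-- The coordinate of the affine line. -/
noncomputable def coord : Γ((line k).left, ⊤) := (Scheme.ΓSpecIso (CommRingCat.of (Polynomial k))).inv Polynomial.X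

lemma str_line (r : k) : str (line k) r = (Scheme.ΓSpecIso (CommRingCat.of (Polynomial k))).inv (Polynomial.C r) := by
  have h := Scheme.ΓSpecIso_inv_naturality (CommRingCat.ofHom (algebraMap k (Polynomial k)))
  have h2 := congrArg (fun f => f.hom r) h
  exact h2.symm

/-- Functions are morphisms to the affine line. -/
lemma exists_map (T : Over (Spec (CommRingCat.of k))) (t : Γ(T.left, ⊤)) :
    ∃ h : T ⟶ line k, h.left.appTop (coord k) = t := by
  let φ : Polynomial k →+* Γ(T.left, ⊤) := Polynomial.eval₂RingHom (str T) t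
  refine ⟨Over.homMk (T.left.toSpecΓ ≫ Spec.map (CommRingCat.ofHom φ)) ?_, ?_⟩
  · have h : φ.comp (algebraMap k (Polynomial k)) = str T := by
      ext r
      simp [φ]
    change (T.left.toSpecΓ ≫ Spec.map (CommRingCat.ofHom φ)) ≫ Spec.map (CommRingCat.ofHom (algebraMap k (Polynomial k))) = T.hom
    rw [Category.assoc, ← Spec.map_comp, ← CommRingCat.ofHom_comp, h, str_hom]
  · exact (appTop_toSpecΓ_comp φ Polynomial.X).trans (by simp [φ])

/-- Units of the affine line are constants. -/
lemma exists_const (x : Γ((line k).left, ⊤)) (hx : IsUnit x) : ∃ r : k, x = str (line k) r := by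
  have h := hx.map (Scheme.ΓSpecIso (CommRingCat.of (Polynomial k))).hom.hom
  obtain ⟨r, -, hr⟩ := Polynomial.isUnit_iff.1 h
  refine ⟨r, ?_⟩
  rw [str_line, hr]
  exact ((Scheme.ΓSpecIso (CommRingCat.of (Polynomial k))).hom_inv_id_apply x).symm

lemma dsChar_one (T : Over (Spec (CommRingCat.of k))) (M : Type) [AddCommGroup M] :
    dsChar (1 : T ⟶ Red.DS (Spec (CommRingCat.of k)) M) = 1 := by
  have h5 : dsChar (1 : T ⟶ Red.DS (Spec (CommRingCat.of k)) M) =
      dsChar (1 : T ⟶ Red.DS (Spec (CommRingCat.of k)) M) * dsChar (1 : T ⟶ Red.DS (Spec (CommRingCat.of k)) M) :=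
    (congrArg dsChar (_root_.mul_one (1 : T ⟶ Red.DS (Spec (CommRingCat.of k)) M)).symm).trans (dsChar_mul _ _)
  refine MonoidHom.ext fun m => ?_
  have h6 := DFunLike.congr_fun h5 m
  have h7 : IsUnit (dsChar (1 : T ⟶ Red.DS (Spec (CommRingCat.of k)) M) m) := (Group.isUnit m).map _
  rw [MonoidHom.mul_apply] at h6
  exact (h7.mul_eq_left.1 h6.symm)

/-- Homomorphisms from the additive group to a diagonalizable group are trivial. -/
theorem hom_ds_eq_one {M : Type} [AddCommGroup M]
    (j : Red.Ga (Spec (CommRingCat.of k)) ⟶ Red.DS (Spec (CommRingCat.of k)) M) [IsMonHom j] : j = 1 := by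
  have key : gaPt (line k) (coord k) ≫ j = 1 := by
    have h1 : dsChar (gaPt (line k) (coord k) ≫ j) = 1 := by
      refine MonoidHom.ext fun m => ?_
      have hu : IsUnit (dsChar (gaPt (line k) (coord k) ≫ j) m) := (Group.isUnit m).map _
      obtain ⟨r, hr⟩ := exists_const _ hu
      obtain ⟨z, hz⟩ := exists_map (line k) 0
      have h2 : z ≫ gaPt (line k) (coord k) = 1 := by
        rw [comp_gaPt, hz]
        apply gaFn_injective
        rw [gaFn_gaPt, gaFn_one]
      have h3 : dsChar (z ≫ gaPt (line k) (coord k) ≫ j) m = 1 := by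
        have h8 : z ≫ gaPt (line k) (coord k) ≫ j = 1 := by
          rw [← Category.assoc, h2]
          exact MonObj.one_comp j
        rw [h8, dsChar_one]; rfl
      rw [dsChar_comp, MonoidHom.comp_apply, hr] at h3
      rw [hr]
      exact (comp_str z r).symm.trans h3
    rw [← dsEquiv_dsChar (gaPt (line k) (coord k) ≫ j), h1, ← dsChar_one (line k) M, dsEquiv_dsChar]
  obtain ⟨h, hh⟩ := exists_map (Red.Ga (Spec (CommRingCat.of k))) (Red.gaFn (𝟙 (Red.Ga (Spec (CommRingCat.of k)))))
  have h1 : h ≫ gaPt (line k) (coord k) = 𝟙 _ := by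
    rw [comp_gaPt, hh, gaPt_gaFn]
  rw [← Category.id_comp j, ← h1, Category.assoc, key, MonObj.comp_one]

/-- Homomorphisms from the additive group to a torus over an algebraically closed field are trivial. -/
theorem hom_torus_eq_one {K : Type u} [Field K] [IsAlgClosed K] {T : Over (Spec (CommRingCat.of K))} [GrpObj T]
    (hT : Red.IsTorus T) (j : Red.Ga (Spec (CommRingCat.of K)) ⟶ T) [IsMonHom j] : j = 1 := by
  obtain ⟨r, ⟨e⟩⟩ := TorusAlgClosed.exists_isSplitTorusWith hT
  have h := hom_ds_eq_one (j ≫ e.hom.hom.hom)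
  have h2 : e.hom.hom.hom ≫ e.inv.hom.hom = 𝟙 T := congrArg (fun f => f.hom.hom) e.hom_inv_id
  rw [← Category.comp_id j, ← h2, ← Category.assoc, h, MonObj.one_comp]

end K402.GaTor
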