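import Groth.Agent.AlgGrp.K402.Cross
import Groth.Agent.AlgGrp.K402.Comm
import Groth.Agent.AlgGrp.K402.GaTor
import Groth.Agent.AlgGrp.K395.Pts
import Groth.Agent.AlgGrp.K406.UnitsGeom
import Groth.Agent.Sga3.H780.PointedProd
import Groth.Agent.S1549

/-!
# Morphisms from a product of varieties to a semi-abelian variety, algebraically closed ground field
-/

set_option autoImplicit false
universe u
open CategoryTheory MonoidalCategory CartesianMonoidalCategory MonObj GrpObj AlgebraicGeometry Limits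

namespace K402.Additive

open Groth.Agent Groth.Agent.Sga3B SemiAb Cross K406.UnitsGeom

variable {K : Type u} [Field K] [IsAlgClosed K]

/-- A morphism from a product of smooth varieties to a commutative proper group is additively
decomposed. -/
theorem cross_proper_smooth (X Y A : Over (Spec (CommRingCat.of K))) [IsIntegral X.left] [Smooth X.hom]
    [IsIntegral Y.left] [Smooth Y.hom] [GrpObj A] [IsCommMonObj A] [IsProper A.hom] (f : X ⊗ Y ⟶ A)
    (x₁ : 𝟙_ (Over (Spec (CommRingCat.of K))) ⟶ X) (y₁ : 𝟙_ (Over (Spec (CommRingCat.of K))) ⟶ Y) :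
    cross x₁ y₁ f = 1 :=
  Sga3.H780.PointedProd.eq_const X Y A (cross x₁ y₁ f) x₁ y₁ η[A] (cross_right x₁ y₁ f) (cross_left x₁ y₁ f)

/-- A variety has a dense smooth open subscheme with a rational point. -/
theorem exists_smooth_open (X : Over (Spec (CommRingCat.of K))) [LocallyOfFiniteType X.hom]
    [GeometricallyIntegral X.hom] :
    ∃ (U : Over (Spec (CommRingCat.of K))) (j : U ⟶ X) (x₁ : 𝟙_ (Over (Spec (CommRingCat.of K))) ⟶ U),
      IsOpenImmersion j.left ∧ IsDominant j.left ∧ Smooth U.hom ∧ IsIntegral U.left := by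
  have hint : IsIntegral X.left := GeometricallyIntegral.isIntegral_of_subsingleton X.hom
  let : X.left.Over (Spec (CommRingCat.of K)) := ⟨X.hom⟩
  have h1 : LocallyOfFiniteType (X.left ↘ (Spec (CommRingCat.of K))) := inferInstanceAs (LocallyOfFiniteType X.hom)
  obtain ⟨U, hU, hUs⟩ := (S1549.result K X.left).1 (inferInstanceAs (GeometricallyReduced X.hom))
  have hne : Nonempty U := by
    obtain ⟨x, hx⟩ := hU.nonempty
    exact ⟨⟨x, hx⟩⟩
  let V : Over (Spec (CommRingCat.of K)) := Over.mk (U.ι ≫ X.hom)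
  have hV : Smooth V.hom := hUs
  have hVn : Nonempty V.left := hne
  obtain ⟨x₁⟩ := exists_point V
  let j : V ⟶ X := Over.homMk U.ι rfl
  refine ⟨V, j, x₁, inferInstanceAs (IsOpenImmersion U.ι), ⟨?_⟩, hV, ?_⟩
  · change DenseRange U.ι
    rw [DenseRange, Scheme.Opens.range_ι]
    exact hU
  · have : Nonempty U.toScheme := hne
    exact isIntegral_of_isOpenImmersion U.ι

/-- A morphism from a product of varieties to a commutative proper group is additively decomposed. -/
theorem exists_cross_proper (X Y : Over (Spec (CommRingCat.of K))) [LocallyOfFiniteType X.hom]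
    [LocallyOfFiniteType Y.hom] [GeometricallyIntegral X.hom] [GeometricallyIntegral Y.hom] :
    ∃ (x₁ : 𝟙_ (Over (Spec (CommRingCat.of K))) ⟶ X) (y₁ : 𝟙_ (Over (Spec (CommRingCat.of K))) ⟶ Y),
      ∀ (A : Over (Spec (CommRingCat.of K))) [GrpObj A] [IsCommMonObj A] [IsProper A.hom] (f : X ⊗ Y ⟶ A),
        cross x₁ y₁ f = 1 := by
  obtain ⟨U, j, x₁, h1, h2, h3, h4⟩ := exists_smooth_open X
  obtain ⟨V, j', y₁, g1, g2, g3, g4⟩ := exists_smooth_open Y
  refine ⟨x₁ ≫ j, y₁ ≫ j', fun A _ _ _ f => ?_⟩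
  have hint : IsIntegral X.left := GeometricallyIntegral.isIntegral_of_subsingleton X.hom
  have hint' : IsIntegral Y.left := GeometricallyIntegral.isIntegral_of_subsingleton Y.hom
  have hn : IsLocallyNoetherian Y.left := LocallyOfFiniteType.isLocallyNoetherian Y.hom
  have hXY : IsIntegral (X ⊗ Y).left := by
    change IsIntegral (pullback X.hom Y.hom)
    infer_instance
  have hdom : IsDominant (j ⊗ₘ j').left := by
    have h5 : IsOpenImmersion (j ⊗ₘ j').left :=
      Sga3C.QuotProps.tensorHom_left_of @IsOpenImmersion j j' h1 g1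
    have hne : Nonempty (U ⊗ V).left := by
      have h6 : Nonempty (𝟙_ (Over (Spec (CommRingCat.of K)))).left :=
        inferInstanceAs (Nonempty (Spec (CommRingCat.of K)))
      exact ⟨(lift x₁ y₁).left h6.some⟩
    refine ⟨?_⟩
    refine dense_iff_closure_eq.2 ?_
    have hopen : IsOpen (Set.range (j ⊗ₘ j').left) := (j ⊗ₘ j').left.isOpenEmbedding.isOpen_range
    exact (hopen.dense (Set.range_nonempty _)).closure_eq
  refine Sga3.H780.PointedProd.ext_of_dominant (U ⊗ V) (X ⊗ Y) A (j ⊗ₘ j') _ _ ?_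
  rw [cross_restrict, MonObj.comp_one]
  exact cross_proper_smooth U V A _ x₁ y₁

/-- A morphism from a product of varieties to a diagonalizable group which is trivial on the axes is
trivial. -/
theorem eq_one_of_ds {X Y : Over (Spec (CommRingCat.of K))} [IsIntegral X.left] [IsIntegral Y.left]
    [CompactSpace X.left] [QuasiSeparatedSpace X.left] [CompactSpace Y.left] [QuasiSeparatedSpace Y.left]
    {M : Type} [AddCommGroup M] (f : X ⊗ Y ⟶ Red.DS (Spec (CommRingCat.of K)) M)
    (x₁ : 𝟙_ (Over (Spec (CommRingCat.of K))) ⟶ X) (y₁ : 𝟙_ (Over (Spec (CommRingCat.of K))) ⟶ Y)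
    (h1 : lift (𝟙 X) (toUnit X ≫ y₁) ≫ f = 1) (h2 : lift (toUnit Y ≫ x₁) (𝟙 Y) ≫ f = 1) : f = 1 := by
  rw [← DSPts.dsEquiv_dsChar f, ← DSPts.dsEquiv_dsChar (1 : X ⊗ Y ⟶ Red.DS (Spec (CommRingCat.of K)) M)]
  congr 1
  refine MonoidHom.ext fun m => ?_
  rw [GaTor.dsChar_one]
  have hu : IsUnit (DSPts.dsChar f m) := (Group.isUnit m).map _
  have key := unit_prod X Y x₁ y₁ (DSPts.dsChar f m) hu
  have e1 : pull (lift (𝟙 X) (toUnit X ≫ y₁)) (DSPts.dsChar f m) = 1 := by
    have := congrArg (fun g => DSPts.dsChar g m) h1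
    simp only [DSPts.dsChar_comp, GaTor.dsChar_one] at this
    exact this
  have e2 : pull (lift (toUnit Y ≫ x₁) (𝟙 Y)) (DSPts.dsChar f m) = 1 := by
    have := congrArg (fun g => DSPts.dsChar g m) h2
    simp only [DSPts.dsChar_comp, GaTor.dsChar_one] at this
    exact this
  have e3 : ev (lift x₁ y₁) (DSPts.dsChar f m) = 1 := by
    have h3 : lift x₁ y₁ ≫ f = 1 := by
      have h4 : lift x₁ y₁ = x₁ ≫ lift (𝟙 X) (toUnit X ≫ y₁) := by
        ext
        · simp
        · simp [← Category.assoc, toUnit_unique (x₁ ≫ toUnit X) (𝟙 _)]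
      rw [h4, Category.assoc, h1, MonObj.comp_one]
    have := congrArg (fun g => DSPts.dsChar g m) h3
    simp only [DSPts.dsChar_comp, GaTor.dsChar_one] at this
    change (Scheme.ΓSpecIso (CommRingCat.of K)).hom.hom (pull (lift x₁ y₁) (DSPts.dsChar f m)) = 1
    have h5 : pull (lift x₁ y₁) (DSPts.dsChar f m) = 1 := this
    rw [h5, map_one]
  rw [e1, e2, e3, map_one, map_one, map_one, _root_.one_mul, _root_.one_mul] at key
  exact key

/-- A morphism from a product of varieties to a semi-abelian variety is additively decomposed. -/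
theorem exists_mul {X Y G : Over (Spec (CommRingCat.of K))} [LocallyOfFiniteType X.hom] [QuasiCompact X.hom]
    [LocallyOfFiniteType Y.hom] [QuasiCompact Y.hom] [GeometricallyIntegral X.hom] [GeometricallyIntegral Y.hom]
    [IsSeparated X.hom] [IsSeparated Y.hom]
    [GrpObj G] [QuasiCompact G.hom] (hG : SemiAb G) (f : X ⊗ Y ⟶ G) :
    ∃ (a : X ⟶ G) (b : Y ⟶ G), f = (fst X Y ≫ a) * (snd X Y ≫ b) := by
  have := Comm.isCommMonObj hG
  obtain ⟨T, _, i, A, _, q, h1, h2, h3, h4, h5, h6, h7, h8, h9, h10⟩ := hG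
  have hA : IsCommMonObj A := Comm.isCommMonObj (SemiAb.of_proper A)
  obtain ⟨x₁, y₁, hxy⟩ := exists_cross_proper X Y
  refine eq_mul_of_cross x₁ y₁ f ?_
  obtain ⟨F, hF⟩ := K395.Pts.exists_of_comp_eq_one h7 (cross x₁ y₁ f) (by rw [cross_comp]; exact hxy A _)
  have hm : Mono i := K395.Pts.mono_of_isKernel h7
  obtain ⟨r, ⟨e⟩⟩ := TorusAlgClosed.exists_isSplitTorusWith h3
  have hint : IsIntegral X.left := GeometricallyIntegral.isIntegral_of_subsingleton X.hom
  have hint' : IsIntegral Y.left := GeometricallyIntegral.isIntegral_of_subsingleton Y.hom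
  have hX1 : CompactSpace X.left := (quasiCompact_iff_compactSpace X.hom).1 inferInstance
  have hY1 : CompactSpace Y.left := (quasiCompact_iff_compactSpace Y.hom).1 inferInstance
  have hX2 : IsLocallyNoetherian X.left := LocallyOfFiniteType.isLocallyNoetherian X.hom
  have hY2 : IsLocallyNoetherian Y.left := LocallyOfFiniteType.isLocallyNoetherian Y.hom
  have hl : lift (𝟙 X) (toUnit X ≫ y₁) ≫ F = 1 := by
    rw [← cancel_mono i, Category.assoc, hF, cross_left, MonObj.one_comp]
  have hr : lift (toUnit Y ≫ x₁) (𝟙 Y) ≫ F = 1 := by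
    rw [← cancel_mono i, Category.assoc, hF, cross_right, MonObj.one_comp]
  have hF1 : F ≫ e.hom.hom.hom = 1 := by
    have he' : IsMonHom e.hom.hom.hom := e.hom.hom.isMonHom_hom
    refine eq_one_of_ds _ x₁ y₁ ?_ ?_
    · rw [← Category.assoc, hl]
      exact MonObj.one_comp _
    · rw [← Category.assoc, hr]
      exact MonObj.one_comp _
  have he : e.hom.hom.hom ≫ e.inv.hom.hom = 𝟙 T := congrArg (fun f => f.hom.hom) e.hom_inv_id
  have hF2 : F = 1 := by
    rw [← Category.comp_id F, ← he, ← Category.assoc, hF1, MonObj.one_comp]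
  rw [← hF, hF2, MonObj.one_comp]

end K402.Additive
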