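import Groth.Agent.AlgGrp.K402.AlbNorm

/-!
# The smallest normal subgroup with proper quotient of a non-connected smooth group
-/

set_option autoImplicit false
universe u
open CategoryTheory MonoidalCategory CartesianMonoidalCategory MonObj GrpObj AlgebraicGeometry Limits

namespace K402.AlbFin

open Groth.Agent Groth.Agent.Sga3B Groth.Agent.Sga3.H739.Fpqc AlbNorm

variable {k : Type u} [Field k]

/-- A connected open subgroup is the neutral component. -/
theorem range_eq {G G₀ : Over (Spec (CommRingCat.of k))} [GrpObj G] [GrpObj G₀] (i₀ : G₀ ⟶ G) [IsMonHom i₀]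
    [IsOpenImmersion i₀.left] [ConnectedSpace G₀.left] (s : Spec (CommRingCat.of k)) :
    Set.range i₀.left = connectedComponent (K204.Neutral.e G s) := by
  have hcl : IsClosedImmersion i₀.left := K205.Transporter.isClosedImmersion_of_isImmersion i₀
  have hclopen : IsClopen (Set.range i₀.left) :=
    ⟨i₀.left.isClosedEmbedding.isClosed_range, i₀.left.isOpenEmbedding.isOpen_range⟩
  have hmem : K204.Neutral.e G s ∈ Set.range i₀.left := by
    refine ⟨K204.Neutral.e G₀ s, ?_⟩
    have : η[G₀] ≫ i₀ = η[G] := IsMonHom.one_hom i₀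
    rw [K204.Neutral.e, K204.Neutral.e, ← this]
    rfl
  apply subset_antisymm
  · exact (isPreconnected_range i₀.left.continuous).subset_connectedComponent hmem
  · exact hclopen.connectedComponent_subset hmem

/-- The quotient by a subgroup of the neutral component is proper as soon as the quotient of the neutral
component is. -/
theorem isProper_of_neutral {G G₀ N P P₀ : Over (Spec (CommRingCat.of k))} [GrpObj G] [GrpObj G₀]
    [GrpObj P] [GrpObj P₀] [LocallyOfFiniteType G.hom] [QuasiCompact G.hom] (i₀ : G₀ ⟶ G) [IsMonHom i₀]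
    [IsOpenImmersion i₀.left] [ConnectedSpace G₀.left] (z : N ⟶ G₀) (π : G₀ ⟶ P₀) [IsMonHom π]
    [Surjective π.left] [Flat π.left] (hkπ : AlgGrp.IsKernel z π) [IsProper P₀.hom]
    (p : G ⟶ P) [IsMonHom p] [Surjective p.left] [Flat p.left] [LocallyOfFiniteType P.hom] [QuasiCompact P.hom]
    (hp : AlgGrp.IsKernel (z ≫ i₀) p) : IsProper P.hom := by
  have hcl : IsClosedImmersion i₀.left := K205.Transporter.isClosedImmersion_of_isImmersion i₀
  have hm₀ : Mono i₀ := Books.AlgPtsGrp.mono_of_isClosedImmersion i₀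
  have hr := range_eq i₀ (IsLocalRing.closedPoint k)
  have hidN : AlgGrp.IsNormalHom (𝟙 G) := by
    intro T g n
    exact ⟨g * (n ≫ 𝟙 G) * g⁻¹, (Category.comp_id _).symm⟩
  have hn : AlgGrp.IsNormalHom i₀ := by
    have := K401.SmallProper.isNormalHom_neutral (𝟙 G) hidN i₀ (IsLocalRing.closedPoint k) hr
    rwa [Category.comp_id] at this
  have hG₀f : LocallyOfFiniteType G₀.hom := by rw [← Over.w i₀]; infer_instance
  have hG₀q : QuasiCompact G₀.hom := by rw [← Over.w i₀]; infer_instance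
  obtain ⟨C, _, c, hc1, hc2, hc3, hc4, hc5, -⟩ := S3030.result k G₀ G i₀ hn
  have hEt : Etale C.hom := S5353.result k G₀ G C i₀ (IsLocalRing.closedPoint k) hr c hc5
  have hCq : QuasiCompact C.hom := Quo.quasiCompact_of_surjective c
  have hCfin : IsFinite C.hom := by
    have hart : IsLocallyArtinian (Spec (CommRingCat.of k)) :=
      Scheme.isLocallyArtinianScheme_Spec.mpr inferInstance
    have hqf := S0658.locallyQuasiFinite_of_etale C.hom
    exact IsFinite.of_locallyQuasiFinite C.hom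
  obtain ⟨ψ, hψ1, hψ2⟩ := Quo.exists_desc (z ≫ i₀) p hp c (by
    rw [Category.assoc, show i₀ ≫ c = 1 from hc5.w, MonObj.comp_one])
  obtain ⟨_, hE⟩ := KerGrp.exists_grpObj ψ
  obtain ⟨r, hr⟩ := KerGrp.exists_lift ψ (i₀ ≫ p) (by rw [Category.assoc, hψ2]; exact hc5.w)
  have hsq : IsPullback i₀ r p (KerGrp.kerι ψ) := by
    have h6 : IsPullback i₀ (r ≫ toUnit (KerGrp.kerObj ψ)) (p ≫ ψ) η[C] := by
      rw [toUnit_unique (r ≫ toUnit (KerGrp.kerObj ψ)) (toUnit G₀), hψ2]
      exact hc5
    exact IsPullback.of_bot (t := KerGrp.isPullback_ker ψ) (by simpa using h6) hr.symm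
  have hsq' : IsPullback i₀.left r.left p.left (KerGrp.kerι ψ).left := hsq.map (Over.forget _)
  have r2 : Surjective r.left := MorphismProperty.of_isPullback hsq' inferInstance
  have hrm : IsMonHom r := by
    have : IsMonHom (r ≫ KerGrp.kerι ψ) := by rw [hr]; infer_instance
    exact Sga3C.SubGrp.isMonHom_of_comp_mono r (KerGrp.kerι ψ)
  have hEf : LocallyOfFiniteType (KerGrp.kerObj ψ).hom := by rw [← Over.w (KerGrp.kerι ψ)]; infer_instance
  have hEq : QuasiCompact (KerGrp.kerObj ψ).hom := by rw [← Over.w (KerGrp.kerι ψ)]; infer_instance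
  have hzr : z ≫ r = 1 := by
    rw [← cancel_mono (KerGrp.kerι ψ), Category.assoc, hr, MonObj.one_comp, ← Category.assoc]
    exact hp.w
  obtain ⟨ρ, hρ1, hρ2⟩ := Quo.exists_desc z π hkπ r hzr
  have hρs : Surjective ρ.left := by
    have : Surjective (π.left ≫ ρ.left) := by rw [← Over.comp_left, hρ2]; exact r2
    exact Surjective.of_comp π.left ρ.left
  have hEp : IsProper (KerGrp.kerObj ψ).hom := by
    have hsep : IsSeparated (KerGrp.kerObj ψ).hom := Books.AntiAffine.isSeparated_hom _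
    have huc : UniversallyClosed (KerGrp.kerObj ψ).hom := by
      have h' : UniversallyClosed (ρ.left ≫ (KerGrp.kerObj ψ).hom) := by
        rw [Over.w]; infer_instance
      exact UniversallyClosed.of_comp_surjective ρ.left (KerGrp.kerObj ψ).hom
    exact { }
  have hψq : QuasiCompact ψ.left := by
    have : QuasiCompact (ψ.left ≫ C.hom) := by rw [Over.w]; infer_instance
    exact QuasiCompact.of_comp ψ.left C.hom
  have hψp : IsProper ψ.left := by
    rw [S3035.result k P C ψ]
    exact inferInstanceAs (IsProper (KerGrp.kerObj ψ).hom)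
  rw [← Over.w ψ]
  infer_instance

theorem main
    (G : Over (Spec (CommRingCat.of k))) [GrpObj G] [Smooth G.hom] [QuasiCompact G.hom]
    (G₀ : Over (Spec (CommRingCat.of k))) [GrpObj G₀] (i₀ : G₀ ⟶ G) [IsMonHom i₀] [IsOpenImmersion i₀.left] [ConnectedSpace ↥G₀.left]
    (A : Over (Spec (CommRingCat.of k))) [GrpObj A] [IsProper A.hom] [Smooth A.hom] [ConnectedSpace ↥A.left]
    (α : G₀ ⟶ A) [IsMonHom α] [Surjective α.left] [Flat α.left]
    (hα : ∀ (B : Over (Spec (CommRingCat.of k))) [GrpObj B] [IsProper B.hom] [Smooth B.hom] [ConnectedSpace ↥B.left] (f : G₀ ⟶ B),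
      η[G₀] ≫ f = η[B] → ∃! g : A ⟶ B, α ≫ g = f)
    (N : Over (Spec (CommRingCat.of k))) [GrpObj N] (j : N ⟶ G₀) [IsMonHom j] [IsClosedImmersion j.left] (hN : AlgGrp.IsKernel j α) :
    AlgGrp.IsNormalHom (j ≫ i₀) ∧ IsAffine N.left ∧ ConnectedSpace ↥N.left ∧
      (∃ (Q : Over (Spec (CommRingCat.of k))) (_ : GrpObj Q) (q : G ⟶ Q), IsMonHom q ∧ Surjective q.left ∧ Flat q.left ∧
        AlgGrp.IsKernel (j ≫ i₀) q ∧ IsProper Q.hom) ∧
      ∀ (Q' : Over (Spec (CommRingCat.of k))) [GrpObj Q'] [IsProper Q'.hom] (q' : G ⟶ Q') [IsMonHom q'] [Surjective q'.left] [Flat q'.left],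
        (j ≫ i₀) ≫ q' = 1 := by
  have hcl : IsClosedImmersion i₀.left := K205.Transporter.isClosedImmersion_of_isImmersion i₀
  have hm₀ : Mono i₀ := Books.AlgPtsGrp.mono_of_isClosedImmersion i₀
  have hmj : Mono j := Books.AlgPtsGrp.mono_of_isClosedImmersion j
  have hr := range_eq i₀ (IsLocalRing.closedPoint k)
  have hidN : AlgGrp.IsNormalHom (𝟙 G) := by
    intro T g n
    exact ⟨g * (n ≫ 𝟙 G) * g⁻¹, (Category.comp_id _).symm⟩
  have hn : AlgGrp.IsNormalHom i₀ := by
    have := K401.SmallProper.isNormalHom_neutral (𝟙 G) hidN i₀ (IsLocalRing.closedPoint k) hr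
    rwa [Category.comp_id] at this
  have hG₀s : Smooth G₀.hom := by rw [← Over.w i₀]; infer_instance
  have hG₀q : QuasiCompact G₀.hom := by rw [← Over.w i₀]; infer_instance
  -- homomorphisms from the neutral component to proper groups kill `N`
  have hkill : ∀ (P : Over (Spec (CommRingCat.of k))) [GrpObj P] [IsProper P.hom] (v : G₀ ⟶ P) [IsMonHom v],
      j ≫ v = 1 := by
    intro P _ _ v _
    obtain ⟨Q, _, q, m, hq, hm, hqm, hmc, hs, hf, hqc, hQ, hk⟩ := K401.ProperQuot.exists_image G₀ P v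
    have hQs : Smooth Q.hom := Quo.smooth_of_quotient q
    have hQc : ConnectedSpace Q.left := Quo.connected_of_surjective q
    obtain ⟨g, hg, -⟩ := hα Q q (IsMonHom.one_hom q)
    have hjα : j ≫ α = 1 := hN.w
    have hg1 : η[A] ≫ g = η[Q] := by
      rw [← IsMonHom.one_hom α, Category.assoc]
      have : α ≫ g = q := hg
      rw [this, IsMonHom.one_hom]
    rw [← hqm, ← hg, Category.assoc, ← Category.assoc, hjα]
    have : (1 : N ⟶ A) ≫ g = 1 := by
      have h0 : (1 : N ⟶ A) = toUnit N ≫ η[A] := by rw [MonObj.one_eq_one, MonObj.comp_one]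
      rw [h0, Category.assoc, hg1, MonObj.one_eq_one, MonObj.comp_one]
    rw [← Category.assoc, this, MonObj.one_comp]
  -- the smallest subgroup of `G`
  obtain ⟨N', _, n', Q, _, q, h1, h2, h3, h4, h5, h6, h7, h8, h9, h10, h11⟩ := Albanese.exists_smallest G
  have hmn' : Mono n' := Books.AlgPtsGrp.mono_of_isClosedImmersion n'
  -- `N ≤ N'`
  obtain ⟨a, ha⟩ := K395.Pts.exists_of_comp_eq_one h9 (j ≫ i₀) (by
    rw [Category.assoc]
    exact hkill Q (i₀ ≫ q))
  -- `N' ≤ N`
  obtain ⟨Z, _, z, hz1, hz2, hz3, hz3', hz4, hz5⟩ := exists_core i₀ hn α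
  obtain ⟨P₀, _, π, hπ1, hπ2, hπ3, hπ4, hπ5, hπ6, hπ7⟩ := Quo.exists_quotient z hz3'
  have hP₀s : Smooth P₀.hom := hπ7 inferInstance
  have hP₀c : ConnectedSpace P₀.left := Quo.connected_of_surjective π
  have hcovπ : Cov π := K395.CovKit.cov_of π
  have hP₀ : IsProper P₀.hom := isProper_quot i₀ hn α z hz5 π hcovπ hπ4
  have hzi : IsMonHom (z ≫ i₀) := inferInstance
  have hzc : IsClosedImmersion (z ≫ i₀).left := by rw [Over.comp_left]; infer_instance
  obtain ⟨P, _, p, hp1, hp2, hp3, hp4, hp5, hp6, hp7⟩ := Quo.exists_quotient (z ≫ i₀) hz3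
  have hP : IsProper P.hom := isProper_of_neutral i₀ z π hπ4 p hp4
  obtain ⟨b, hb⟩ := K395.Pts.exists_of_comp_eq_one hp4 n' (h11 P p)
  obtain ⟨b', hb'⟩ := K395.Pts.exists_of_comp_eq_one hN z hz4
  -- the isomorphism
  have hinv : (b ≫ b') ≫ j ≫ i₀ = n' := by
    rw [Category.assoc, ← Category.assoc b', hb', hb]
  have hab : a ≫ b ≫ b' = 𝟙 _ := by
    rw [← cancel_mono (j ≫ i₀), Category.assoc, hinv, ha, Category.id_comp]
  have hba : (b ≫ b') ≫ a = 𝟙 _ := by
    rw [← cancel_mono n', Category.assoc, ha, hinv, Category.id_comp]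
  have haI : IsIso a := ⟨b ≫ b', hab, hba⟩
  have haL : IsIso a.left := inferInstanceAs (IsIso ((Over.forget _).map a))
  have hkq : AlgGrp.IsKernel (j ≫ i₀) q := by
    apply K395.Pts.isKernel_of_pts
    · intro T x
      rw [← ha, ← Category.assoc]
      exact K395.Pts.comp_eq_one h9 _
    · intro T x hx
      obtain ⟨y, hy⟩ := K395.Pts.exists_of_comp_eq_one h9 x hx
      refine ⟨y ≫ b ≫ b', ?_⟩
      rw [Category.assoc, hinv, hy]
  refine ⟨K395.Quo.isNormalHom_ker _ q hkq, .of_isIso a.left, ?_, ⟨Q, inferInstance, q, h6, h7, h8, hkq, h10⟩, ?_⟩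
  · have : Function.Surjective (inv a.left) := (inv a.left).surjective
    exact this.connectedSpace (inv a.left).continuous
  · intro Q' _ _ q' _ _ _
    rw [← ha, Category.assoc, h11 Q' q', MonObj.comp_one]

end K402.AlbFin
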