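import Groth.Agent.AlgGrp.K402.Albanese
import Groth.Agent.AlgGrp.K413.EqLocus
import Groth.Agent.SGA3.K205.Transporter
import Groth.Agent.Sga3B.RG.BrPts
import Groth.Agent.Sga3.H794.ChevClosed
import Groth.Agent.S5353
import Groth.Agent.S0658

/-!
# Normality of the kernel of the Albanese homomorphism of the neutral component

For a homomorphism `α : G₀ ⟶ A` from an open normal subgroup to a proper group, the core of its kernel in `G`,
and properness of the quotient by it.
-/

set_option autoImplicit false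
universe u
open CategoryTheory MonoidalCategory CartesianMonoidalCategory MonObj GrpObj AlgebraicGeometry Limits

namespace K402.AlbNorm

open Groth.Agent Groth.Agent.Sga3B Groth.Agent.Sga3B.BcPts Groth.Agent.Sga3.H739.Fpqc

variable {k : Type u} [Field k]

section conj

variable {G G₀ : Over (Spec (CommRingCat.of k))} [GrpObj G] [GrpObj G₀] (i₀ : G₀ ⟶ G)
  (hn : AlgGrp.IsNormalHom i₀)

/-- Conjugation of `G` on a normal subgroup. -/
noncomputable def cj : G ⊗ G₀ ⟶ G₀ := (hn (G ⊗ G₀) (fst _ _) (snd _ _)).choose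

lemma cj_spec {T : Over (Spec (CommRingCat.of k))} (g : T ⟶ G) (x : T ⟶ G₀) :
    (lift g x ≫ cj i₀ hn) ≫ i₀ = g * (x ≫ i₀) * g⁻¹ := by
  rw [Category.assoc, cj, ← (hn (G ⊗ G₀) (fst _ _) (snd _ _)).choose_spec, MonObj.comp_mul, MonObj.comp_mul,
    GrpObj.comp_inv, lift_fst, lift_snd_assoc]

variable [IsMonHom i₀] [Mono i₀]

lemma cj_mul {T : Over (Spec (CommRingCat.of k))} (g : T ⟶ G) (x y : T ⟶ G₀) :
    lift g (x * y) ≫ cj i₀ hn = (lift g x ≫ cj i₀ hn) * (lift g y ≫ cj i₀ hn) := by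
  rw [← cancel_mono i₀, cj_spec, MonObj.mul_comp, MonObj.mul_comp, cj_spec, cj_spec]
  group

lemma cj_one {T : Over (Spec (CommRingCat.of k))} (g : T ⟶ G) : lift g (1 : T ⟶ G₀) ≫ cj i₀ hn = 1 := by
  rw [← cancel_mono i₀, cj_spec, MonObj.one_comp, _root_.mul_one, mul_inv_cancel]

lemma cj_inv {T : Over (Spec (CommRingCat.of k))} (g : T ⟶ G) (x : T ⟶ G₀) :
    lift g x⁻¹ ≫ cj i₀ hn = (lift g x ≫ cj i₀ hn)⁻¹ := by
  rw [eq_inv_iff_mul_eq_one, ← cj_mul, inv_mul_cancel, cj_one]

omit [IsMonHom i₀] in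
lemma cj_cj {T : Over (Spec (CommRingCat.of k))} (g h : T ⟶ G) (x : T ⟶ G₀) :
    lift g (lift h x ≫ cj i₀ hn) ≫ cj i₀ hn = lift (g * h) x ≫ cj i₀ hn := by
  rw [← cancel_mono i₀, cj_spec, cj_spec, cj_spec]
  group

omit [IsMonHom i₀] in
lemma one_cj {T : Over (Spec (CommRingCat.of k))} (x : T ⟶ G₀) :
    lift 1 x ≫ cj i₀ hn = x := by
  rw [← cancel_mono i₀, cj_spec]
  group

end conj

/-- The core: the largest subgroup of `ker α` normal in `G`. -/
theorem exists_core {G G₀ A : Over (Spec (CommRingCat.of k))} [GrpObj G] [GrpObj G₀] [GrpObj A] (i₀ : G₀ ⟶ G)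
    [IsMonHom i₀] [Mono i₀] (hn : AlgGrp.IsNormalHom i₀) (α : G₀ ⟶ A) [IsMonHom α] [IsSeparated A.hom] :
    ∃ (N : Over (Spec (CommRingCat.of k))) (_ : GrpObj N) (z : N ⟶ G₀), IsMonHom z ∧ IsClosedImmersion z.left ∧
      AlgGrp.IsNormalHom (z ≫ i₀) ∧ AlgGrp.IsNormalHom z ∧ z ≫ α = 1 ∧
      ∀ (T : Over (Spec (CommRingCat.of k))) (x : T ⟶ G₀), (∃ n : T ⟶ N, n ≫ z = x) ↔
        ∀ (T' : Over (Spec (CommRingCat.of k))) (t : T' ⟶ T) (g : T' ⟶ G),
          lift g (t ≫ x) ≫ cj i₀ hn ≫ α = 1 := by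
  obtain ⟨N, z, hz, hN⟩ := K413.EqLocus.exists_closed (cj i₀ hn ≫ α) (1 : G ⊗ G₀ ⟶ A)
  have hm : Mono z := Books.AlgPtsGrp.mono_of_isClosedImmersion z
  have key : ∀ (T : Over (Spec (CommRingCat.of k))) (x : T ⟶ G₀), (∃ n : T ⟶ N, n ≫ z = x) ↔
        ∀ (T' : Over (Spec (CommRingCat.of k))) (t : T' ⟶ T) (g : T' ⟶ G),
          lift g (t ≫ x) ≫ cj i₀ hn ≫ α = 1 := by
    intro T x
    rw [hN T x, MonObj.comp_one]
    constructor
    · intro h T' t g
      have : lift g (t ≫ x) = lift g t ≫ (G ◁ x) := by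
        rw [lift_whiskerLeft]
      rw [this, Category.assoc, h, MonObj.comp_one]
    · intro h
      have := h (G ⊗ T) (snd G T) (fst G T)
      rwa [show lift (fst G T) (snd G T ≫ x) = G ◁ x from by
        ext1
        · rw [lift_fst, whiskerLeft_fst]
        · rw [lift_snd, whiskerLeft_snd]] at this
  obtain ⟨_, hmz⟩ := K205.Transporter.exists_grpObj_of_mem z
    (by
      rw [key]
      intro T' t g
      rw [MonObj.one_eq_one, MonObj.comp_one, ← Category.assoc, cj_one, MonObj.one_comp])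
    (by
      intro T x y hx hy
      rw [key] at hx hy ⊢
      intro T' t g
      rw [MonObj.comp_mul, ← Category.assoc, cj_mul, MonObj.mul_comp, Category.assoc, Category.assoc, hx, hy,
        _root_.mul_one])
    (by
      intro T x hx
      rw [key] at hx ⊢
      intro T' t g
      rw [GrpObj.comp_inv, ← Category.assoc, cj_inv, GrpObj.inv_comp, Category.assoc, hx, inv_one])
  refine ⟨N, inferInstance, z, hmz, hz, ?_, ?_, ?_, key⟩
  · intro T g n
    have h := (key T (n ≫ z)).1 ⟨n, rfl⟩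
    obtain ⟨n', hn'⟩ := (key T (lift g (n ≫ z) ≫ cj i₀ hn)).2 (by
      intro T' t g'
      have h1 : t ≫ lift g (n ≫ z) ≫ cj i₀ hn = lift (t ≫ g) (t ≫ n ≫ z) ≫ cj i₀ hn := by
        rw [← Category.assoc, comp_lift]
      rw [h1, ← Category.assoc, cj_cj, Category.assoc, h])
    refine ⟨n', ?_⟩
    rw [← Category.assoc n', hn', cj_spec, Category.assoc]
  · intro T g n
    have h := (key T (n ≫ z)).1 ⟨n, rfl⟩
    obtain ⟨n', hn'⟩ := (key T (lift (g ≫ i₀) (n ≫ z) ≫ cj i₀ hn)).2 (by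
      intro T' t g'
      have h1 : t ≫ lift (g ≫ i₀) (n ≫ z) ≫ cj i₀ hn = lift (t ≫ g ≫ i₀) (t ≫ n ≫ z) ≫ cj i₀ hn := by
        rw [← Category.assoc, comp_lift]
      rw [h1, ← Category.assoc, cj_cj, Category.assoc, h])
    refine ⟨n', ?_⟩
    rw [hn', ← cancel_mono i₀, cj_spec, MonObj.mul_comp, MonObj.mul_comp, GrpObj.inv_comp]
  · have h := (key N z).1 ⟨𝟙 _, Category.id_comp _⟩ N (𝟙 _) 1
    rwa [← Category.assoc, Category.id_comp, one_cj] at h

/-- A family of homomorphisms, parametrized by a smooth scheme, from a smooth connected affine group over an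
algebraically closed extension to a proper group is trivial. -/
theorem family_eq_one {K : Type u} [Field K] [IsAlgClosed K] (f : Spec (CommRingCat.of K) ⟶ Spec (CommRingCat.of k))
    {G P A : Over (Spec (CommRingCat.of k))} [Smooth G.hom] [GrpObj P] [GrpObj A] [IsProper A.hom]
    (F : G ⊗ P ⟶ A)
    (hF : ∀ (T : Over (Spec (CommRingCat.of k))) (g : T ⟶ G) (a b : T ⟶ P),
      lift g (a * b) ≫ F = (lift g a ≫ F) * (lift g b ≫ F))
    {L : Over (Spec (CommRingCat.of K))} [GrpObj L] [IsAffine L.left] [Smooth L.hom] [ConnectedSpace L.left]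
    (l : L ⟶ Red.bc f P) [IsMonHom l] :
    (G ◁ (bcEquiv f L P).symm l) ≫ F = 1 := by
  set y := (bcEquiv f L P).symm l with hy
  have hpr : IsProper (Red.bc f A).hom := inferInstanceAs (IsProper (pullback.snd A.hom f))
  -- each member of the family is trivial
  have hφ : ∀ g : (Over.map f).obj (𝟙_ (Over (Spec (CommRingCat.of K)))) ⟶ G,
      lift ((Over.map f).map (toUnit L) ≫ g) y ≫ F = 1 := by
    intro g
    have hm : IsMonHom (bcEquiv f L A (lift ((Over.map f).map (toUnit L) ≫ g) y ≫ F)) := by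
      apply K395.Pts.isMonHom_of_pts
      intro T a b
      rw [← comp_bcEquiv, ← comp_bcEquiv, ← comp_bcEquiv, ← bcEquiv_mul]
      congr 1
      have h1 : (Over.map f).map (a * b) ≫ y = ((Over.map f).map a ≫ y) * ((Over.map f).map b ≫ y) := by
        apply (bcEquiv f T P).injective
        rw [bcEquiv_mul, comp_bcEquiv, comp_bcEquiv, comp_bcEquiv, hy, Equiv.apply_symm_apply, MonObj.mul_comp]
      have h2 : ∀ c : T ⟶ L, (Over.map f).map c ≫ (Over.map f).map (toUnit L) = (Over.map f).map (toUnit T) := by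
        intro c
        rw [← Functor.map_comp]
        congr 1
        exact toUnit_unique _ _
      rw [← Category.assoc, ← Category.assoc, ← Category.assoc, comp_lift, comp_lift, comp_lift, ← Category.assoc,
        ← Category.assoc, ← Category.assoc, h2, h2, h2, h1, hF]
    have h := Sga3.H821.AffProper.hom_eq_one K L (Red.bc f A)
      (bcEquiv f L A (lift ((Over.map f).map (toUnit L) ≫ g) y ≫ F))
    exact (bcEquiv f L A).injective (by rw [h, bcEquiv_one])
  let L' : Over (Spec (CommRingCat.of k)) := (Over.map f).obj L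
  let X : Over (Spec (CommRingCat.of K)) := Over.mk ((snd G L').left ≫ L.hom)
  have hsm : Smooth (snd G L').left := inferInstanceAs (Smooth (pullback.snd G.hom L'.hom))
  have hX : Smooth X.hom := inferInstanceAs (Smooth ((snd G L').left ≫ L.hom))
  have hXr : IsReduced X.left := Etcore.SmoothRed.isReduced_of_smooth X.hom
  let e : (Over.map f).obj X ⟶ G ⊗ L' := Over.homMk (𝟙 _) (by
    have := Over.w (snd G L')
    rw [Category.id_comp, ← this]
    exact (Category.assoc _ _ _).symm)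
  have he : IsIso e := by
    have : IsIso ((Over.forget _).map e) := inferInstanceAs (IsIso (𝟙 _))
    exact isIso_of_reflects_iso e (Over.forget _)
  let s : X ⟶ L := Over.homMk (snd G L').left rfl
  have hs : (Over.map f).map s = e ≫ snd G L' := by
    apply Over.OverMorphism.ext
    exact (Category.id_comp _).symm
  have hsep : IsSeparated (Red.bc f A).hom := inferInstance
  have hw : e ≫ (G ◁ y) ≫ F = 1 := by
    apply (bcEquiv f X A).injective
    rw [bcEquiv_one]
    apply RG.BrPts.hom_ext_of_points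
    intro x
    rw [← comp_bcEquiv, MonObj.comp_one, ← bcEquiv_one]
    congr 1
    have h1 : (Over.map f).map x ≫ e ≫ (G ◁ y) =
        lift ((Over.map f).map x ≫ e ≫ fst _ _) ((Over.map f).map (x ≫ s) ≫ y) := by
      ext1
      · rw [lift_fst, Category.assoc, Category.assoc, whiskerLeft_fst]
      · rw [lift_snd, Category.assoc, Category.assoc, whiskerLeft_snd, Functor.map_comp, hs]
        simp only [Category.assoc]
    rw [← Category.assoc, ← Category.assoc, Category.assoc _ e, h1]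
    have h2 := congrArg (fun m => (Over.map f).map (x ≫ s) ≫ m) (hφ ((Over.map f).map x ≫ e ≫ fst _ _))
    simp only [MonObj.comp_one] at h2
    rw [← Category.assoc, comp_lift, ← Category.assoc, ← Functor.map_comp,
      toUnit_unique ((x ≫ s) ≫ toUnit L) (𝟙 _), CategoryTheory.Functor.map_id, Category.id_comp] at h2
    exact h2
  rw [← cancel_epi e, hw, MonObj.comp_one]

section core

variable {G G₀ A N P : Over (Spec (CommRingCat.of k))} [GrpObj G] [GrpObj G₀] [GrpObj A] [GrpObj P]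
  (i₀ : G₀ ⟶ G) [IsMonHom i₀] [Mono i₀] (hn : AlgGrp.IsNormalHom i₀) (α : G₀ ⟶ A) [IsMonHom α]
  (z : N ⟶ G₀) (hz : ∀ (T : Over (Spec (CommRingCat.of k))) (x : T ⟶ G₀), (∃ n : T ⟶ N, n ≫ z = x) ↔
    ∀ (T' : Over (Spec (CommRingCat.of k))) (t : T' ⟶ T) (g : T' ⟶ G), lift g (t ≫ x) ≫ cj i₀ hn ≫ α = 1)
  (π : G₀ ⟶ P) [IsMonHom π] (hπ : Cov π) (hk : AlgGrp.IsKernel z π)

include hz hk hπ

/-- The family of homomorphisms on the quotient by the core. -/
theorem exists_family : ∃ F : G ⊗ P ⟶ A, (G ◁ π) ≫ F = cj i₀ hn ≫ α ∧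
    (∀ (T : Over (Spec (CommRingCat.of k))) (g : T ⟶ G) (a b : T ⟶ P),
      lift g (a * b) ≫ F = (lift g a ≫ F) * (lift g b ≫ F)) := by
  obtain ⟨F, hF⟩ := (hπ.whiskerLeft G).exists_desc (cj i₀ hn ≫ α) (by
    intro T x y hxy
    have h1 : x ≫ fst G G₀ = y ≫ fst G G₀ := by
      have := congrArg (· ≫ fst G P) hxy
      simpa using this
    have h2 : (x ≫ snd G G₀) ≫ π = (y ≫ snd G G₀) ≫ π := by
      have := congrArg (· ≫ snd G P) hxy
      simpa using this
    obtain ⟨n, hn'⟩ := K395.Pts.exists_of_comp_eq hk _ _ h2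
    have hx : x = lift (y ≫ fst G G₀) ((n ≫ z) * (y ≫ snd G G₀)) := by
      ext1
      · rw [lift_fst, h1]
      · rw [lift_snd, hn']
    have hy : y = lift (y ≫ fst G G₀) (y ≫ snd G G₀) := by
      ext1
      · rw [lift_fst]
      · rw [lift_snd]
    have h3 := (hz T (n ≫ z)).1 ⟨n, rfl⟩ T (𝟙 T) (y ≫ fst G G₀)
    rw [Category.id_comp, ← Category.assoc] at h3
    calc x ≫ cj i₀ hn ≫ α = (lift (y ≫ fst G G₀) ((n ≫ z) * (y ≫ snd G G₀)) ≫ cj i₀ hn) ≫ α := by
          rw [← hx, Category.assoc]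
      _ = (lift (y ≫ fst G G₀) (y ≫ snd G G₀) ≫ cj i₀ hn) ≫ α := by
          rw [cj_mul, MonObj.mul_comp, h3, _root_.one_mul]
      _ = y ≫ cj i₀ hn ≫ α := by
          rw [← hy, Category.assoc])
  have hF' : ∀ (T : Over (Spec (CommRingCat.of k))) (g : T ⟶ G) (x : T ⟶ G₀),
      lift g (x ≫ π) ≫ F = (lift g x ≫ cj i₀ hn) ≫ α := by
    intro T g x
    rw [Category.assoc, ← hF, ← Category.assoc, lift_whiskerLeft]
  refine ⟨F, hF, fun T g a b => ?_⟩
  obtain ⟨T₁, t₁, a₁, ht₁, ha₁⟩ := hπ.exists_local a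
  obtain ⟨T₂, t₂, b₂, ht₂, hb₂⟩ := hπ.exists_local (t₁ ≫ b)
  apply (ht₂.comp ht₁).cancel
  have ha : (t₂ ≫ a₁) ≫ π = (t₂ ≫ t₁) ≫ a := by rw [Category.assoc, ha₁, Category.assoc]
  have hb : b₂ ≫ π = (t₂ ≫ t₁) ≫ b := by rw [hb₂, Category.assoc]
  rw [MonObj.comp_mul, ← Category.assoc, ← Category.assoc (t₂ ≫ t₁) (lift g a), ← Category.assoc (t₂ ≫ t₁) (lift g b),
    comp_lift, comp_lift, comp_lift, MonObj.comp_mul, ← ha, ← hb, ← MonObj.mul_comp, hF', hF', hF', cj_mul,
    MonObj.mul_comp]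

omit [IsMonHom i₀] [Mono i₀] [IsMonHom α] [IsMonHom π] in
/-- A point of the quotient on which the family is trivial is trivial. -/
theorem eq_one_of_family (F : G ⊗ P ⟶ A) (hF : (G ◁ π) ≫ F = cj i₀ hn ≫ α)
    {T : Over (Spec (CommRingCat.of k))} (y : T ⟶ P) (hy : (G ◁ y) ≫ F = 1) : y = 1 := by
  obtain ⟨T', t, x, ht, hx⟩ := hπ.exists_local y
  obtain ⟨n, hn'⟩ := (hz T' x).2 (by
    intro T'' s g
    rw [← hF, ← Category.assoc, lift_whiskerLeft, Category.assoc, hx]
    have : lift g (s ≫ t ≫ y) = lift g (s ≫ t) ≫ (G ◁ y) := by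
      rw [lift_whiskerLeft, Category.assoc]
    rw [this, Category.assoc, hy, MonObj.comp_one])
  apply ht.cancel
  rw [← hx, ← hn', MonObj.comp_one]
  exact K395.Pts.comp_eq_one hk n

/-- The quotient of the neutral component by the core is proper. -/
theorem isProper_quot [Smooth G.hom] [IsProper A.hom] [Smooth P.hom] [QuasiCompact P.hom] [ConnectedSpace P.left] :
    IsProper P.hom := by
  let K := AlgebraicClosure k
  let f : Spec (CommRingCat.of K) ⟶ Spec (CommRingCat.of k) := Spec.map (CommRingCat.ofHom (algebraMap k K))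
  obtain ⟨F, hF, hFm⟩ := exists_family i₀ hn α z hz π hπ hk
  have i1 : Smooth (Red.bc f P).hom := inferInstanceAs (Smooth (pullback.snd P.hom f))
  have i2 : QuasiCompact (Red.bc f P).hom := inferInstanceAs (QuasiCompact (pullback.snd P.hom f))
  have i3 : ConnectedSpace (Red.bc f P).left := Quo.connectedSpace_bc f P
  obtain ⟨L, _, l, Q, _, q, h1, h2, h3, h4, h5, h6, h7, h8, h9, h10, h11, h12, h13⟩ :=
    Sga3.H794.ChevClosed.exists_chevalley K (Red.bc f P)
  have hl : l = 1 := by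
    have h := eq_one_of_family i₀ hn α z hz π hπ hk F hF _ (family_eq_one f F hFm l)
    rw [← bcEquiv_one, ← h, Equiv.apply_symm_apply]
  have hcov : Cov q := K395.CovKit.cov_of q
  obtain ⟨e, he⟩ := K395.Quo.exists_iso_of_cov q (𝟙 _) hcov ⟨inferInstanceAs (Flat (𝟙 _)), inferInstanceAs (Surjective (𝟙 _)),
      inferInstanceAs (QuasiCompact (𝟙 _))⟩ (by
    intro T x y
    constructor
    · intro h
      obtain ⟨n, hn'⟩ := K395.Pts.exists_of_comp_eq h10 x y h
      rw [hn', hl, MonObj.comp_one, _root_.one_mul]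
    · intro h
      rw [Category.comp_id, Category.comp_id] at h
      rw [h])
  have hpr : IsProper (Red.bc f P).hom := by
    have he' : IsIso e.inv.left := inferInstanceAs (IsIso ((Over.forget _).map e.inv))
    rw [← Over.w e.inv]
    infer_instance
  have := S0086.result.{u}
  exact Quo.of_bc_hom f @IsProper hpr

end core

end K402.AlbNorm
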