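import Groth.Agent.S3030
import Groth.Agent.S4091
import Groth.Agent.S0086
import Groth.Agent.S0083
import Groth.Agent.S3280
import Groth.Agent.Sga3.H821.ChevDesc
import Groth.Agent.Sga7.H760.KerBc
import Groth.Agent.Sga3B.Parab.EtHom
import Groth.Agent.Sga3B.NormBc
import Groth.Agent.AlgGrp.K395.Quo

/-!
# Quotients of algebraic groups by closed normal subgroups, and descent along field extensions
-/

set_option autoImplicit false
universe u
open CategoryTheory MonoidalCategory CartesianMonoidalCategory MonObj GrpObj AlgebraicGeometry Limits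

namespace K402.Quo

open Groth.Agent Groth.Agent.Sga3B Groth.Agent.Sga3.H739.Fpqc

section quot

variable {k : Type u} [Field k]

/-- Existence of the quotient by a closed normal subgroup. -/
theorem exists_quotient {N G : Over (Spec (CommRingCat.of k))} [GrpObj N] [GrpObj G] (i : N ⟶ G) [IsMonHom i]
    [IsClosedImmersion i.left] (hn : AlgGrp.IsNormalHom i) [LocallyOfFiniteType G.hom] [QuasiCompact G.hom] :
    ∃ (Q : Over (Spec (CommRingCat.of k))) (_ : GrpObj Q) (q : G ⟶ Q), IsMonHom q ∧ Surjective q.left ∧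
      Flat q.left ∧ AlgGrp.IsKernel i q ∧ LocallyOfFiniteType Q.hom ∧ QuasiCompact Q.hom ∧
      (Smooth G.hom → Smooth Q.hom) := by
  have hm : Mono i := Books.AlgPtsGrp.mono_of_isClosedImmersion i
  have hft : LocallyOfFiniteType N.hom := by rw [← Over.w i]; infer_instance
  obtain ⟨Q, _, q, h1, h2, h3, h4, h5, h6, h7, h8⟩ := S3030.result k N G i hn
  have h9 : LocallyOfFiniteType Q.hom := by
    have : LocallyOfFiniteType (q.left ≫ Q.hom) := by rw [Over.w]; infer_instance
    exact S4091.locallyOfFiniteType_of_fppf_comp q.left Q.hom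
  have h10 : QuasiCompact Q.hom := by
    have h : CompactSpace G.left := (quasiCompact_iff_compactSpace G.hom).1 inferInstance
    have h' : CompactSpace Q.left := h3.surj.compactSpace q.left.continuous
    exact (quasiCompact_iff_compactSpace Q.hom).2 h'
  exact ⟨Q, inferInstance, q, h1, h3, h2, h5, h9, h10, h8⟩

/-- Quotients of smooth groups are smooth. -/
theorem smooth_of_quotient {G Q : Over (Spec (CommRingCat.of k))} [GrpObj G] [GrpObj Q] (q : G ⟶ Q) [IsMonHom q]
    [Surjective q.left] [Flat q.left] [Smooth G.hom] [QuasiCompact G.hom] [LocallyOfFiniteType Q.hom] :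
    Smooth Q.hom := by
  obtain ⟨_, hm⟩ := KerGrp.exists_grpObj q
  have hsep : IsSeparated Q.hom := Books.AntiAffine.isSeparated_hom Q
  have hK : AlgGrp.IsKernel (KerGrp.kerι q) q := KerGrp.isPullback_ker q
  obtain ⟨Q', _, q', h1, h2, h3, h4, h5, h6, h7⟩ := exists_quotient (KerGrp.kerι q)
    (Sga3.H821.AffProper.isNormalHom_of_isKernel k _ q hK)
  obtain ⟨e, he⟩ := K395.Quo.exists_iso_of_kernel (KerGrp.kerι q) q q' (K395.CovKit.cov_of q)
    (K395.CovKit.cov_of q') hK h4
  have h8 := h7 inferInstance
  have : Q.hom = e.hom.left ≫ Q'.hom := (Over.w e.hom).symm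
  rw [this]
  have : IsIso e.hom.left := inferInstanceAs (IsIso ((Over.forget _).map e.hom))
  infer_instance

/-- Quotients of connected groups are connected. -/
theorem connected_of_surjective {G Q : Over (Spec (CommRingCat.of k))} (q : G ⟶ Q)
    [Surjective q.left] [ConnectedSpace G.left] : ConnectedSpace Q.left :=
  (Surjective.surj (f := q.left)).connectedSpace q.left.continuous

theorem quasiCompact_of_surjective {G Q : Over (Spec (CommRingCat.of k))} (q : G ⟶ Q)
    [Surjective q.left] [QuasiCompact G.hom] : QuasiCompact Q.hom := by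
  have h : CompactSpace G.left := (quasiCompact_iff_compactSpace G.hom).1 inferInstance
  have h' : CompactSpace Q.left := (Surjective.surj (f := q.left)).compactSpace q.left.continuous
  exact (quasiCompact_iff_compactSpace Q.hom).2 h'

/-- Factoring homomorphisms through a quotient. -/
theorem exists_desc {N G Q H : Over (Spec (CommRingCat.of k))} [GrpObj G] [GrpObj Q] [GrpObj H]
    (i : N ⟶ G) (q : G ⟶ Q) [IsMonHom q] [Surjective q.left] [Flat q.left] [LocallyOfFiniteType G.hom]
    [QuasiCompact G.hom] [LocallyOfFiniteType Q.hom] [LocallyOfFiniteType H.hom] [QuasiCompact H.hom]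
    (hK : AlgGrp.IsKernel i q) (φ : G ⟶ H) [IsMonHom φ] (hφ : i ≫ φ = 1) :
    ∃ ψ : Q ⟶ H, IsMonHom ψ ∧ q ≫ ψ = φ := by
  have := quasiCompact_of_surjective q
  obtain ⟨ψ, h1, h2, -⟩ := S3280.result k G N Q H q i hK φ (by rw [hφ]; rfl)
  exact ⟨ψ, h1, h2⟩

end quot

section desc

variable {k K : Type u} [Field k] [Field K] (f : Spec (CommRingCat.of K) ⟶ Spec (CommRingCat.of k))

instance surjective_spec : Surjective f := by
  refine ⟨fun x => ⟨Nonempty.some inferInstance, Subsingleton.elim _ _⟩⟩

lemma hff : (@Surjective ⊓ @Flat ⊓ @QuasiCompact : MorphismProperty Scheme.{u}) f :=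
  ⟨⟨inferInstance, inferInstance⟩, inferInstance⟩

theorem of_bc_hom (P : MorphismProperty Scheme.{u}) [P.DescendsAlong (@Surjective ⊓ @Flat ⊓ @QuasiCompact)]
    {X : Over (Spec (CommRingCat.of k))} (h : P (Red.bc f X).hom) : P X.hom :=
  MorphismProperty.of_pullback_snd_of_descendsAlong (Q := @Surjective ⊓ @Flat ⊓ @QuasiCompact) (g := f) (hff f) h

theorem of_bc_map (P : MorphismProperty Scheme.{u}) [P.DescendsAlong (@Surjective ⊓ @Flat ⊓ @QuasiCompact)]
    {X Y : Over (Spec (CommRingCat.of k))} (φ : X ⟶ Y) (h : P ((Over.pullback f).map φ).left) : P φ.left := by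
  have h1 := Parab.EtHom.isPullback_map f φ
  have h2 : (@Surjective ⊓ @Flat ⊓ @QuasiCompact : MorphismProperty Scheme.{u}) (Parab.EtHom.pr f Y) :=
    ⟨⟨inferInstanceAs (Surjective (pullback.fst Y.hom f)), inferInstanceAs (Flat (pullback.fst Y.hom f))⟩,
      inferInstanceAs (QuasiCompact (pullback.fst Y.hom f))⟩
  exact MorphismProperty.of_isPullback_of_descendsAlong h1.flip h2 h

theorem connectedSpace_of_bc {X : Over (Spec (CommRingCat.of k))} (h : ConnectedSpace (Red.bc f X).left) :
    ConnectedSpace X.left := by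
  have : Surjective (pullback.fst X.hom f) := inferInstance
  have h' : ConnectedSpace ↥(pullback X.hom f) := h
  exact (Surjective.surj (f := pullback.fst X.hom f)).connectedSpace (pullback.fst X.hom f).continuous

theorem connectedSpace_bc (G : Over (Spec (CommRingCat.of k))) [GrpObj G] [LocallyOfFiniteType G.hom]
    [ConnectedSpace G.left] : ConnectedSpace (Red.bc f G).left := by
  have hgc := Sga3.H821.ChevDesc.geometricallyConnected G
  have : GeometricallyConnected (pullback.snd G.hom f) := inferInstance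
  exact GeometricallyConnected.connectedSpace_of_subsingleton (pullback.snd G.hom f)

/-- A homomorphism is normal if it is so after a base change. -/
theorem isNormalHom_of_bc {N G : Over (Spec (CommRingCat.of k))} [GrpObj N] [GrpObj G] (i : N ⟶ G)
    [IsClosedImmersion i.left] (h : AlgGrp.IsNormalHom ((Over.pullback f).map i)) : AlgGrp.IsNormalHom i := by
  intro X g n
  obtain ⟨n', hn'⟩ := h (Red.bc f X) ((Over.pullback f).map g) ((Over.pullback f).map n)
  obtain ⟨x, hx⟩ := Sga3.H821.DescSub.exists_factor (f := f) i (g * (n ≫ i) * g⁻¹) ⟨n', by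
    rw [← hn', Functor.map_mul, Functor.map_mul, Functor.map_inv', Functor.map_comp]⟩
  exact ⟨x, hx.symm⟩

/-- Homomorphisms descend. -/
theorem isMonHom_of_bc {G H : Over (Spec (CommRingCat.of k))} [GrpObj G] [GrpObj H] (φ : G ⟶ H)
    (h : IsMonHom ((Over.pullback f).map φ)) : IsMonHom φ := by
  refine K395.Pts.isMonHom_of_pts φ fun T x y => ?_
  apply (Over.pullback f).map_injective
  rw [Functor.map_comp, Functor.map_mul, Functor.map_mul, MonObj.mul_comp, Functor.map_comp, Functor.map_comp]

/-- Commutativity descends. -/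
theorem comm_of_bc {G : Over (Spec (CommRingCat.of k))} [GrpObj G]
    (h : ∀ (X : Over (Spec (CommRingCat.of K))) (a b : X ⟶ Red.bc f G), a * b = b * a)
    {X : Over (Spec (CommRingCat.of k))} (a b : X ⟶ G) : a * b = b * a := by
  apply (Over.pullback f).map_injective
  rw [Functor.map_mul, Functor.map_mul]
  exact h _ _ _

/-- Kernels descend. -/
theorem isKernel_of_bc {N G Q : Over (Spec (CommRingCat.of k))} [GrpObj Q] (i : N ⟶ G)
    [IsClosedImmersion i.left] (q : G ⟶ Q)
    (h : AlgGrp.IsKernel ((Over.pullback f).map i) ((Over.pullback f).map q)) : AlgGrp.IsKernel i q := by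
  have hm : Mono i := Books.AlgPtsGrp.mono_of_isClosedImmersion i
  have h0 : i ≫ q = 1 := by
    apply (Over.pullback f).map_injective
    have h1 := ((Sga7.H760.KerBc.isKernel_iff _ _).1 h).1
    rw [Functor.map_comp, h1, Functor.map_one]
  refine (Sga7.H760.KerBc.isKernel_iff _ _).2 ⟨h0, fun T g hg => ?_⟩
  obtain ⟨y, hy, -⟩ := ((Sga7.H760.KerBc.isKernel_iff _ _).1 h).2 (Red.bc f T) ((Over.pullback f).map g) (by
    rw [← Functor.map_comp, hg, Functor.map_one])
  obtain ⟨x, hx⟩ := Sga3.H821.DescSub.exists_factor (f := f) i g ⟨y, hy⟩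
  exact ⟨x, hx, fun z hz => (cancel_mono i).1 (hz.trans hx.symm)⟩

end desc

end K402.Quo
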