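import Groth.Agent.AlgGrp.K401.SmallProper
import Groth.Agent.AlgGrp.K402.Quo
import Groth.Agent.Sga3.H780.Pointed

/-!
# The smallest normal subgroup with proper quotient

Over any field `k`, for `G` of finite type: it exists, is affine, connected and normal.
-/

set_option autoImplicit false
universe u
open CategoryTheory MonoidalCategory CartesianMonoidalCategory MonObj GrpObj AlgebraicGeometry Limits

namespace K402.Albanese

open Groth.Agent Groth.Agent.Sga3B

variable {k : Type u} [Field k]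

/-- The smallest subgroup with proper quotient: affine, connected, normal, killed by all homomorphisms to
proper groups. -/
theorem exists_smallest (G : Over (Spec (CommRingCat.of k))) [GrpObj G] [LocallyOfFiniteType G.hom]
    [QuasiCompact G.hom] :
    ∃ (N : Over (Spec (CommRingCat.of k))) (_ : GrpObj N) (i : N ⟶ G) (Q : Over (Spec (CommRingCat.of k)))
      (_ : GrpObj Q) (q : G ⟶ Q), IsMonHom i ∧ IsClosedImmersion i.left ∧ AlgGrp.IsNormalHom i ∧
      ConnectedSpace ↥N.left ∧ IsAffine N.left ∧ IsMonHom q ∧ Surjective q.left ∧ Flat q.left ∧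
      AlgGrp.IsKernel i q ∧ IsProper Q.hom ∧
      ∀ (P : Over (Spec (CommRingCat.of k))) [GrpObj P] [IsProper P.hom] (v : G ⟶ P) [IsMonHom v], i ≫ v = 1 := by
  obtain ⟨P, _, u, hu, hP, hmin⟩ := K401.SmallProper.exists_min G
  obtain ⟨_, hm⟩ := KerGrp.exists_grpObj u
  obtain ⟨Q, _, q, j, hq, hj, hqj, hjc, hs, hf, hqc, hQ, hk⟩ := K401.ProperQuot.exists_image G P u
  refine ⟨KerGrp.kerObj u, inferInstance, KerGrp.kerι u, Q, inferInstance, q, hm, inferInstance,
    K395.Quo.isNormalHom_ker _ _ hk, ?_, ?_, hq, hs, hf, hk, hQ, fun P' _ _ v _ => hmin P' _ v inferInstance inferInstance⟩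
  · obtain ⟨N₀, _, n₀, R, _, p, h1, h2, h3, h4, h5, h6, h7, h8⟩ :=
      K401.SmallProper.exists_quot_neutral (KerGrp.kerι u) q hk
    obtain ⟨g, hg⟩ := K395.Pts.exists_of_comp_eq_one h7 (KerGrp.kerι u) (hmin R _ p h4 h8)
    have hg' : g ≫ n₀ = 𝟙 _ := by
      rw [← cancel_mono (KerGrp.kerι u), Category.assoc, hg, Category.id_comp]
    have hs' : Function.Surjective n₀.left := by
      intro x
      refine ⟨g.left x, ?_⟩
      have := congrArg (fun m : KerGrp.kerObj u ⟶ KerGrp.kerObj u => m.left x) hg'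
      simpa using this
    exact hs'.connectedSpace n₀.left.continuous
  · obtain ⟨M, _, m, R, _, r, h1, h2, h3, h4, h5, h6, h7, h8, h9, h10⟩ := K401.ProperQuot.exists_quot G
    obtain ⟨g, hg⟩ := K395.Pts.exists_of_comp_eq_one h9 (KerGrp.kerι u) (hmin R _ r h5 h10)
    have hgc : IsClosedImmersion (g ≫ m).left := by rw [hg]; infer_instance
    have : IsClosedImmersion g.left := by
      rw [Over.comp_left] at hgc
      exact IsClosedImmersion.of_comp g.left m.left
    exact isAffine_of_isAffineHom g.left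

/-- The Albanese homomorphism of a smooth connected group. -/
theorem exists_albanese (G : Over (Spec (CommRingCat.of k))) [GrpObj G] [Smooth G.hom] [QuasiCompact G.hom]
    [ConnectedSpace ↥G.left] :
    ∃ (N : Over (Spec (CommRingCat.of k))) (_ : GrpObj N) (i : N ⟶ G) (A : Over (Spec (CommRingCat.of k))) (_ : GrpObj A) (α : G ⟶ A),
      IsMonHom i ∧ IsClosedImmersion i.left ∧ AlgGrp.IsNormalHom i ∧ ConnectedSpace ↥N.left ∧
      IsProper A.hom ∧ Smooth A.hom ∧ ConnectedSpace ↥A.left ∧ IsMonHom α ∧ Surjective α.left ∧ Flat α.left ∧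
      AlgGrp.IsKernel i α ∧
      (∀ (B : Over (Spec (CommRingCat.of k))) [GrpObj B] [IsProper B.hom] [Smooth B.hom] [ConnectedSpace ↥B.left] (f : G ⟶ B),
        η[G] ≫ f = η[B] → ∃! g : A ⟶ B, α ≫ g = f) ∧
      (∀ (B : Over (Spec (CommRingCat.of k))) [GrpObj B] [IsProper B.hom] [Smooth B.hom] [ConnectedSpace ↥B.left] (q : G ⟶ B)
        [IsMonHom q] [Surjective q.left] [Flat q.left], i ≫ q = 1) := by
  obtain ⟨N, _, i, Q, _, q, h1, h2, h3, h4, h5, h6, h7, h8, h9, h10, h11⟩ := exists_smallest G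
  have hcov := K395.CovKit.cov_of q
  refine ⟨N, inferInstance, i, Q, inferInstance, q, h1, h2, h3, h4, h10, Quo.smooth_of_quotient q,
    Quo.connected_of_surjective q, h6, h7, h8, h9, ?_, ?_⟩
  · intro B _ _ _ _ f hf
    have hfm : IsMonHom f := Sga3.H780.Pointed.isMonHom_of_pointed G B f hf
    obtain ⟨ψ, hψ, hqψ⟩ := Quo.exists_desc i q h9 f (h11 B f)
    refine ⟨ψ, hqψ, fun y hy => ?_⟩
    have hepi : Epi q := hcov.epi
    rw [← cancel_epi q, hy, hqψ]
  · intro B _ _ _ _ v _ _ _
    exact h11 B v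

end K402.Albanese
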