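import Groth.Agent.AlgGrp.K402.WtFin
import Groth.Agent.AlgGrp.K408.AlmPlan

/-!
# Automorphisms of almost homogeneous varieties: NODE C
-/

set_option autoImplicit false
universe u
open CategoryTheory MonoidalCategory CartesianMonoidalCategory MonObj GrpObj AlgebraicGeometry

namespace K402.AlmC

open Groth.Agent.AlgGrp.K408

theorem nodeC : AlmPlan.NodeC.{u} :=
  fun _ _ _ _ _ _ _ _ _ hT b hb x hx => K402.WtFin.finite_tau_of_faithful hT b x hx hb

end K402.AlmC
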