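import Groth.Agent.AlgGrp.K402.PowPts
import Groth.Agent.AlgGrp.K401.GenAK
import Groth.Agent.AlgGrp.K401.SmallProper
import Groth.Agent.Sga3C.GeomRedPerf
import Groth.Agent.Ega1.ReducedSub

/-!
# The reduced neutral component of a group of finite type over a perfect field
-/

set_option autoImplicit false
universe u
open CategoryTheory MonoidalCategory CartesianMonoidalCategory MonObj GrpObj AlgebraicGeometry Limits

namespace K402.RedNeut

open Groth.Agent Groth.Agent.Sga3B Groth.Agent.Books.AlgPts Groth.Agent.Books.AlgPtsGrp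

variable {k : Type u} [Field k]

/-- The reduced neutral component over a perfect field. -/
theorem exists_redNeut [PerfectField k] (N : Over (Spec (CommRingCat.of k))) [GrpObj N] [LocallyOfFiniteType N.hom] :
    ∃ (U : Over (Spec (CommRingCat.of k))) (_ : GrpObj U) (u : U ⟶ N), IsMonHom u ∧ IsClosedImmersion u.left ∧
      Smooth U.hom ∧ ConnectedSpace U.left ∧ Set.range u.left = connectedComponent (pt η[N]) := by
  let I : N.left.IdealSheafData := Scheme.IdealSheafData.vanishingIdeal ⊤
  let R : Over (Spec (CommRingCat.of k)) := Over.mk (I.subschemeι ≫ N.hom)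
  let j : R ⟶ N := Over.homMk I.subschemeι rfl
  have hj1 : IsClosedImmersion j.left := inferInstanceAs (IsClosedImmersion I.subschemeι)
  have hred : IsReduced R.left := Ega1.ReducedSub.isReduced_subscheme_vanishingIdeal _
  have hj2 : Surjective j.left := by
    refine ⟨Set.range_eq_univ.mp ?_⟩
    change Set.range I.subschemeι = _
    rw [Scheme.IdealSheafData.range_subschemeι]
    simp [I]
  have hgr : GeometricallyReduced R.hom := Sga3C.GeomRedPerf.geometricallyReduced_of_isReduced R.hom
  obtain ⟨_, hjm, hRs⟩ := K401.GenAK.exists_grpObj_of_geometricallyReduced j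
  obtain ⟨U, _, u, h1, h2, h3, h4, h5, h6⟩ := K206.Comm.exists_neutral R
  have hcl : IsClosedImmersion (u ≫ j).left := by rw [Over.comp_left]; infer_instance
  have hUs : Smooth U.hom := by rw [← Over.w u]; infer_instance
  refine ⟨U, inferInstance, u ≫ j, inferInstance, hcl, hUs, h4, ?_⟩
  have hemb : Topology.IsClosedEmbedding j.left := j.left.isClosedEmbedding
  have hhom : IsHomeomorph j.left := by
    rw [isHomeomorph_iff_isEmbedding_surjective]
    exact ⟨hemb.isEmbedding, hj2.surj⟩
  have hη : pt η[N] = j.left (pt η[R]) := by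
    rw [← pt_comp, IsMonHom.one_hom]
  have hc : Set.range u.left = connectedComponent (pt η[R]) := h6 _
  have h7 : Set.range (u ≫ j).left = j.left '' Set.range u.left := by
    rw [Over.comp_left]
    exact Set.range_comp j.left u.left
  rw [h7, hc, hη, ← connectedComponentIn_univ, ← connectedComponentIn_univ]
  have h8 := hhom.homeomorph.image_connectedComponentIn (Set.mem_univ (pt η[R]))
  rw [Set.image_univ, hhom.homeomorph.range_coe] at h8
  exact h8

/-- The reduced neutral component of a normal subgroup of a smooth connected group is normal. -/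
theorem isNormalHom {G N U : Over (Spec (CommRingCat.of k))} [GrpObj G] [GrpObj N] [GrpObj U] [Smooth G.hom]
    [ConnectedSpace G.left] (n : N ⟶ G) [IsMonHom n] [Mono n] (hn : AlgGrp.IsNormalHom n) (u : U ⟶ N) [IsMonHom u]
    [IsClosedImmersion u.left] [Smooth U.hom] [ConnectedSpace U.left]
    (hu : Set.range u.left = connectedComponent (pt η[N])) : AlgGrp.IsNormalHom (u ≫ n) := by
  obtain ⟨c, hc⟩ := hn (G ⊗ U) (fst G U) (snd G U ≫ u)
  have hconn : ConnectedSpace (G ⊗ U).left := Isog.connectedSpace_tensor G U
  have hsm : Smooth (G ⊗ U).hom := K395.Dense.smooth_tensor G U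
  have hred : IsReduced (G ⊗ U).left := Etcore.SmoothRed.isReduced_of_smooth (G ⊗ U).hom
  have hpt : lift η[G] η[U] ≫ c = η[N] := by
    rw [← cancel_mono n, Category.assoc, ← hc, MonObj.comp_mul, MonObj.comp_mul, GrpObj.comp_inv, lift_fst,
      Category.assoc, lift_snd_assoc, IsMonHom.one_hom_assoc, IsMonHom.one_hom, mul_inv_cancel_right]
  have hmem : pt η[N] ∈ Set.range c.left := ⟨pt (lift η[G] η[U]), by rw [← pt_comp, hpt]⟩
  have hr : Set.range c.left ⊆ Set.range u.left := by
    rw [hu]
    exact (isPreconnected_range c.left.continuous).subset_connectedComponent hmem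
  obtain ⟨c', hc'⟩ := exists_lift u c hr
  intro T g x
  refine ⟨lift g x ≫ c', ?_⟩
  rw [Category.assoc, ← Category.assoc c', hc', ← hc, MonObj.comp_mul, MonObj.comp_mul, GrpObj.comp_inv, lift_fst,
    Category.assoc, lift_snd_assoc]

/-- The image of a group modulo its neutral component is finite. -/
theorem isFinite_of_kill {N U F : Over (Spec (CommRingCat.of k))} [GrpObj N] [GrpObj U] [GrpObj F]
    [LocallyOfFiniteType N.hom] [QuasiCompact N.hom] [LocallyOfFiniteType U.hom] [LocallyOfFiniteType F.hom]
    (u : U ⟶ N) [IsMonHom u] [IsClosedImmersion u.left] (hu : Set.range u.left = connectedComponent (pt η[N]))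
    (r : N ⟶ F) [IsMonHom r] [Surjective r.left] (h : u ≫ r = 1) : IsFinite F.hom := by
  let f := Crit.cl k
  apply FinQuot.isFinite_of_bc f
  have j1 : QuasiCompact (Red.bc f N).hom := inferInstanceAs (QuasiCompact (pullback.snd N.hom f))
  have j2 : LocallyOfFiniteType (Red.bc f N).hom := inferInstanceAs (LocallyOfFiniteType (pullback.snd N.hom f))
  have j3 : LocallyOfFiniteType (Red.bc f U).hom := inferInstanceAs (LocallyOfFiniteType (pullback.snd U.hom f))
  have j4 : LocallyOfFiniteType (Red.bc f F).hom := inferInstanceAs (LocallyOfFiniteType (pullback.snd F.hom f))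
  have hm : IsMonHom ((Over.pullback f).map r) := Sga3B.NormBc.isMonHom_pullback_map f r
  have hs : Surjective ((Over.pullback f).map r).left :=
    MorphismProperty.of_isPullback (Parab.EtHom.isPullback_map f r) inferInstance
  exact PowPts.isFinite_quot ((Over.pullback f).map u) (FinQuot.range_bc f u hu) ((Over.pullback f).map r) (by
    rw [← Functor.map_comp, h, Functor.map_one])

/-- The kernel of `G/U → G/N` when `U` is the (reduced) neutral component of `N` is finite. -/
theorem isFinite_ker {G N U R C : Over (Spec (CommRingCat.of k))} [GrpObj G] [GrpObj N] [GrpObj U] [GrpObj R]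
    [GrpObj C] [LocallyOfFiniteType N.hom] [QuasiCompact N.hom] [LocallyOfFiniteType U.hom]
    [LocallyOfFiniteType R.hom] [IsSeparated C.hom]
    (n : N ⟶ G) [IsMonHom n] (u : U ⟶ N) [IsMonHom u] [IsClosedImmersion u.left]
    (hu : Set.range u.left = connectedComponent (pt η[N])) (p : G ⟶ R) [IsMonHom p] [Surjective p.left]
    (π : R ⟶ C) [IsMonHom π] (hp : (u ≫ n) ≫ p = 1) (hk : AlgGrp.IsKernel n (p ≫ π)) :
    ∃ _ : GrpObj (KerGrp.kerObj π), IsMonHom (KerGrp.kerι π) ∧ IsFinite (KerGrp.kerObj π).hom := by
  obtain ⟨_, hE⟩ := KerGrp.exists_grpObj π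
  refine ⟨inferInstance, hE, ?_⟩
  obtain ⟨r, hr⟩ := KerGrp.exists_lift π (n ≫ p) (by rw [Category.assoc]; exact hk.w)
  have hsq : IsPullback n r p (KerGrp.kerι π) := by
    have h6 : IsPullback n (r ≫ toUnit (KerGrp.kerObj π)) (p ≫ π) η[C] := by
      rw [toUnit_unique (r ≫ toUnit (KerGrp.kerObj π)) (toUnit N)]
      exact hk
    exact IsPullback.of_bot (t := KerGrp.isPullback_ker π) (by simpa using h6) hr.symm
  have hsq' : IsPullback n.left r.left p.left (KerGrp.kerι π).left := hsq.map (Over.forget _)
  have r2 : Surjective r.left := MorphismProperty.of_isPullback hsq' inferInstance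
  have hrm : IsMonHom r := by
    have : IsMonHom (r ≫ KerGrp.kerι π) := by rw [hr]; infer_instance
    exact Sga3C.SubGrp.isMonHom_of_comp_mono r (KerGrp.kerι π)
  have hEf : LocallyOfFiniteType (KerGrp.kerObj π).hom := by rw [← Over.w (KerGrp.kerι π)]; infer_instance
  refine isFinite_of_kill u hu r ?_
  rw [← cancel_mono (KerGrp.kerι π), Category.assoc, hr, MonObj.one_comp, ← Category.assoc, hp]

end K402.RedNeut
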