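import Groth.Agent.AlgGrp.K402.AlmMove
import Groth.Agent.AlgGrp.K402.RedNeut
import Groth.Agent.S3901
import Groth.Agent.Agf.H609.SchGlue
import Groth.Agent.Sga3B.RG.BrHc

/-!
# Automorphisms of almost homogeneous varieties: reduction to automorphisms preserving a maximal torus of the stabilizer

* `exists_data`: the reduced neutral component `H'` of the stabilizer of `x` and a maximal torus `T` of `H'`;
* `preimage_orbit`: automorphisms preserve the open orbit;
* `exists_adjust`: every automorphism of `X` can be translated to one which fixes `x` and preserves `H'` and `T`.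
-/

set_option autoImplicit false
universe u
open CategoryTheory MonoidalCategory CartesianMonoidalCategory MonObj GrpObj AlgebraicGeometry

namespace K402.AlmF1

open Groth.Agent.Books.BorelOrb Groth.Agent.Books.AlgPts K408.OrbDim Groth.Agent.AlgGrp.K408.AlmPlan K402.AlmMove

variable {k : Type u} [Field k] {A X : Over (Spec (CommRingCat.of k))} [GrpObj A] {a : AlgGrp.Action A X}
  {x : 𝟙_ (Over (Spec (CommRingCat.of k))) ⟶ X}

omit [GrpObj A] in
theorem toUnit_one {Z : Over (Spec (CommRingCat.of k))} (z : 𝟙_ (Over (Spec (CommRingCat.of k))) ⟶ Z) :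
    toUnit (𝟙_ (Over (Spec (CommRingCat.of k)))) ≫ z = z := by
  rw [toUnit_unique (toUnit (𝟙_ (Over (Spec (CommRingCat.of k))))) (𝟙 _), Category.id_comp]

theorem pt_sm_mem (g : 𝟙_ (Over (Spec (CommRingCat.of k))) ⟶ A) :
    pt (sm a g x) ∈ Set.range (a.orbitMap x).left :=
  ⟨pt g, by rw [← pt_comp, comp_orbitMap, toUnit_one]⟩

theorem isClosedImmersion_pt {Z : Over (Spec (CommRingCat.of k))} (z : 𝟙_ (Over (Spec (CommRingCat.of k))) ⟶ Z) :
    IsClosedImmersion z.left := by
  have : Subsingleton ↥((𝟙_ (Over (Spec (CommRingCat.of k)))).left) := inferInstanceAs (Subsingleton (PrimeSpectrum k))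
  exact isClosedImmersion_of_comp_eq_id Z.hom z.left (Over.w z)

theorem isClosedImmersion_stabι : IsClosedImmersion (stabι a x).left := by
  have := isClosedImmersion_pt x
  exact inferInstanceAs (IsClosedImmersion (Limits.pullback.fst (a.orbitMap x).left x.left))

theorem isMonHom_stabι : @IsMonHom _ _ _ _ _ (stabGrp a x).toMonObj _ (stabι a x) :=
  @IsMonHom.mk _ _ _ _ _ (stabGrp a x).toMonObj _ (stabι a x) (stabLift_comp _ _ _ _) (stabLift_comp _ _ _ _)

section orbit

variable [IsAlgClosed k] [LocallyOfFiniteType A.hom] [LocallyOfFiniteType X.hom]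

theorem exists_of_mem (y : 𝟙_ (Over (Spec (CommRingCat.of k))) ⟶ X) (hy : pt y ∈ Set.range (a.orbitMap x).left) :
    ∃ g : 𝟙_ (Over (Spec (CommRingCat.of k))) ⟶ A, sm a g x = y := by
  obtain ⟨g, hg⟩ := exists_comp_eq_of_pt_mem_range (a.orbitMap x) y hy
  refine ⟨g, ?_⟩
  rw [← hg, comp_orbitMap, toUnit_one]

/-- Every automorphism can be translated so as to fix a point with an open orbit. -/
theorem exists_fix [IrreducibleSpace X.left] (hx : IsOpen (Set.range (a.orbitMap x).left)) (c : X ≅ X) {σ : A ⟶ A}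
    (h : Cj a c.hom σ) : ∃ g : 𝟙_ (Over (Spec (CommRingCat.of k))) ⟶ A, sm a g (x ≫ c.hom) = x := by
  have hi : IsIso c.hom.left := inferInstanceAs (IsIso ((Over.forget _).map c.hom))
  have hU : (Set.range (a.orbitMap x).left).Nonempty := ⟨_, pt_sm_mem (a := a) (x := x) 1⟩
  have hV : (c.hom.left ⁻¹' Set.range (a.orbitMap x).left).Nonempty := hU.preimage c.hom.left.surjective
  have hVo : IsOpen (c.hom.left ⁻¹' Set.range (a.orbitMap x).left) := hx.preimage c.hom.left.continuous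
  obtain ⟨y, hyV, hyU⟩ := exists_pt_mem (X := X) (nonempty_preirreducible_inter hVo hx hV hU)
    (hVo.inter hx).isLocallyClosed
  obtain ⟨g, hg⟩ := exists_of_mem y hyU
  obtain ⟨g', hg'⟩ := exists_of_mem (y ≫ c.hom) (by rw [pt_comp]; exact hyV)
  refine ⟨g'⁻¹ * (g ≫ σ), ?_⟩
  rw [mul_sm, h.sm, hg, ← hg', ← mul_sm, inv_mul_cancel, one_sm]

theorem subset_preimage_orbit [IrreducibleSpace X.left] (hx : IsOpen (Set.range (a.orbitMap x).left)) (c : X ≅ X)
    {σ : A ⟶ A} (h : Cj a c.hom σ) :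
    Set.range (a.orbitMap x).left ⊆ c.hom.left ⁻¹' Set.range (a.orbitMap x).left := by
  by_contra hne
  obtain ⟨z, hz, hz'⟩ := Set.not_subset.mp hne
  have hVo : IsOpen (c.hom.left ⁻¹' Set.range (a.orbitMap x).left) := hx.preimage c.hom.left.continuous
  obtain ⟨y, hy, hy'⟩ := exists_pt_mem (X := X) (U := Set.range (a.orbitMap x).left ∩
    (c.hom.left ⁻¹' Set.range (a.orbitMap x).left)ᶜ) ⟨z, hz, hz'⟩
    (hx.isLocallyClosed.inter hVo.isClosed_compl.isLocallyClosed)
  apply hy'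
  obtain ⟨g, hg⟩ := exists_fix hx c h
  obtain ⟨g', hg'⟩ := exists_of_mem y hy
  change c.hom.left (pt y) ∈ Set.range (a.orbitMap x).left
  have h1 : x ≫ c.hom = sm a g⁻¹ x := by
    conv_rhs => rw [← hg]
    rw [← mul_sm, inv_mul_cancel, one_sm]
  rw [← pt_comp, ← hg', ← h.sm, h1, ← mul_sm]
  exact pt_sm_mem _

/-- Automorphisms preserve the open orbit. -/
theorem preimage_orbit [IrreducibleSpace X.left] (hf : Faithful a)
    (hN : ∀ c : X ≅ X, ∃ σ : A ⟶ A, IsMonHom σ ∧ (σ ⊗ₘ c.hom) ≫ a.act = a.act ≫ c.hom)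
    (hx : IsOpen (Set.range (a.orbitMap x).left)) (c : X ≅ X) :
    c.hom.left ⁻¹' Set.range (a.orbitMap x).left = Set.range (a.orbitMap x).left := by
  obtain ⟨σ, -, -, h1, h2⟩ := exists_iso hf hN c
  refine Set.Subset.antisymm (fun z hz => ?_) (subset_preimage_orbit hx c h1)
  have h3 := subset_preimage_orbit hx c.symm h2 hz
  have h4 : c.inv.left (c.hom.left z) = z := by
    rw [← Scheme.Hom.comp_apply, ← Over.comp_left, c.hom_inv_id]
    rfl
  change c.inv.left (c.hom.left z) ∈ Set.range (a.orbitMap x).left at h3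
  rwa [h4] at h3

end orbit

section stab_

variable {H' : Over (Spec (CommRingCat.of k))} [Smooth H'.hom] [ConnectedSpace H'.left] (i : H' ⟶ stab a x)

/-- `σ` preserves the reduced neutral component of the stabilizer. -/
theorem exists_restrict (hi : IsClosedImmersion i.left)
    (hr : Set.range i.left = connectedComponent (pt (@MonObj.one _ _ _ _ (stabGrp a x).toMonObj)))
    {c : X ⟶ X} {σ : A ⟶ A} (hσ : IsMonHom σ) (h : Cj a c σ) (hx : x ≫ c = x) :
    ∃ s : H' ⟶ H', s ≫ i ≫ stabι a x = (i ≫ stabι a x) ≫ σ := by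
  obtain ⟨r, hr'⟩ := exists_stab h hx
  let := stabGrp a x
  have he : (@MonObj.one _ _ _ _ (stabGrp a x).toMonObj) ≫ stabι a x = η[A] := stabLift_comp _ _ _ _
  have he' : (@MonObj.one _ _ _ _ (stabGrp a x).toMonObj) ≫ r = @MonObj.one _ _ _ _ (stabGrp a x).toMonObj := by
    rw [← cancel_mono (stabι a x), Category.assoc, hr', ← Category.assoc, he, IsMonHom.one_hom]
  have hred : IsReduced H'.left := Groth.Agent.Etcore.SmoothRed.isReduced_of_smooth H'.hom
  have hsub : Set.range (i ≫ r).left ⊆ Set.range i.left := by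
    rw [hr]
    have h1 : pt (@MonObj.one _ _ _ _ (stabGrp a x).toMonObj) ∈ Set.range i.left := by
      rw [hr]; exact mem_connectedComponent
    obtain ⟨p, hp⟩ := h1
    have h2 : pt (@MonObj.one _ _ _ _ (stabGrp a x).toMonObj) ∈ Set.range (i ≫ r).left := by
      refine ⟨p, ?_⟩
      rw [Over.comp_left, Scheme.Hom.comp_apply, hp, ← pt_comp, he']
    exact (isPreconnected_range (i ≫ r).left.continuous).subset_connectedComponent h2
  obtain ⟨s, hs⟩ := Groth.Agent.Books.AlgPtsGrp.exists_lift i (i ≫ r) hsub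
  refine ⟨s, ?_⟩
  rw [← Category.assoc, hs, Category.assoc, Category.assoc, hr']

end stab_

/-- An automorphism of the group carries maximal tori to maximal tori. -/
theorem isMaxTorus_comp {S : Scheme.{u}} {T H : Over S} [GrpObj T] [GrpObj H] {iT : T ⟶ H}
    (h : AGF.IsMaxTorus iT) (s : H ≅ H) (hs : IsMonHom s.hom) (hs' : IsMonHom s.inv) :
    AGF.IsMaxTorus (iT ≫ s.hom) := by
  obtain ⟨h1, h2, h3, h4⟩ := h
  refine ⟨inferInstance, inferInstance, h3, fun T' _ j hj hj' f hT' hf => ?_⟩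
  have : Mono (j ≫ s.inv) := inferInstance
  have : IsMonHom (j ≫ s.inv) := inferInstance
  refine h4 T' (j ≫ s.inv) f hT' ?_
  rw [← Category.assoc, hf, Category.assoc, s.hom_inv_id, Category.comp_id]

theorem comp_stabι_fix {Z : Over (Spec (CommRingCat.of k))} (h : Z ⟶ stab a x)
    (z : 𝟙_ (Over (Spec (CommRingCat.of k))) ⟶ Z) : sm a (z ≫ h ≫ stabι a x) x = x := by
  have h1 := comp_stabι_sm a x (z ≫ h)
  rwa [toUnit_one, Category.assoc] at h1

/-- The data of the reduction: the reduced neutral component of the stabilizer and a maximal torus. -/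
theorem exists_data [IsAlgClosed k] [IsAffine A.left] [LocallyOfFiniteType A.hom] (a : AlgGrp.Action A X)
    (x : 𝟙_ (Over (Spec (CommRingCat.of k))) ⟶ X) :
    ∃ (H' : Over (Spec (CommRingCat.of k))) (_ : GrpObj H') (i : H' ⟶ stab a x),
      @IsMonHom _ _ _ _ _ _ (stabGrp a x).toMonObj i ∧ IsClosedImmersion i.left ∧ Smooth H'.hom ∧
      ConnectedSpace H'.left ∧ IsAffine H'.left ∧
      Set.range i.left = connectedComponent (pt (@MonObj.one _ _ _ _ (stabGrp a x).toMonObj)) ∧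
      ∃ (T : Over (Spec (CommRingCat.of k))) (_ : GrpObj T) (iT : T ⟶ H'), AGF.IsMaxTorus iT := by
  let := stabGrp a x
  have h1 : IsClosedImmersion (stabι a x).left := isClosedImmersion_stabι
  have h2 : LocallyOfFiniteType (stab a x).hom := by rw [← Over.w (stabι a x)]; infer_instance
  obtain ⟨H', _, i, hi, hic, hs, hc, hr⟩ := K402.RedNeut.exists_redNeut (stab a x)
  have h3 : IsAffine H'.left := by
    have : IsAffineHom (i.left ≫ (stabι a x).left) := inferInstance
    exact isAffine_of_isAffineHom (i.left ≫ (stabι a x).left)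
  obtain ⟨T, _, iT, hT, -⟩ := Groth.Agent.Sga3B.RG.BrHc.exists_isMaximalTorus H'
  exact ⟨H', inferInstance, i, hi, hic, hs, hc, h3, hr, T, inferInstance, iT,
    Groth.Agent.Agf.H609.SchGlue.isMaxTorus_of_isMaximalTorus hT⟩

/-- Every automorphism of `X` can be translated to one which fixes `x` and preserves the reduced neutral component `H'` of
the stabilizer and a maximal torus of `H'`. -/
theorem exists_adjust [IsAlgClosed k] [IsAffine A.left] [LocallyOfFiniteType A.hom] [LocallyOfFiniteType X.hom]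
    [IrreducibleSpace X.left] (hf : Faithful a)
    (hN : ∀ c : X ≅ X, ∃ σ : A ⟶ A, IsMonHom σ ∧ (σ ⊗ₘ c.hom) ≫ a.act = a.act ≫ c.hom)
    (hx : IsOpen (Set.range (a.orbitMap x).left))
    {H' : Over (Spec (CommRingCat.of k))} [GrpObj H'] [Smooth H'.hom] [ConnectedSpace H'.left] (i : H' ⟶ stab a x)
    (him : @IsMonHom _ _ _ _ _ _ (stabGrp a x).toMonObj i) (hi : IsClosedImmersion i.left)
    (hr : Set.range i.left = connectedComponent (pt (@MonObj.one _ _ _ _ (stabGrp a x).toMonObj)))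
    {T : Over (Spec (CommRingCat.of k))} [GrpObj T] {iT : T ⟶ H'} (hT : AGF.IsMaxTorus iT) (c : X ≅ X) :
    ∃ (g : 𝟙_ (Over (Spec (CommRingCat.of k))) ⟶ A) (c' : X ≅ X) (σ : A ⟶ A) (σ' : H' ⟶ H') (τ : T ⟶ T),
      c'.hom = c.hom ≫ (lift (toUnit X ≫ g) (𝟙 X) ≫ a.act) ∧ x ≫ c'.hom = x ∧ IsMonHom σ ∧
      (σ ⊗ₘ c'.hom) ≫ a.act = a.act ≫ c'.hom ∧ IsMonHom σ' ∧ σ' ≫ i ≫ stabι a x = (i ≫ stabι a x) ≫ σ ∧
      IsMonHom τ ∧ τ ≫ iT = iT ≫ σ' := by
  have hjm : @IsMonHom _ _ _ _ _ (stabGrp a x).toMonObj _ (stabι a x) := isMonHom_stabι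
  have hjc : IsClosedImmersion (stabι a x).left := isClosedImmersion_stabι
  let j : H' ⟶ A := i ≫ stabι a x
  have hj : IsMonHom j := by
    let := stabGrp a x
    exact inferInstanceAs (IsMonHom (i ≫ stabι a x))
  have hjcl : IsClosedImmersion j.left := inferInstanceAs (IsClosedImmersion (i.left ≫ (stabι a x).left))
  have hjmono : Mono j := Over.mono_of_mono_left j
  have hAff : IsAffine H'.left := isAffine_of_isAffineHom j.left
  -- first translation
  obtain ⟨σ₀, -, -, h0, -⟩ := exists_iso hf hN c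
  obtain ⟨g₁, hg₁⟩ := exists_fix hx c h0
  let c₁ : X ≅ X := c ≪≫ trIso a g₁
  have hc₁ : x ≫ c₁.hom = x := by
    change x ≫ c.hom ≫ Groth.Agent.Books.BorelOrb.tr a g₁ = x
    rw [← Category.assoc, comp_tr, toUnit_one, hg₁]
  obtain ⟨σ₁, hσ₁, hσ₁', h1, h1'⟩ := exists_iso hf hN c₁
  have hc₁' : x ≫ c₁.inv = x := (Iso.comp_inv_eq c₁).2 hc₁.symm
  obtain ⟨s, hs⟩ := exists_restrict i hi hr hσ₁ h1 hc₁
  obtain ⟨s', hs'⟩ := exists_restrict i hi hr hσ₁' h1' hc₁'
  have e1 : s ≫ s' = 𝟙 H' := by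
    rw [← cancel_mono j, Category.assoc, hs', ← Category.assoc, hs, Category.assoc, σ₁.hom_inv_id, Category.comp_id,
      Category.id_comp]
  have e2 : s' ≫ s = 𝟙 H' := by
    rw [← cancel_mono j, Category.assoc, hs, ← Category.assoc, hs', Category.assoc, σ₁.inv_hom_id, Category.comp_id,
      Category.id_comp]
  have hsm : IsMonHom s := by
    have : IsMonHom (s ≫ j) := by rw [hs]; infer_instance
    exact Groth.Agent.Sga3C.SubGrp.isMonHom_of_comp_mono s j
  have hsm' : IsMonHom s' := by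
    have : IsMonHom (s' ≫ j) := by rw [hs']; infer_instance
    exact Groth.Agent.Sga3C.SubGrp.isMonHom_of_comp_mono s' j
  -- second translation
  obtain ⟨h, f, hfT⟩ := Groth.Agent.S3901.result k H' T T iT (iT ≫ s) hT (isMaxTorus_comp hT ⟨s, s', e1, e2⟩ hsm hsm')
  have hTm : IsMonHom iT := hT.1
  have hTmono : Mono iT := hT.2.1
  let g₂ : 𝟙_ (Over (Spec (CommRingCat.of k))) ⟶ A := (h ≫ j)⁻¹
  have hfix : sm a g₂ x = x := by
    have h3 : sm a (h ≫ j) x = x := comp_stabι_fix i h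
    conv_lhs => rw [← h3]
    rw [← mul_sm, inv_mul_cancel, one_sm]
  have hlast : f.inv ≫ iT = iT ≫ s ≫ cjt h⁻¹ := by
    have h5 : iT ≫ s = f.inv ≫ AGF.conjBy h iT := by rw [← hfT, Iso.inv_hom_id_assoc]
    have h6 : f.inv ≫ toUnit T ≫ h = toUnit T ≫ h := by
      rw [← Category.assoc, toUnit_unique (f.inv ≫ toUnit T) (toUnit T)]
    rw [← Category.assoc, h5, comp_cjt, AGF.conjBy, MonObj.comp_mul, MonObj.comp_mul, GrpObj.comp_inv,
      GrpObj.comp_inv, h6, _root_.inv_inv]
    group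
  have hτ : IsMonHom f.inv := by
    have : IsMonHom (f.inv ≫ iT) := by rw [hlast]; infer_instance
    exact Groth.Agent.Sga3C.SubGrp.isMonHom_of_comp_mono f.inv iT
  refine ⟨g₂ * g₁, c₁ ≪≫ trIso a g₂, σ₁.hom ≫ cjt g₂, s ≫ cjt h⁻¹, f.inv, ?_, ?_, inferInstance, ?_, inferInstance, ?_,
    hτ, hlast⟩
  · change (c.hom ≫ Groth.Agent.Books.BorelOrb.tr a g₁) ≫ Groth.Agent.Books.BorelOrb.tr a g₂ =
      c.hom ≫ Groth.Agent.Books.BorelOrb.tr a (g₂ * g₁)
    rw [Groth.Agent.Books.BorelOrb.tr_mul, Category.assoc]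
  · change x ≫ c₁.hom ≫ Groth.Agent.Books.BorelOrb.tr a g₂ = x
    rw [← Category.assoc, hc₁, comp_tr, toUnit_one, hfix]
  · exact h1.comp (Cj.tr g₂)
  · have h4 : cjt h⁻¹ ≫ j = j ≫ cjt g₂ := by
      rw [comp_cjt, cjt, MonObj.mul_comp, MonObj.mul_comp, GrpObj.inv_comp, Category.id_comp, Category.assoc,
        GrpObj.inv_comp]
    change (s ≫ cjt h⁻¹) ≫ j = j ≫ σ₁.hom ≫ cjt g₂
    rw [Category.assoc, h4, ← Category.assoc, hs, Category.assoc]

end K402.AlmF1
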