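import Groth.Agent.AlgGrp.K408.OrbDim
import Groth.Agent.AlgGrp.K408.AlmPlan
import Groth.Agent.Books.AlgPts
import Groth.Agent.Books.AlgPtsGrp

/-!
# How an automorphism of `X` moves a group acting faithfully on `X`

* `Cj a γ σ`: `γ (g y) = σ g (γ y)`; calculus, uniqueness of `σ`;
* `exists_fix`: for `x` with an open orbit every automorphism can be translated so as to fix `x`;
* `preimage_orbit`: every automorphism preserves the open orbit;
* `exists_restrict`: `σ` preserves the reduced neutral component of the stabilizer.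
-/

set_option autoImplicit false
universe u
open CategoryTheory MonoidalCategory CartesianMonoidalCategory MonObj GrpObj AlgebraicGeometry

namespace K402.AlmMove

open Groth.Agent.Books.BorelOrb Groth.Agent.Books.AlgPts K408.OrbDim Groth.Agent.AlgGrp.K408.AlmPlan

section calc_

variable {S : Scheme.{u}} {A X : Over S} [GrpObj A] (a : AlgGrp.Action A X)

/-- `γ (g y) = σ g (γ y)`. -/
def Cj (γ : X ⟶ X) (σ : A ⟶ A) : Prop := (σ ⊗ₘ γ) ≫ a.act = a.act ≫ γ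

variable {a}

theorem Cj.sm {γ : X ⟶ X} {σ : A ⟶ A} (h : Cj a γ σ) {T : Over S} (g : T ⟶ A) (y : T ⟶ X) :
    sm a (g ≫ σ) (y ≫ γ) = sm a g y ≫ γ := by
  rw [Groth.Agent.Books.BorelOrb.sm, Groth.Agent.Books.BorelOrb.sm, Category.assoc, ← h, lift_map_assoc]

theorem Cj.comp {γ γ' : X ⟶ X} {σ σ' : A ⟶ A} (h : Cj a γ σ) (h' : Cj a γ' σ') : Cj a (γ ≫ γ') (σ ≫ σ') := by
  rw [Cj, ← Category.assoc, ← h, Category.assoc, ← h', ← Category.assoc, tensorHom_comp_tensorHom]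

theorem Cj.id : Cj a (𝟙 X) (𝟙 A) := by
  rw [Cj, id_tensorHom_id, Category.id_comp, Category.comp_id]

/-- Conjugation by a section. -/
noncomputable def cjt (g : 𝟙_ (Over S) ⟶ A) : A ⟶ A := (toUnit A ≫ g) * 𝟙 A * (toUnit A ≫ g)⁻¹

theorem comp_cjt (g : 𝟙_ (Over S) ⟶ A) {Z : Over S} (x : Z ⟶ A) :
    x ≫ cjt g = (toUnit Z ≫ g) * x * (toUnit Z ≫ g)⁻¹ := by
  rw [cjt, MonObj.comp_mul, MonObj.comp_mul, GrpObj.comp_inv, Category.comp_id, ← Category.assoc,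
    toUnit_unique (x ≫ toUnit A) (toUnit Z)]

instance isMonHom_cjt (g : 𝟙_ (Over S) ⟶ A) : IsMonHom (cjt g) where
  one_hom := by
    rw [comp_cjt, MonObj.one_eq_one, _root_.mul_one, mul_inv_cancel]
  mul_hom := by
    have h1 : μ[A] = (fst A A) * (snd A A) := by
      rw [Hom.mul_def, lift_fst_snd, Category.id_comp]
    have h2 : (cjt g ⊗ₘ cjt g) ≫ μ[A] = (fst A A ≫ cjt g) * (snd A A ≫ cjt g) := by
      rw [Hom.mul_def]
      congr 1
    rw [h2, comp_cjt, comp_cjt, comp_cjt, h1]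
    group

theorem Cj.tr (g : 𝟙_ (Over S) ⟶ A) : Cj a (tr a g) (cjt g) := by
  have h1 : (cjt g ⊗ₘ Groth.Agent.Books.BorelOrb.tr a g) ≫ a.act =
      Groth.Agent.Books.BorelOrb.sm a (fst A X ≫ cjt g) (snd A X ≫ Groth.Agent.Books.BorelOrb.tr a g) := by
    rw [Groth.Agent.Books.BorelOrb.sm]
    congr 1
  have h2 : a.act = Groth.Agent.Books.BorelOrb.sm a (fst A X) (snd A X) := by
    rw [Groth.Agent.Books.BorelOrb.sm, lift_fst_snd, Category.id_comp]
  rw [Cj, h1, Groth.Agent.Books.BorelOrb.comp_tr a a.act, comp_cjt, Groth.Agent.Books.BorelOrb.comp_tr, ← mul_sm,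
    inv_mul_cancel_right, mul_sm, ← h2]

/-- Faithfulness: two points acting in the same way are equal. -/
theorem ext_act (hf : Faithful a) {T : Over S} {g g' : T ⟶ A}
    (h : lift (fst T X ≫ g) (snd T X) ≫ a.act = lift (fst T X ≫ g') (snd T X) ≫ a.act) : g = g' := by
  have h1 : g'⁻¹ * g = toUnit T ≫ η[A] := by
    refine hf T _ ?_
    have h2 : lift (fst T X ≫ (g'⁻¹ * g)) (snd T X) ≫ a.act =
        Groth.Agent.Books.BorelOrb.sm a (fst T X ≫ g'⁻¹) (lift (fst T X ≫ g) (snd T X) ≫ a.act) := by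
      rw [MonObj.comp_mul]
      exact mul_sm a _ _ _
    rw [h2, h]
    change Groth.Agent.Books.BorelOrb.sm a (fst T X ≫ g'⁻¹)
      (Groth.Agent.Books.BorelOrb.sm a (fst T X ≫ g') (snd T X)) = _
    rw [← mul_sm, ← MonObj.comp_mul, inv_mul_cancel, MonObj.comp_one, one_sm]
  have h3 : g'⁻¹ * g = 1 := h1
  exact (inv_mul_eq_one.1 h3).symm

theorem Cj.unique (hf : Faithful a) {γ : X ⟶ X} [IsIso γ] {σ σ' : A ⟶ A} (h : Cj a γ σ) (h' : Cj a γ σ') : σ = σ' := by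
  apply ext_act hf
  have h1 : ∀ τ : A ⟶ A, Cj a γ τ → lift (fst A X ≫ τ) (snd A X) ≫ a.act = (𝟙 A ⊗ₘ inv γ) ≫ a.act ≫ γ := by
    intro τ hτ
    rw [← hτ, ← Category.assoc, tensorHom_comp_tensorHom, Category.id_comp, IsIso.inv_hom_id]
    congr 1
  rw [h1 σ h, h1 σ' h']

/-- The automorphisms of the group attached to the automorphisms of `X`. -/
theorem exists_iso (hf : Faithful a)
    (hN : ∀ γ : X ≅ X, ∃ σ : A ⟶ A, IsMonHom σ ∧ (σ ⊗ₘ γ.hom) ≫ a.act = a.act ≫ γ.hom) (γ : X ≅ X) :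
    ∃ σ : A ≅ A, IsMonHom σ.hom ∧ IsMonHom σ.inv ∧ Cj a γ.hom σ.hom ∧ Cj a γ.inv σ.inv := by
  obtain ⟨σ, hσ, h⟩ := hN γ
  obtain ⟨σ', hσ', h'⟩ := hN γ.symm
  have h1 : Cj a γ.hom σ := h
  have h2 : Cj a γ.inv σ' := h'
  have h3 : σ ≫ σ' = 𝟙 A := by
    have := h1.comp h2
    rw [γ.hom_inv_id] at this
    exact Cj.unique hf this Cj.id
  have h4 : σ' ≫ σ = 𝟙 A := by
    have := h2.comp h1
    rw [γ.inv_hom_id] at this
    exact Cj.unique hf this Cj.id
  exact ⟨⟨σ, σ', h3, h4⟩, hσ, hσ', h1, h2⟩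

/-- `σ` preserves the stabilizer of a fixed point of `γ`. -/
theorem exists_stab {γ : X ⟶ X} {σ : A ⟶ A} (h : Cj a γ σ) {x : 𝟙_ (Over S) ⟶ X} (hx : x ≫ γ = x) :
    ∃ r : stab a x ⟶ stab a x, r ≫ stabι a x = stabι a x ≫ σ := by
  refine exists_lift a x _ ?_
  have h1 := comp_stabι_sm a x (𝟙 _)
  rw [Category.id_comp] at h1
  have h2 : toUnit (stab a x) ≫ x = (toUnit (stab a x) ≫ x) ≫ γ := by rw [Category.assoc, hx]
  conv_lhs => rw [h2]
  rw [h.sm, h1, Category.assoc, hx]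

end calc_

end K402.AlmMove
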