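import Groth.Prelude.Def_AutSch
import Mathlib.AlgebraicGeometry.Noetherian
import Mathlib.AlgebraicGeometry.Morphisms.FiniteType

/-!
# The group structure on a scheme of automorphisms

`Univ φ`: `φ : X ⊗ M ⟶ X` is the universal family of automorphisms of `X`, on locally Noetherian test schemes.
`exists_grp`: then `M` is a group scheme and `φ` comes from an action.
-/

set_option autoImplicit false
universe u
open CategoryTheory MonoidalCategory CartesianMonoidalCategory MonObj GrpObj AlgebraicGeometry AutSch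

namespace K402.AutGrp

section fam

variable {S : Scheme.{u}} {X : Over S}

/-- `ψ` is the inverse family of `φ`, on points. -/
def Inv {T : Over S} (φ ψ : X ⊗ T ⟶ X) : Prop :=
  (∀ (Y : Over S) (x : Y ⟶ X) (t : Y ⟶ T), lift (lift x t ≫ φ) t ≫ ψ = x) ∧
    ∀ (Y : Over S) (x : Y ⟶ X) (t : Y ⟶ T), lift (lift x t ≫ ψ) t ≫ φ = x

theorem Inv.symm {T : Over S} {φ ψ : X ⊗ T ⟶ X} (h : Inv φ ψ) : Inv ψ φ := ⟨h.2, h.1⟩

theorem lift_endOf {T Y : Over S} (φ : X ⊗ T ⟶ X) (x : Y ⟶ X) (t : Y ⟶ T) :
    lift x t ≫ endOf φ = lift (lift x t ≫ φ) t := by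
  rw [endOf, comp_lift, lift_snd]

theorem lift_pullFam {T T' Y : Over S} (u : T' ⟶ T) (φ : X ⊗ T ⟶ X) (x : Y ⟶ X) (t : Y ⟶ T') :
    lift x t ≫ pullFam u φ = lift x (t ≫ u) ≫ φ := by
  rw [pullFam, lift_whiskerLeft_assoc]

theorem Inv.isAutFamily {T : Over S} {φ ψ : X ⊗ T ⟶ X} (h : Inv φ ψ) : IsAutFamily φ := by
  have key : ∀ {φ ψ : X ⊗ T ⟶ X}, Inv φ ψ → endOf φ ≫ endOf ψ = 𝟙 _ := by
    intro φ ψ h
    have h1 := h.1 (X ⊗ T) (fst X T) (snd X T)
    rw [lift_fst_snd, Category.id_comp] at h1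
    have h2 : endOf φ ≫ endOf ψ = lift (lift φ (snd X T) ≫ ψ) (snd X T) := by
      rw [show endOf φ = lift φ (snd X T) from rfl, lift_endOf]
    rw [h2, h1, lift_fst_snd]
  exact ⟨endOf ψ, key h, key h.symm⟩

theorem exists_inv {T : Over S} {φ : X ⊗ T ⟶ X} (h : IsAutFamily φ) : ∃ ψ : X ⊗ T ⟶ X, Inv φ ψ := by
  have : IsIso (endOf φ) := h
  have h1 : inv (endOf φ) ≫ snd X T = snd X T := by rw [IsIso.inv_comp_eq, endOf_snd]
  have h2 : ∀ (Y : Over S) (x : Y ⟶ X) (t : Y ⟶ T),
      lift x t ≫ inv (endOf φ) = lift (lift x t ≫ inv (endOf φ) ≫ fst X T) t := by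
    intro Y x t
    ext1
    · rw [lift_fst, Category.assoc]
    · rw [lift_snd, Category.assoc, h1, lift_snd]
  refine ⟨inv (endOf φ) ≫ fst X T, fun Y x t => ?_, fun Y x t => ?_⟩
  · rw [← lift_endOf, Category.assoc, IsIso.hom_inv_id_assoc, lift_fst]
  · have h3 : lift (lift x t ≫ inv (endOf φ) ≫ fst X T) t ≫ endOf φ = lift x t := by
      rw [← h2, Category.assoc, IsIso.inv_hom_id, Category.comp_id]
    have h4 := congrArg (· ≫ fst X T) h3
    simpa only [Category.assoc, endOf_fst, lift_fst] using h4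

theorem Inv.pull {T T' : Over S} (u : T' ⟶ T) {φ ψ : X ⊗ T ⟶ X} (h : Inv φ ψ) :
    Inv (pullFam u φ) (pullFam u ψ) :=
  ⟨fun Y x t => by rw [lift_pullFam, lift_pullFam]; exact h.1 Y x (t ≫ u),
    fun Y x t => by rw [lift_pullFam, lift_pullFam]; exact h.2 Y x (t ≫ u)⟩

/-- Composition of families: `(x, t) ↦ φ' (φ (x, t), t)`. -/
noncomputable def cmp {T : Over S} (φ' φ : X ⊗ T ⟶ X) : X ⊗ T ⟶ X := lift φ (snd X T) ≫ φ'

theorem lift_cmp {T Y : Over S} (φ' φ : X ⊗ T ⟶ X) (x : Y ⟶ X) (t : Y ⟶ T) :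
    lift x t ≫ cmp φ' φ = lift (lift x t ≫ φ) t ≫ φ' := by
  rw [cmp, comp_lift_assoc, lift_snd]

theorem Inv.cmp {T : Over S} {φ ψ φ' ψ' : X ⊗ T ⟶ X} (h : Inv φ ψ) (h' : Inv φ' ψ') :
    Inv (cmp φ' φ) (cmp ψ ψ') :=
  ⟨fun Y x t => by rw [lift_cmp, lift_cmp, h'.1, h.1], fun Y x t => by rw [lift_cmp, lift_cmp, h.2, h'.2]⟩

theorem Inv.fst {T : Over S} : Inv (fst X T) (CartesianMonoidalCategory.fst X T) :=
  ⟨fun Y x t => by rw [lift_fst, lift_fst], fun Y x t => by rw [lift_fst, lift_fst]⟩

end fam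

section univ

variable {k : Type u} [Field k] {X M : Over (Spec (CommRingCat.of k))}

/-- The universal family of automorphisms, on locally Noetherian test schemes. -/
def Univ (φ : X ⊗ M ⟶ X) : Prop :=
  IsAutFamily φ ∧ ∀ (T : Over (Spec (CommRingCat.of k))) [IsLocallyNoetherian T.left] (ψ : X ⊗ T ⟶ X),
    IsAutFamily ψ → ∃! g : T ⟶ M, pullFam g φ = ψ

variable {φ : X ⊗ M ⟶ X}

theorem Univ.exists (h : Univ φ) (T : Over (Spec (CommRingCat.of k))) [IsLocallyNoetherian T.left] {ψ : X ⊗ T ⟶ X}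
    (hψ : IsAutFamily ψ) : ∃ g : T ⟶ M, ∀ (Y : Over (Spec (CommRingCat.of k))) (x : Y ⟶ X) (t : Y ⟶ T),
      lift x (t ≫ g) ≫ φ = lift x t ≫ ψ := by
  obtain ⟨g, hg, -⟩ := h.2 T ψ hψ
  exact ⟨g, fun Y x t => by rw [← hg, lift_pullFam]⟩

theorem Univ.ext (h : Univ φ) {T : Over (Spec (CommRingCat.of k))} [IsLocallyNoetherian T.left] {g g' : T ⟶ M}
    (hg : ∀ (Y : Over (Spec (CommRingCat.of k))) (x : Y ⟶ X) (t : Y ⟶ T),
      lift x (t ≫ g) ≫ φ = lift x (t ≫ g') ≫ φ) : g = g' := by
  obtain ⟨ψ, hψ⟩ := exists_inv h.1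
  refine (h.2 T (pullFam g' φ) (hψ.pull g').isAutFamily).unique ?_ rfl
  have h1 := hg (X ⊗ T) (CartesianMonoidalCategory.fst X T) (snd X T)
  rw [← lift_pullFam, ← lift_pullFam, lift_fst_snd, Category.id_comp, Category.id_comp] at h1
  exact h1

theorem lft_tensor (A B : Over (Spec (CommRingCat.of k))) [LocallyOfFiniteType A.hom] [LocallyOfFiniteType B.hom] :
    LocallyOfFiniteType (A ⊗ B).hom := by
  rw [Over.tensorObj_hom]
  infer_instance

theorem ln_of_lft (A : Over (Spec (CommRingCat.of k))) [LocallyOfFiniteType A.hom] : IsLocallyNoetherian A.left :=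
  LocallyOfFiniteType.isLocallyNoetherian A.hom

/-- The group structure. -/
theorem exists_grp [LocallyOfFiniteType M.hom] (h : Univ φ) :
    ∃ (_ : GrpObj M) (a : AlgGrp.Action M X), ∀ (T : Over (Spec (CommRingCat.of k))) (g : T ⟶ M),
      famOf a g = pullFam g φ := by
  have l1 : LocallyOfFiniteType (𝟙_ (Over (Spec (CommRingCat.of k)))).hom := by
    change LocallyOfFiniteType (𝟙 _); infer_instance
  have l2 := lft_tensor M M
  have l3 := lft_tensor (M ⊗ M) M
  have l4 := lft_tensor (𝟙_ (Over (Spec (CommRingCat.of k)))) M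
  have l5 := lft_tensor M (𝟙_ (Over (Spec (CommRingCat.of k))))
  have n0 := ln_of_lft M
  have n1 := ln_of_lft (𝟙_ (Over (Spec (CommRingCat.of k))))
  have n2 := ln_of_lft (M ⊗ M)
  have n3 := ln_of_lft ((M ⊗ M) ⊗ M)
  have n4 := ln_of_lft (𝟙_ (Over (Spec (CommRingCat.of k))) ⊗ M)
  have n5 := ln_of_lft (M ⊗ 𝟙_ (Over (Spec (CommRingCat.of k))))
  obtain ⟨ψ, hψ⟩ := exists_inv h.1
  obtain ⟨e, he⟩ := h.exists (𝟙_ (Over (Spec (CommRingCat.of k)))) (Inv.fst (X := X)).isAutFamily
  obtain ⟨m, hm⟩ := h.exists (M ⊗ M) ((hψ.pull (snd M M)).cmp (hψ.pull (CartesianMonoidalCategory.fst M M))).isAutFamily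
  obtain ⟨v, hv⟩ := h.exists M hψ.symm.isAutFamily
  -- points calculus
  have he' : ∀ (Y : Over (Spec (CommRingCat.of k))) (x : Y ⟶ X), lift x (toUnit Y ≫ e) ≫ φ = x := fun Y x => by
    rw [he, lift_fst]
  have hm' : ∀ (Y : Over (Spec (CommRingCat.of k))) (x : Y ⟶ X) (p q : Y ⟶ M),
      lift x (lift p q ≫ m) ≫ φ = lift (lift x q ≫ φ) p ≫ φ := fun Y x p q => by
    rw [hm, lift_cmp, lift_pullFam, lift_pullFam, lift_fst, lift_snd]
  have hv1 : ∀ (Y : Over (Spec (CommRingCat.of k))) (x : Y ⟶ X) (p : Y ⟶ M),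
      lift (lift x p ≫ φ) (p ≫ v) ≫ φ = x := fun Y x p => by
    rw [hv]; exact hψ.1 Y x p
  have hv2 : ∀ (Y : Over (Spec (CommRingCat.of k))) (x : Y ⟶ X) (p : Y ⟶ M),
      lift (lift x (p ≫ v) ≫ φ) p ≫ φ = x := fun Y x p => by
    rw [hv]; exact hψ.2 Y x p
  let G : GrpObj M :=
    { one := e
      mul := m
      inv := v
      one_mul := by
        apply h.ext
        intro Y x t
        have h1 : t ≫ e ▷ M ≫ m = lift (toUnit Y ≫ e) (t ≫ snd _ _) ≫ m := by
          rw [← Category.assoc]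
          congr 1
          ext1
          · simp only [Category.assoc, whiskerRight_fst, lift_fst]
            rw [← Category.assoc, toUnit_unique (t ≫ _) (toUnit Y)]
          · simp
        rw [h1, hm', he', leftUnitor_hom]
      mul_one := by
        apply h.ext
        intro Y x t
        have h1 : t ≫ M ◁ e ≫ m = lift (t ≫ CartesianMonoidalCategory.fst _ _) (toUnit Y ≫ e) ≫ m := by
          rw [← Category.assoc]
          congr 1
          ext1
          · simp
          · simp only [Category.assoc, whiskerLeft_snd, lift_snd]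
            rw [← Category.assoc, toUnit_unique (t ≫ _) (toUnit Y)]
        rw [h1, hm', he', rightUnitor_hom]
      mul_assoc := by
        apply h.ext
        intro Y x t
        have h1 : t ≫ m ▷ M ≫ m = lift (lift (t ≫ CartesianMonoidalCategory.fst _ _ ≫ CartesianMonoidalCategory.fst _ _)
            (t ≫ CartesianMonoidalCategory.fst _ _ ≫ snd _ _) ≫ m) (t ≫ snd _ _) ≫ m := by
          rw [← Category.assoc]
          congr 1
          ext1
          · simp only [Category.assoc, whiskerRight_fst, lift_fst]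
            rw [← Category.assoc]
            congr 1
            ext1 <;> simp
          · simp
        have h2 : t ≫ (α_ M M M).hom ≫ M ◁ m ≫ m = lift (t ≫ CartesianMonoidalCategory.fst _ _ ≫
            CartesianMonoidalCategory.fst _ _)
            (lift (t ≫ CartesianMonoidalCategory.fst _ _ ≫ snd _ _) (t ≫ snd _ _) ≫ m) ≫ m := by
          rw [← Category.assoc, ← Category.assoc]
          congr 1
          ext1
          · simp
          · simp only [Category.assoc, whiskerLeft_snd, lift_snd]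
            rw [← Category.assoc, ← Category.assoc]
            congr 1
            ext1 <;> simp
        rw [h1, h2, hm', hm', hm', hm']
      left_inv := by
        apply h.ext
        intro Y x t
        have h1 : t ≫ lift v (𝟙 M) ≫ m = lift (t ≫ v) t ≫ m := by
          rw [← Category.assoc, comp_lift, Category.comp_id]
        have h2 : t ≫ toUnit M ≫ e = toUnit Y ≫ e := by
          rw [← Category.assoc, toUnit_unique (t ≫ toUnit M) (toUnit Y)]
        rw [h1, h2, hm', hv1, he']
      right_inv := by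
        apply h.ext
        intro Y x t
        have h1 : t ≫ lift (𝟙 M) v ≫ m = lift t (t ≫ v) ≫ m := by
          rw [← Category.assoc, comp_lift, Category.comp_id]
        have h2 : t ≫ toUnit M ≫ e = toUnit Y ≫ e := by
          rw [← Category.assoc, toUnit_unique (t ≫ toUnit M) (toUnit Y)]
        rw [h1, h2, hm', hv2, he'] }
  let a : AlgGrp.Action M X :=
    { act := lift (snd M X) (CartesianMonoidalCategory.fst M X) ≫ φ
      one_act := by
        have h1 := he' (𝟙_ (Over (Spec (CommRingCat.of k))) ⊗ X) (snd _ _)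
        rw [← Category.assoc]
        refine Eq.trans ?_ (h1.trans (leftUnitor_hom _).symm)
        congr 1
        ext1
        · simp
        · simp only [Category.assoc, lift_snd, whiskerRight_fst, comp_lift]
          rw [toUnit_unique (toUnit (𝟙_ (Over (Spec (CommRingCat.of k))) ⊗ X))
            (CartesianMonoidalCategory.fst (𝟙_ (Over (Spec (CommRingCat.of k)))) X)]
          rfl
      mul_act := by
        have h1 := hm' ((M ⊗ M) ⊗ X) (snd _ _) (CartesianMonoidalCategory.fst _ _ ≫ CartesianMonoidalCategory.fst _ _)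
          (CartesianMonoidalCategory.fst _ _ ≫ snd _ _)
        have h2 : m ▷ X ≫ lift (snd M X) (CartesianMonoidalCategory.fst M X) = lift (snd (M ⊗ M) X)
            (lift (CartesianMonoidalCategory.fst (M ⊗ M) X ≫ CartesianMonoidalCategory.fst M M)
              (CartesianMonoidalCategory.fst (M ⊗ M) X ≫ snd M M) ≫ m) := by
          ext1
          · simp
          · simp only [Category.assoc, lift_snd, whiskerRight_fst]
            rw [← comp_lift_assoc, lift_fst_snd, Category.id_comp]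
        have h3 : (α_ M M X).hom ≫ M ◁ (lift (snd M X) (CartesianMonoidalCategory.fst M X) ≫ φ) ≫
            lift (snd M X) (CartesianMonoidalCategory.fst M X) =
            lift (lift (snd (M ⊗ M) X) (CartesianMonoidalCategory.fst (M ⊗ M) X ≫ snd M M) ≫ φ)
              (CartesianMonoidalCategory.fst (M ⊗ M) X ≫ CartesianMonoidalCategory.fst M M) := by
          ext1
          · simp only [Category.assoc, lift_fst, whiskerLeft_snd]
            rw [← Category.assoc, ← Category.assoc]
            congr 1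
            ext1 <;> simp
          · simp
        have h4 : (m ▷ X ≫ lift (snd M X) (CartesianMonoidalCategory.fst M X)) ≫ φ =
            (α_ M M X).hom ≫ M ◁ (lift (snd M X) (CartesianMonoidalCategory.fst M X) ≫ φ) ≫
              lift (snd M X) (CartesianMonoidalCategory.fst M X) ≫ φ := by
          rw [h2, h1, ← h3]
          simp only [Category.assoc]
        rw [← Category.assoc]
        exact h4 }
  refine ⟨G, a, fun T g => ?_⟩
  rw [famOf, pullFam]
  change lift (snd X T ≫ g) (CartesianMonoidalCategory.fst X T) ≫ lift (snd M X) (CartesianMonoidalCategory.fst M X) ≫ φ = _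
  rw [← Category.assoc]
  congr 1
  ext1 <;> simp

end univ

end K402.AutGrp
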