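import Groth.Agent.AlgGrp.K402.AutGrp
import Groth.Agent.AlgGrp.K402.RedNeut
import Groth.Agent.AlgGrp.K408.AlmPlan
import Groth.Agent.SGA3.K209.WordNorm
import Groth.Agent.S2299
import Groth.Agent.Etcore.SmoothRed
import Groth.Agent.Sga3C.SubGrp
import Groth.Agent.Dix.ProjProper
import Mathlib.AlgebraicGeometry.Morphisms.SchemeTheoreticallyDominant
import Mathlib.AlgebraicGeometry.IdealSheaf.Subscheme

/-!
# The largest smooth connected group of automorphisms

`nodeA_of`: node A of the plan, from the representability of the automorphism functor on locally Noetherian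
test schemes.
-/

set_option autoImplicit false
universe u
open CategoryTheory MonoidalCategory CartesianMonoidalCategory MonObj GrpObj AlgebraicGeometry AutSch Limits
  TopologicalSpace

namespace K402.AutNeut

open Groth.Agent Groth.Agent.Sga3B Groth.Agent.Books.AlgPts Groth.Agent.Books.AlgPtsGrp K402.AutGrp

theorem dominant_toImage {X Y : Scheme.{u}} (f : X ⟶ Y) [QuasiCompact f] :
    IsSchemeTheoreticallyDominant f.toImage := by
  constructor
  let V : Y.affineOpens → f.image.affineOpens := fun U => ⟨f.imageι ⁻¹ᵁ U, U.2.preimage f.imageι⟩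
  refine Scheme.IdealSheafData.ext_of_iSup_eq_top V ?_ ?_
  · rw [eq_top_iff]
    intro z _
    obtain ⟨U, hU, hz, -⟩ := exists_isAffineOpen_mem_and_subset (X := Y) (x := f.imageι z)
      (U := ⊤) trivial
    exact Opens.mem_iSup.2 ⟨⟨U, hU⟩, hz⟩
  · intro U
    rw [Scheme.Hom.ker_apply]
    exact (RingHom.injective_iff_ker_eq_bot _).1 (f.toImage_app_injective U)

section

variable {S : Scheme.{u}}

theorem isPullback_whisker (P : Over S) {X Y : Over S} (f : X ⟶ Y) :
    IsPullback (P ◁ f).left (snd P X).left (snd P Y).left f.left := by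
  have h : IsPullback (P ◁ f) (snd P X) (snd P Y) f := by
    refine ⟨⟨by simp⟩, ⟨PullbackCone.IsLimit.mk _ (fun s => lift (s.fst ≫ fst _ _) s.snd) ?_ ?_ ?_⟩⟩
    · intro s
      apply CartesianMonoidalCategory.hom_ext
      · simp
      · simp [s.condition]
    · intro s
      simp
    · intro s m h1 h2
      apply CartesianMonoidalCategory.hom_ext
      · simp [← h1]
      · simp [← h2]
  exact h.map (Over.forget _)

end

variable {k : Type u} [Field k] {X M : Over (Spec (CommRingCat.of k))} {φ : X ⊗ M ⟶ X}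

/-- Two points with values in a quasi-compact scheme, one of which is constant. -/
theorem eq_of_compact [LocallyOfFiniteType M.hom] [IsSeparated X.hom] (h : Univ φ)
    (e : 𝟙_ (Over (Spec (CommRingCat.of k))) ⟶ M)
    (he : ∀ (Y : Over (Spec (CommRingCat.of k))) (x : Y ⟶ X), lift x (toUnit Y ≫ e) ≫ φ = x)
    (T : Over (Spec (CommRingCat.of k))) [CompactSpace T.left] (g : T ⟶ M)
    (hg : pullFam g φ = fst X T) : g = toUnit T ≫ e := by
  have n0 := ln_of_lft M
  have hqc : QuasiCompact g.left := inferInstance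
  let I : Over (Spec (CommRingCat.of k)) := Over.mk (g.left.imageι ≫ M.hom)
  let ii : I ⟶ M := Over.homMk g.left.imageι rfl
  let p : T ⟶ I := Over.homMk g.left.toImage (by
    change g.left.toImage ≫ g.left.imageι ≫ M.hom = T.hom
    rw [Scheme.Hom.toImage_imageι_assoc, Over.w])
  have hpi : p ≫ ii = g := by
    ext1
    exact Scheme.Hom.toImage_imageι g.left
  have hii : IsClosedImmersion ii.left := inferInstanceAs (IsClosedImmersion g.left.imageι)
  have hI : LocallyOfFiniteType I.hom := inferInstanceAs (LocallyOfFiniteType (g.left.imageι ≫ M.hom))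
  have nI := ln_of_lft I
  have hp1 : IsSchemeTheoreticallyDominant p.left := dominant_toImage g.left
  have hp2 : QuasiCompact p.left := by
    have : QuasiCompact (p.left ≫ ii.left) := by rw [← Over.comp_left, hpi]; exact hqc
    exact QuasiCompact.of_comp p.left ii.left
  have hfl : Flat (snd X I).left := by
    rw [Over.snd_left]
    infer_instance
  have hd : IsSchemeTheoreticallyDominant (X ◁ p).left :=
    IsSchemeTheoreticallyDominant.of_isPullback (isPullback_whisker X p).flip
  have h1 : pullFam ii φ = fst X I := by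
    ext1
    refine Groth.Agent.S2299.result (X ◁ p).left X.hom _ _ ?_ ?_
    · rw [Over.w, Over.w]
    · rw [← Over.comp_left, ← Over.comp_left]
      congr 1
      have h2 : X ◁ p ≫ pullFam ii φ = pullFam g φ := by
        rw [← hpi, pullFam, pullFam, MonoidalCategory.whiskerLeft_comp, Category.assoc]
      rw [h2, hg, whiskerLeft_fst]
  have h2 : ii = toUnit I ≫ e := by
    apply h.ext
    intro Y x t
    rw [← lift_pullFam, h1, lift_fst, ← Category.assoc, toUnit_unique (t ≫ toUnit I) (toUnit Y), he]
  rw [← hpi, h2, ← Category.assoc, toUnit_unique (p ≫ toUnit I) (toUnit T)]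

/-- Two points with values in any scheme, one of which is constant. -/
theorem eq_of_fam [LocallyOfFiniteType M.hom] [IsSeparated X.hom] (h : Univ φ)
    (e : 𝟙_ (Over (Spec (CommRingCat.of k))) ⟶ M)
    (he : ∀ (Y : Over (Spec (CommRingCat.of k))) (x : Y ⟶ X), lift x (toUnit Y ≫ e) ≫ φ = x)
    (T : Over (Spec (CommRingCat.of k))) (g : T ⟶ M)
    (hg : pullFam g φ = fst X T) : g = toUnit T ≫ e := by
  ext1
  refine T.left.affineCover.hom_ext _ _ fun i => ?_
  let U : Over (Spec (CommRingCat.of k)) := Over.mk (T.left.affineCover.f i ≫ T.hom)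
  let j : U ⟶ T := Over.homMk (T.left.affineCover.f i) rfl
  have hU : CompactSpace U.left := by
    change CompactSpace (T.left.affineCover.X i)
    infer_instance
  have h1 : pullFam (j ≫ g) φ = fst X U := by
    have h2 : pullFam (j ≫ g) φ = X ◁ j ≫ pullFam g φ := by
      rw [pullFam, pullFam, MonoidalCategory.whiskerLeft_comp, Category.assoc]
    rw [h2, hg, whiskerLeft_fst]
  have h2 := eq_of_compact h e he U (j ≫ g) h1
  rw [← toUnit_unique (j ≫ toUnit T) (toUnit U), Category.assoc] at h2
  exact congrArg (fun q => q.left) h2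

theorem lift_famOf {G : Over (Spec (CommRingCat.of k))} [GrpObj G] (a : AlgGrp.Action G X)
    {T Y : Over (Spec (CommRingCat.of k))} (g : T ⟶ G) (x : Y ⟶ X) (t : Y ⟶ T) :
    lift x t ≫ famOf a g = lift (t ≫ g) x ≫ a.act := by
  rw [famOf, comp_lift_assoc, lift_fst, lift_snd_assoc]

theorem one_smul {G : Over (Spec (CommRingCat.of k))} [GrpObj G] (a : AlgGrp.Action G X)
    {Y : Over (Spec (CommRingCat.of k))} (t : Y ⟶ 𝟙_ (Over (Spec (CommRingCat.of k)))) (x : Y ⟶ X) :
    lift (t ≫ η[G]) x ≫ a.act = x := by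
  have h1 := congrArg (lift t x ≫ ·) a.one_act
  simp only [lift_whiskerRight_assoc, leftUnitor_hom, lift_snd] at h1
  exact h1

theorem mul_smul {G : Over (Spec (CommRingCat.of k))} [GrpObj G] (a : AlgGrp.Action G X)
    {Y : Over (Spec (CommRingCat.of k))} (g h : Y ⟶ G) (x : Y ⟶ X) :
    lift (lift g h ≫ μ[G]) x ≫ a.act = lift g (lift h x ≫ a.act) ≫ a.act := by
  have h1 := congrArg (lift (lift g h) x ≫ ·) a.mul_act
  simp only [lift_whiskerRight_assoc, lift_lift_associator_hom_assoc, lift_whiskerLeft_assoc] at h1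
  exact h1

theorem inv_famOf {G : Over (Spec (CommRingCat.of k))} [GrpObj G] (a : AlgGrp.Action G X)
    {T : Over (Spec (CommRingCat.of k))} (g : T ⟶ G) : Inv (famOf a g) (famOf a (g ≫ GrpObj.inv)) := by
  constructor
  · intro Y x t
    have h1 : lift (t ≫ g ≫ GrpObj.inv) (t ≫ g) ≫ μ[G] = (t ≫ g ≫ toUnit G) ≫ η[G] := by
      have h2 := congrArg ((t ≫ g) ≫ ·) (GrpObj.left_inv G)
      simp only [comp_lift_assoc, Category.comp_id, Category.assoc] at h2
      simpa only [Category.assoc] using h2
    rw [lift_famOf, lift_famOf, ← mul_smul, h1, one_smul]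
  · intro Y x t
    have h1 : lift (t ≫ g) (t ≫ g ≫ GrpObj.inv) ≫ μ[G] = (t ≫ g ≫ toUnit G) ≫ η[G] := by
      have h2 := congrArg ((t ≫ g) ≫ ·) (GrpObj.right_inv G)
      simp only [comp_lift_assoc, Category.comp_id, Category.assoc] at h2
      simpa only [Category.assoc] using h2
    rw [lift_famOf, lift_famOf, ← mul_smul, h1, one_smul]

/-- The restriction of an action. -/
noncomputable def restr {G H : Over (Spec (CommRingCat.of k))} [GrpObj G] [GrpObj H] (a : AlgGrp.Action G X)
    (i : H ⟶ G) [IsMonHom i] : AlgGrp.Action H X where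
  act := (i ▷ X) ≫ a.act
  one_act := by
    rw [← Category.assoc, ← comp_whiskerRight, IsMonHom.one_hom, a.one_act]
  mul_act := by
    have h := a.mul_act
    rw [← Category.assoc, ← comp_whiskerRight, IsMonHom.mul_hom, comp_whiskerRight,
      Category.assoc, h]
    simp only [MonoidalCategory.tensorHom_def, comp_whiskerRight, Category.assoc, MonoidalCategory.whiskerLeft_comp,
      whisker_assoc, Iso.inv_hom_id_assoc]
    rw [whisker_exchange_assoc (f := i) (g := a.act)]
    rw [whisker_exchange_assoc (f := i) (g := i ▷ X)]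
    rw [← associator_naturality_left_assoc]

theorem nodeA_of (hA : ∀ (k : Type u) [Field k] [IsAlgClosed k] (X : Over (Spec (CommRingCat.of k)))
    [IsIntegral X.left], RelProj.IsHProjective X.hom →
      ∃ (M : Over (Spec (CommRingCat.of k))) (_ : LocallyOfFiniteType M.hom) (φ : X ⊗ M ⟶ X), Univ φ) :
    AlgGrp.K408.AlmPlan.NodeA.{u} := by
  intro k _ _ X _ hX
  have hXs : IsSeparated X.hom := by
    obtain ⟨n, i, hi, hf⟩ := hX
    have := Groth.Agent.Dix.ProjProper.isProper_toBase n (Spec (CommRingCat.of k))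
    rw [← hf]
    infer_instance
  obtain ⟨M, _, φ, h⟩ := hA k X hX
  obtain ⟨_, a, ha⟩ := exists_grp h
  -- the universal family in terms of the action
  have hφ : ∀ (Y : Over (Spec (CommRingCat.of k))) (x : Y ⟶ X) (t : Y ⟶ M),
      lift x t ≫ φ = lift t x ≫ a.act := by
    intro Y x t
    have h1 := lift_famOf a (𝟙 M) x t
    rw [ha, lift_pullFam, Category.comp_id] at h1
    exact h1
  have hext : ∀ {T : Over (Spec (CommRingCat.of k))} [LocallyOfFiniteType T.hom] {g g' : T ⟶ M},
      (∀ (Y : Over (Spec (CommRingCat.of k))) (x : Y ⟶ X) (t : Y ⟶ T),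
        lift (t ≫ g) x ≫ a.act = lift (t ≫ g') x ≫ a.act) → g = g' := by
    intro T _ g g' hg
    have nT := ln_of_lft T
    apply h.ext
    intro Y x t
    rw [hφ, hφ]
    exact hg Y x t
  have hM : AlgGrp.K408.AlmPlan.Faithful a := by
    intro T g hg
    refine eq_of_fam h η[M] (fun Y x => ?_) T g ?_
    · rw [hφ, one_smul]
    · have h2 := lift_pullFam g φ (fst X T) (snd X T)
      rw [lift_fst_snd, Category.id_comp, hφ] at h2
      have h3 := congrArg (lift (snd X T) (fst X T) ≫ ·) hg
      simp only [comp_lift_assoc, lift_fst_assoc, lift_snd] at h3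
      rw [h2]
      exact h3
  obtain ⟨A, _, u, hu1, hu2, hu3, hu4, hu5⟩ := K402.RedNeut.exists_redNeut M
  have hmono : Mono u := Over.mono_of_mono_left u
  refine ⟨A, inferInstance, restr a u, hu3, K209.WordNorm.quasiCompact_of_connected A, hu4, ?_, ?_⟩
  · intro T g hg
    rw [← cancel_mono u, Category.assoc, IsMonHom.one_hom]
    apply hM
    change lift _ _ ≫ (u ▷ X) ≫ a.act = _ at hg
    rw [lift_whiskerRight_assoc, Category.assoc] at hg
    exact hg
  · intro B _ _ _ _ b
    have nB := ln_of_lft B
    have hBr : IsReduced B.left := Etcore.SmoothRed.isReduced_of_smooth B.hom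
    obtain ⟨g, hg⟩ := h.exists B (inv_famOf b (𝟙 B)).isAutFamily
    have hg' : ∀ (Y : Over (Spec (CommRingCat.of k))) (t : Y ⟶ B) (x : Y ⟶ X),
        lift (t ≫ g) x ≫ a.act = lift t x ≫ b.act := by
      intro Y t x
      rw [← hφ, hg, lift_famOf, Category.comp_id]
    have hgm : IsMonHom g := by
      constructor
      · have l1 : LocallyOfFiniteType (𝟙_ (Over (Spec (CommRingCat.of k)))).hom := by
          change LocallyOfFiniteType (𝟙 _); infer_instance
        apply hext
        intro Y x t
        rw [← Category.assoc, hg', one_smul, one_smul]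
      · have l2 := lft_tensor B B
        apply hext
        intro Y x t
        have h1 : t ≫ μ[B] = lift (t ≫ fst B B) (t ≫ snd B B) ≫ μ[B] := by
          rw [← comp_lift, lift_fst_snd, Category.comp_id]
        have h2 : t ≫ (g ⊗ₘ g) ≫ μ[M] = lift ((t ≫ fst B B) ≫ g) ((t ≫ snd B B) ≫ g) ≫ μ[M] := by
          rw [← Category.assoc]
          congr 1
          ext1 <;> simp
        rw [← Category.assoc, hg', h1, mul_smul, h2, mul_smul, hg', hg']
    have hr : Set.range g.left ⊆ Set.range u.left := by
      rw [hu5]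
      have h1 : g.left (pt η[B]) = pt η[M] := by rw [← pt_comp, IsMonHom.one_hom]
      exact (isPreconnected_range g.left.continuous).subset_connectedComponent ⟨_, h1⟩
    obtain ⟨f, hf⟩ := exists_lift u g hr
    have hgm' : IsMonHom (f ≫ u) := by rw [hf]; exact hgm
    refine ⟨f, Sga3C.SubGrp.isMonHom_of_comp_mono f u, ?_⟩
    change f ▷ X ≫ u ▷ X ≫ a.act = b.act
    rw [← comp_whiskerRight_assoc, hf]
    have h1 := hg' (B ⊗ X) (fst B X) (snd B X)
    rw [lift_fst_snd, Category.id_comp] at h1
    rw [← h1]
    congr 1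

end K402.AutNeut
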