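import Groth.Agent.AlgGrp.K402.AutNeut
import Groth.Agent.MorSch.K314.MorScheme
import Groth.Agent.S1616
import Groth.Agent.S3218
import Groth.Agent.S17076

/-!
# The scheme of automorphisms of a projective scheme over a field

`exists_univ`: it exists, on locally Noetherian test schemes.
-/

set_option autoImplicit false
universe u
open CategoryTheory MonoidalCategory CartesianMonoidalCategory MonObj GrpObj AlgebraicGeometry AutSch Limits
  TopologicalSpace

namespace K402.AutRep

open K402.AutGrp K402.AutNeut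

section hilb

/-- The square of an `H`-projective scheme is `H`-projective. -/
theorem exists_sq {S X : Scheme.{u}} (f : X ⟶ S) (hf : RelProj.IsHProjective f) :
    RelProj.IsHProjective (pullback.fst f f ≫ f) := by
  obtain ⟨n, i, hi, rfl⟩ := hf
  obtain ⟨s, hs, hs2⟩ := Groth.Agent.S1616.result S n n
  let w := pullback.map (i ≫ CohB1.ProjSpaceOver.toBase n S) (i ≫ CohB1.ProjSpaceOver.toBase n S)
    (CohB1.ProjSpaceOver.toBase n S) (CohB1.ProjSpaceOver.toBase n S) i i (𝟙 S) (by simp) (by simp)
  have hw : IsClosedImmersion w :=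
    MorphismProperty.pullback_map (P := @IsClosedImmersion) hi hi (by simp) (by simp)
  refine ⟨_, w ≫ s, inferInstance, ?_⟩
  rw [Category.assoc, hs2, ← Category.assoc, pullback.lift_fst, Category.assoc]

/-- The Hilbert scheme of an `H`-projective scheme over a Noetherian scheme. -/
theorem exists_hilb {S X : Scheme.{u}} [IsNoetherian S] (f : X ⟶ S) (hf : RelProj.IsHProjective f) :
    ∃ (H : Over S) (Z : FGA.HilbSet f H), LocallyOfFiniteType H.hom ∧ FGA.HilbRepresentedBy f H Z := by
  obtain ⟨n, i, hi, rfl⟩ := hf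
  obtain ⟨H, Z, hZ, ι', P, e, r, c, hc⟩ := Groth.Agent.S3218.result S n X i
  refine ⟨H, Z, ?_, hZ⟩
  have h1 : LocallyOfFiniteType (e.hom ≫ H.hom) := by
    refine IsZariskiLocalAtSource.of_openCover (P := @LocallyOfFiniteType) (sigmaOpenCover P) fun a => ?_
    obtain ⟨hc1, hc2⟩ := hc a
    have := Groth.Agent.Dix.ProjProper.isProper_toBase (r a) S
    have h2 : LocallyOfFiniteType (c a ≫ CohB1.ProjSpaceOver.toBase (r a) S) := inferInstance
    rw [hc2] at h2
    exact h2
  have h2 : LocallyOfFiniteType (e.inv ≫ e.hom ≫ H.hom) := inferInstance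
  rwa [Iso.inv_hom_id_assoc] at h2

end hilb

variable {k : Type u} [Field k]

/-- The scheme of endomorphisms. -/
theorem exists_mor (X : Over (Spec (CommRingCat.of k))) (hX : RelProj.IsHProjective X.hom) :
    ∃ (M : Over (Spec (CommRingCat.of k))) (_ : LocallyOfFiniteType M.hom) (φ : X ⊗ M ⟶ X),
      ∀ (T : Over (Spec (CommRingCat.of k))) [IsLocallyNoetherian T.left] (ψ : X ⊗ T ⟶ X),
        ∃! g : T ⟶ M, pullFam g φ = ψ := by
  have hXp : IsProper X.hom := by
    obtain ⟨n, i, hi, hf⟩ := hX
    have := Groth.Agent.Dix.ProjProper.isProper_toBase n (Spec (CommRingCat.of k))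
    rw [← hf]
    infer_instance
  obtain ⟨H, Z, hH, hZ⟩ := exists_hilb (pullback.fst X.hom X.hom ≫ X.hom) (exists_sq X.hom hX)
  obtain ⟨H₀, u, hu⟩ := K314.MorScheme.exists_isMor X.hom X.hom H Z hZ
  let M : Over (Spec (CommRingCat.of k)) := Over.mk (H₀.ι ≫ H.hom)
  let s : (X ⊗ M).left ⟶ pullback (H₀.ι ≫ H.hom) X.hom := pullback.lift (snd X M).left (fst X M).left (by
    rw [Over.w (fst X M)]; exact Over.w (snd X M))
  have hs1 : s ≫ pullback.fst _ _ = (snd X M).left := pullback.lift_fst _ _ _
  have hs2 : s ≫ pullback.snd _ _ = (fst X M).left := pullback.lift_snd _ _ _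
  let φ : X ⊗ M ⟶ X := Over.homMk (s ≫ u) (by
    rw [Category.assoc, hu.comm, ← Category.assoc, hs1]; exact Over.w (snd X M))
  refine ⟨M, inferInstanceAs (LocallyOfFiniteType (H₀.ι ≫ H.hom)), φ, fun T _ ψ => ?_⟩
  have hT : IsPullback (fst X T).left (snd X T).left X.hom T.hom := IsPullback.of_hasPullback X.hom T.hom
  obtain ⟨g, ⟨hg1, hg2⟩, hg3⟩ := hu.existsUnique T.hom (fst X T).left (snd X T).left hT ψ.left
    ((Over.w ψ).trans (Over.w (snd X T)).symm)
  refine ⟨Over.homMk g hg1, ?_, fun g' hg' => ?_⟩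
  · ext1
    have h1 := hg2 ((X ◁ (Over.homMk g hg1 : T ⟶ M)).left ≫ s)
      (by rw [Category.assoc, hs2, ← Over.comp_left, whiskerLeft_fst])
      (by rw [Category.assoc, hs1, ← Over.comp_left, whiskerLeft_snd]; rfl)
    rw [← h1, Category.assoc]
    rfl
  · ext1
    refine hg3 _ ⟨Over.w g', fun h h1 h2 => ?_⟩
    have h3 : h = (X ◁ g').left ≫ s := by
      apply pullback.hom_ext
      · rw [h2, Category.assoc, hs1]
        exact (congrArg (fun q => q.left) (whiskerLeft_snd X g')).symm
      · rw [h1, Category.assoc, hs2]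
        exact (congrArg (fun q => q.left) (whiskerLeft_fst X g')).symm
    rw [h3, ← hg', Category.assoc]
    rfl

theorem endOf_pull {X T T' : Over (Spec (CommRingCat.of k))} (g : T' ⟶ T) (φ : X ⊗ T ⟶ X) :
    X ◁ g ≫ endOf φ = endOf (pullFam g φ) ≫ X ◁ g := by
  ext1
  · rw [Category.assoc, Category.assoc, endOf_fst, whiskerLeft_fst, endOf_fst]; rfl
  · rw [Category.assoc, Category.assoc, endOf_snd, whiskerLeft_snd, endOf_snd_assoc]

/-- **The scheme of automorphisms.** -/
theorem exists_univ (X : Over (Spec (CommRingCat.of k))) (hX : RelProj.IsHProjective X.hom) :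
    ∃ (M : Over (Spec (CommRingCat.of k))) (_ : LocallyOfFiniteType M.hom) (φ : X ⊗ M ⟶ X), Univ φ := by
  have hXp : IsProper X.hom := by
    obtain ⟨n, i, hi, hf⟩ := hX
    have := Groth.Agent.Dix.ProjProper.isProper_toBase n (Spec (CommRingCat.of k))
    rw [← hf]
    infer_instance
  obtain ⟨M₀, _, φ₀, h₀⟩ := exists_mor X hX
  have n0 := ln_of_lft M₀
  let P : Over M₀.left := Over.mk (snd X M₀).left
  let f : P ⟶ P := Over.homMk (endOf φ₀).left (by
    change (endOf φ₀).left ≫ (snd X M₀).left = (snd X M₀).left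
    rw [← Over.comp_left, endOf_snd])
  have hP1 : IsProper P.hom := inferInstanceAs (IsProper (pullback.snd X.hom M₀.hom))
  have hP2 : Flat P.hom := inferInstanceAs (Flat (pullback.snd X.hom M₀.hom))
  obtain ⟨U, hU⟩ := Groth.Agent.S17076.result P P f
  -- a family is a family of automorphisms when its classifying morphism has its image in `U`
  have key : ∀ (T : Over (Spec (CommRingCat.of k))) [IsLocallyNoetherian T.left] (g : T ⟶ M₀),
      Set.range g.left ⊆ (U : Set M₀.left) ↔ IsAutFamily (pullFam g φ₀) := by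
    intro T _ g
    rw [hU T.left g.left]
    have hpb := isPullback_whisker X g
    let e : (X ⊗ T).left ≅ pullback P.hom g.left := hpb.isoPullback
    have he1 : e.hom ≫ pullback.fst _ _ = (X ◁ g).left := hpb.isoPullback_hom_fst
    have he2 : e.hom ≫ pullback.snd _ _ = (snd X T).left := hpb.isoPullback_hom_snd
    have h1 : e.hom ≫ ((Over.pullback g.left).map f).left = (endOf (pullFam g φ₀)).left ≫ e.hom := by
      have e1 : ((Over.pullback g.left).map f).left ≫ pullback.fst P.hom g.left =
        pullback.fst P.hom g.left ≫ f.left := pullback.lift_fst _ _ _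
      have e2 : ((Over.pullback g.left).map f).left ≫ pullback.snd P.hom g.left =
        pullback.snd P.hom g.left := pullback.lift_snd _ _ _
      apply pullback.hom_ext
      · rw [Category.assoc, e1, ← Category.assoc, he1, Category.assoc, he1]
        have h2 := endOf_pull g φ₀
        exact congrArg (fun q => q.left) h2
      · rw [Category.assoc, e2, he2, Category.assoc, he2, ← Over.comp_left, endOf_snd]
    have h2 : ((Over.pullback g.left).map f).left = e.inv ≫ (endOf (pullFam g φ₀)).left ≫ e.hom := by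
      rw [← h1, Iso.inv_hom_id_assoc]
    rw [h2]
    constructor
    · intro h3
      have h4 : IsIso (endOf (pullFam g φ₀)).left := by
        have h5 : IsIso ((endOf (pullFam g φ₀)).left ≫ e.hom) := IsIso.of_isIso_comp_left e.inv _
        exact IsIso.of_isIso_comp_right _ e.hom
      have h5 : IsIso ((Over.forget _).map (endOf (pullFam g φ₀))) := h4
      exact isIso_of_reflects_iso _ (Over.forget (Spec (CommRingCat.of k)))
    · intro h3
      have h4 : IsIso (endOf (pullFam g φ₀)) := h3
      have h5 : IsIso (endOf (pullFam g φ₀)).left :=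
        inferInstanceAs (IsIso ((Over.forget (Spec (CommRingCat.of k))).map (endOf (pullFam g φ₀))))
      have h6 : IsIso ((endOf (pullFam g φ₀)).left ≫ e.hom) := inferInstance
      exact IsIso.comp_isIso
  let M : Over (Spec (CommRingCat.of k)) := Over.mk (U.ι ≫ M₀.hom)
  let j : M ⟶ M₀ := Over.homMk U.ι rfl
  have hj : Mono j := Over.mono_of_mono_left j
  have hM : LocallyOfFiniteType M.hom := inferInstanceAs (LocallyOfFiniteType (U.ι ≫ M₀.hom))
  have nM := ln_of_lft M
  have hjr : Set.range j.left = (U : Set M₀.left) := Scheme.Opens.range_ι U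
  refine ⟨M, hM, pullFam j φ₀, (key M j).1 hjr.le, fun T _ ψ hψ => ?_⟩
  have hcomp : ∀ g : T ⟶ M, pullFam g (pullFam j φ₀) = pullFam (g ≫ j) φ₀ := fun g => by
    rw [pullFam, pullFam, pullFam, MonoidalCategory.whiskerLeft_comp, Category.assoc]
  obtain ⟨g₀, hg₀, hg₁⟩ := h₀ T ψ
  have hr : Set.range g₀.left ⊆ (U : Set M₀.left) := by
    rw [key T g₀, hg₀]
    exact hψ
  let g : T ⟶ M := Over.homMk (IsOpenImmersion.lift U.ι g₀.left (by rw [Scheme.Opens.range_ι]; exact hr)) (by
    change _ ≫ U.ι ≫ M₀.hom = _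
    rw [IsOpenImmersion.lift_fac_assoc, Over.w])
  have hg : g ≫ j = g₀ := by
    ext1
    exact IsOpenImmersion.lift_fac _ _ _
  refine ⟨g, ?_, fun g' hg' => ?_⟩
  · change pullFam g (pullFam j φ₀) = ψ
    rw [hcomp, hg, hg₀]
  · change pullFam g' (pullFam j φ₀) = ψ at hg'
    rw [hcomp] at hg'
    rw [← cancel_mono j, hg]
    exact hg₁ _ hg'

/-- **Node A.** -/
theorem nodeA : Groth.Agent.AlgGrp.K408.AlmPlan.NodeA.{u} :=
  nodeA_of fun _ _ _ X _ hX => exists_univ X hX

end K402.AutRep
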