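import Groth.Agent.AlgGrp.K402.Crit
import Groth.Agent.AlgGrp.K398.PowSurj
import Groth.Agent.AlgGrp.K414.AntiAffBC
import Groth.Agent.Sga7.H617.GaKill
import Groth.Agent.S3026
import Groth.Agent.S3293

/-!
# Anti-affine groups in positive characteristic are semi-abelian
-/

set_option autoImplicit false
universe u
open CategoryTheory MonoidalCategory CartesianMonoidalCategory MonObj GrpObj AlgebraicGeometry Limits

namespace K402.CharP

open Groth.Agent Groth.Agent.Sga3B SemiAb Crit Groth.Agent.Sga7.H109.Basic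

variable {k : Type u} [Field k]

/-- Anti-affine groups in characteristic `p` are semi-abelian. -/
theorem semiAb_of_antiAffine (p : ℕ) [Fact p.Prime] [CharP k p]
    (G : Over (Spec (CommRingCat.of k))) [GrpObj G] [LocallyOfFiniteType G.hom] [QuasiCompact G.hom]
    (hG : Function.Bijective ((Scheme.ΓSpecIso (CommRingCat.of k)).inv ≫ G.hom.appTop).hom) : SemiAb G := by
  obtain ⟨h1, h2⟩ := S3293.result k G hG
  have h3 := S3026.result k G hG
  refine semiAb_iff_noGa.2 fun j _ _ => ?_
  have i1 : QuasiCompact (Red.bc (cl k) G).hom := inferInstanceAs (QuasiCompact (pullback.snd G.hom (cl k)))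
  have i2 : Smooth (Red.bc (cl k) G).hom := inferInstanceAs (Smooth (pullback.snd G.hom (cl k)))
  have i3 : IsIso (Red.bc (cl k) G).hom.appTop :=
    (K414.AntiAffBC.isIso_iff G (cl k)).1 ((K414.AntiAffBC.bijective_iff G).1 hG)
  have hp : 1 ≤ p := (Fact.out : p.Prime).one_lt.le
  have h4 : Surjective ((𝟙 (Red.bc (cl k) G) : Red.bc (cl k) G ⟶ Red.bc (cl k) G) ^ p).left :=
    K398.PowSurj.surjective_pow p hp
  have h5 : IsMonHom ((𝟙 (Red.bc (cl k) G) : Red.bc (cl k) G ⟶ Red.bc (cl k) G) ^ p) :=
    K398.PowSurj.isMonHom_pow p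
  have h6 : IsReduced (Red.bc (cl k) G).left := Etcore.SmoothRed.isReduced_of_smooth (Red.bc (cl k) G).hom
  have hcast : ((p : ℕ) : AlgebraicClosure k) = 0 := by
    rw [← map_natCast (algebraMap k (AlgebraicClosure k)), CharP.cast_eq_zero, map_zero]
  exact Sga7.H617.GaKill.false_of_surjective _ j (Sga7.H617.GaKill.comp_pow_eq_one p hcast j)

end K402.CharP
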