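import Groth.Agent.AlgGrp.K402.Descent
import Groth.Agent.AlgGrp.K402.Comm
import Groth.Agent.AlgGrp.K402.GaTor
import Groth.Agent.Sga7.H109.Quot

/-!
# Semi-abelian varieties and homomorphisms from the additive group
-/

set_option autoImplicit false
universe u
open CategoryTheory MonoidalCategory CartesianMonoidalCategory MonObj GrpObj AlgebraicGeometry Limits

namespace K402.Crit

open Groth.Agent Groth.Agent.Sga3B SemiAb Quo Groth.Agent.Sga7.H109.Basic

section ac

variable {K : Type u} [Field K] [IsAlgClosed K]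

/-- Homomorphisms from the additive group to a semi-abelian variety are trivial. -/
theorem ga_eq_one {G : Over (Spec (CommRingCat.of K))} [GrpObj G] (h : SemiAb G)
    (j : Red.Ga (Spec (CommRingCat.of K)) ⟶ G) [IsMonHom j] : j = 1 := by
  obtain ⟨T, _, i, A, _, q, h1, h2, h3, h4, h5, h6, h7, h8, h9, h10⟩ := h
  have g1 := Sga3.H783.GaGm.isAffine_ga K
  have g2 := Sga3.H783.GaGm.isIntegral_ga K
  obtain ⟨a, ha⟩ := Sga3.H821.AffProper.exists_factor_kernel K j i q h7
  have hm : Mono i := Books.AlgPtsGrp.mono_of_isClosedImmersion i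
  have : IsMonHom (a ≫ i) := by rw [ha]; infer_instance
  have hah : IsMonHom a := Comm.isMonHom_of_comp_mono a i
  rw [← ha, GaTor.hom_torus_eq_one h3 a, MonObj.one_comp]

omit [IsAlgClosed K] in
theorem ne_one_of_closedImmersion {G : Over (Spec (CommRingCat.of K))} [GrpObj G]
    (j : Red.Ga (Spec (CommRingCat.of K)) ⟶ G) [IsClosedImmersion j.left] : j ≠ 1 := by
  have : Mono j := Books.AlgPtsGrp.mono_of_isClosedImmersion j
  exact Sga7.H738.GaBc.ne_one_of_mono j

/-- A semi-abelian variety contains no additive group. -/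
theorem noGa {G : Over (Spec (CommRingCat.of K))} [GrpObj G] (h : SemiAb G) : NoGa G :=
  fun j _ _ => ne_one_of_closedImmersion j (ga_eq_one h j)

/-- A smooth connected commutative group which contains no additive group is a semi-abelian variety. -/
theorem semiAb_of_noGa (G : Over (Spec (CommRingCat.of K))) [GrpObj G] [IsCommMonObj G] [Smooth G.hom]
    [QuasiCompact G.hom] [ConnectedSpace G.left] (h : NoGa G) : SemiAb G := by
  obtain ⟨r, i, Q, _, q, h1, h2, h3, h4, h5, h6, h7, h8, h9⟩ := Sga7.H109.Struct.exists_semiabelian G h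
  exact ⟨_, inferInstance, i, Q, inferInstance, q, h1, h2,
    RG.BrTorus.isTorus_of_isSplitTorusWith (r := r) ⟨Iso.refl _⟩, h3, h4, h5, h6, h7, h8, h9⟩

end ac

section field

variable {k : Type u} [Field k]

/-- The base change to an algebraic closure. -/
noncomputable abbrev cl (k : Type u) [Field k] :
    Spec (CommRingCat.of (AlgebraicClosure k)) ⟶ Spec (CommRingCat.of k) :=
  Spec.map (CommRingCat.ofHom (algebraMap k (AlgebraicClosure k)))

instance isCommMonObj_bc {S S' : Scheme.{u}} (f : S' ⟶ S) (G : Over S) [GrpObj G] [IsCommMonObj G] :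
    IsCommMonObj (Red.bc f G) := by
  refine Comm.isCommMonObj_of_points _ fun X a b => ?_
  apply (BcPts.bcMulEquiv f X G).symm.injective
  have h : ∀ {Y : Over S} (x y : Y ⟶ G), x * y = y * x := fun x y => _root_.mul_comm x y
  exact (map_mul _ a b).trans ((h _ _).trans (map_mul _ b a).symm)

variable {G : Over (Spec (CommRingCat.of k))} [GrpObj G]

theorem semiAb_iff_bc [LocallyOfFiniteType G.hom] [QuasiCompact G.hom] :
    SemiAb G ↔ SemiAb (Red.bc (cl k) G) :=
  ⟨fun h => SemiAb.bc (cl k) h, fun h => Descent.semiAb_of_bc (AlgebraicClosure k) G h⟩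

/-- The criterion over an arbitrary field. -/
theorem semiAb_iff_noGa [IsCommMonObj G] [Smooth G.hom] [QuasiCompact G.hom] [ConnectedSpace G.left] :
    SemiAb G ↔ NoGa (Red.bc (cl k) G) := by
  have i1 : QuasiCompact (Red.bc (cl k) G).hom := inferInstanceAs (QuasiCompact (pullback.snd G.hom (cl k)))
  have i2 : Smooth (Red.bc (cl k) G).hom := inferInstanceAs (Smooth (pullback.snd G.hom (cl k)))
  have i3 := connectedSpace_bc (cl k) G
  rw [semiAb_iff_bc]
  exact ⟨noGa, semiAb_of_noGa _⟩

theorem semiAb_iff_ga [IsCommMonObj G] [Smooth G.hom] [QuasiCompact G.hom] [ConnectedSpace G.left] :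
    SemiAb G ↔ ∀ j : Red.Ga (Spec (CommRingCat.of (AlgebraicClosure k))) ⟶ Red.bc (cl k) G, IsMonHom j → j = 1 := by
  constructor
  · intro h j _
    exact ga_eq_one (SemiAb.bc (cl k) h) j
  · intro h
    exact semiAb_iff_noGa.2 fun j _ _ => ne_one_of_closedImmersion j (h j inferInstance)

end field

end K402.Crit
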