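import Mathlib.CategoryTheory.Monoidal.Cartesian.CommGrp_
import Mathlib.CategoryTheory.Monoidal.Cartesian.Grp

/-!
# The cross difference of a morphism from a product to a commutative group object
-/

set_option autoImplicit false
open CategoryTheory MonoidalCategory CartesianMonoidalCategory MonObj GrpObj

namespace K402.Cross

universe v u
variable {C : Type u} [Category.{v} C] [CartesianMonoidalCategory C] [BraidedCategory C]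
  {X Y G H U V : C} [GrpObj G] [GrpObj H]

lemma aux1 {A : Type*} [CommGroup A] (a b : A) : a * b⁻¹ * a⁻¹ * b = 1 := by
  have : a * b⁻¹ * a⁻¹ * b = (a * a⁻¹) * (b * b⁻¹) := by ac_rfl
  rw [this]; simp

lemma aux2 {A : Type*} [CommGroup A] (f p q r : A) (h : f * p⁻¹ * q⁻¹ * r = 1) : f = p * (q * r⁻¹) := by
  have h1 : f = (f * p⁻¹ * q⁻¹ * r) * (p * (q * r⁻¹)) := by
    have : (f * p⁻¹ * q⁻¹ * r) * (p * (q * r⁻¹)) = f * (p * p⁻¹) * (q * q⁻¹) * (r * r⁻¹) := by ac_rfl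
    rw [this]; simp
  rw [h, _root_.one_mul] at h1
  exact h1

lemma aux3 {A : Type*} [CommGroup A] (p q r s : A) :
    p * r * (p * s)⁻¹ * (q * r)⁻¹ * (q * s) = 1 := by
  have h1 : p * r * (p * s)⁻¹ * (q * r)⁻¹ * (q * s) = p * r * (p⁻¹ * s⁻¹) * (q⁻¹ * r⁻¹) * (q * s) := by
    rw [_root_.mul_inv, _root_.mul_inv]
  have h2 : p * r * (p⁻¹ * s⁻¹) * (q⁻¹ * r⁻¹) * (q * s) = (p * p⁻¹) * (r * r⁻¹) * (q * q⁻¹) * (s * s⁻¹) := by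
    ac_rfl
  rw [h1, h2]; simp

/-- `f (x, y) f (x, y₁)⁻¹ f (x₁, y)⁻¹ f (x₁, y₁)`. -/
def cross (x₁ : 𝟙_ C ⟶ X) (y₁ : 𝟙_ C ⟶ Y) (f : X ⊗ Y ⟶ G) : X ⊗ Y ⟶ G :=
  f * (fst X Y ≫ lift (𝟙 X) (toUnit X ≫ y₁) ≫ f)⁻¹ * (snd X Y ≫ lift (toUnit Y ≫ x₁) (𝟙 Y) ≫ f)⁻¹ *
    (toUnit (X ⊗ Y) ≫ lift x₁ y₁ ≫ f)

omit [BraidedCategory C] in
lemma lift_cross (x₁ : 𝟙_ C ⟶ X) (y₁ : 𝟙_ C ⟶ Y) (f : X ⊗ Y ⟶ G) {T : C} (x : T ⟶ X) (y : T ⟶ Y) :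
    lift x y ≫ cross x₁ y₁ f = (lift x y ≫ f) * (lift x (toUnit T ≫ y₁) ≫ f)⁻¹ *
      (lift (toUnit T ≫ x₁) y ≫ f)⁻¹ * (lift (toUnit T ≫ x₁) (toUnit T ≫ y₁) ≫ f) := by
  have h1 : lift x y ≫ fst X Y ≫ lift (𝟙 X) (toUnit X ≫ y₁) = lift x (toUnit T ≫ y₁) := by
    ext
    · simp
    · simp [← Category.assoc, toUnit_unique (lift x y ≫ toUnit _) (toUnit T),
        toUnit_unique (x ≫ toUnit _) (toUnit T)]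
  have h2 : lift x y ≫ snd X Y ≫ lift (toUnit Y ≫ x₁) (𝟙 Y) = lift (toUnit T ≫ x₁) y := by
    ext
    · simp [← Category.assoc, toUnit_unique (lift x y ≫ toUnit _) (toUnit T),
        toUnit_unique (y ≫ toUnit _) (toUnit T)]
    · simp
  have h3 : lift x y ≫ toUnit (X ⊗ Y) ≫ lift x₁ y₁ = lift (toUnit T ≫ x₁) (toUnit T ≫ y₁) := by
    rw [← Category.assoc, toUnit_unique (lift x y ≫ toUnit _) (toUnit T), comp_lift]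
  simp only [cross, MonObj.comp_mul, GrpObj.comp_inv, ← h1, ← h2, ← h3, Category.assoc]

omit [BraidedCategory C] in
lemma cross_left [BraidedCategory C] [IsCommMonObj G] (x₁ : 𝟙_ C ⟶ X) (y₁ : 𝟙_ C ⟶ Y) (f : X ⊗ Y ⟶ G) :
    lift (𝟙 X) (toUnit X ≫ y₁) ≫ cross x₁ y₁ f = 1 := by
  rw [lift_cross]
  simp

lemma cross_right [IsCommMonObj G] (x₁ : 𝟙_ C ⟶ X) (y₁ : 𝟙_ C ⟶ Y) (f : X ⊗ Y ⟶ G) :
    lift (toUnit Y ≫ x₁) (𝟙 Y) ≫ cross x₁ y₁ f = 1 := by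
  rw [lift_cross]
  exact aux1 _ _

omit [BraidedCategory C] in
lemma cross_comp (x₁ : 𝟙_ C ⟶ X) (y₁ : 𝟙_ C ⟶ Y) (f : X ⊗ Y ⟶ G) (q : G ⟶ H) [IsMonHom q] :
    cross x₁ y₁ f ≫ q = cross x₁ y₁ (f ≫ q) := by
  simp only [cross, MonObj.mul_comp, GrpObj.inv_comp, Category.assoc]

omit [BraidedCategory C] in
lemma cross_restrict (j : U ⟶ X) (j' : V ⟶ Y) (x₁ : 𝟙_ C ⟶ U) (y₁ : 𝟙_ C ⟶ V) (f : X ⊗ Y ⟶ G) :
    (j ⊗ₘ j') ≫ cross (x₁ ≫ j) (y₁ ≫ j') f = cross x₁ y₁ ((j ⊗ₘ j') ≫ f) := by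
  have h1 : (j ⊗ₘ j') = lift (fst U V ≫ j) (snd U V ≫ j') := by ext <;> simp
  have h2 : cross x₁ y₁ ((j ⊗ₘ j') ≫ f) = lift (fst U V) (snd U V) ≫ cross x₁ y₁ ((j ⊗ₘ j') ≫ f) := by simp
  rw [h2, lift_cross, h1, lift_cross]
  simp only [← Category.assoc, comp_lift, lift_fst, lift_snd]

/-- A product decomposition. -/
lemma eq_mul_of_cross [IsCommMonObj G] (x₁ : 𝟙_ C ⟶ X) (y₁ : 𝟙_ C ⟶ Y) (f : X ⊗ Y ⟶ G)
    (h : cross x₁ y₁ f = 1) : ∃ (a : X ⟶ G) (b : Y ⟶ G), f = (fst X Y ≫ a) * (snd X Y ≫ b) := by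
  refine ⟨lift (𝟙 X) (toUnit X ≫ y₁) ≫ f, (lift (toUnit Y ≫ x₁) (𝟙 Y) ≫ f) * (toUnit Y ≫ lift x₁ y₁ ≫ f)⁻¹, ?_⟩
  have h1 : snd X Y ≫ toUnit Y = toUnit (X ⊗ Y) := toUnit_unique _ _
  rw [MonObj.comp_mul, GrpObj.comp_inv, ← Category.assoc (snd X Y) (toUnit Y), h1]
  exact aux2 _ _ _ _ h

/-- The four-term relation for products. -/
lemma four_of_mul [IsCommMonObj G] (f : X ⊗ Y ⟶ G) (a : X ⟶ G) (b : Y ⟶ G)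
    (h : f = (fst X Y ≫ a) * (snd X Y ≫ b)) {T : C} (x x₀ : T ⟶ X) (y y₀ : T ⟶ Y) :
    (lift x y ≫ f) * (lift x y₀ ≫ f)⁻¹ * (lift x₀ y ≫ f)⁻¹ * (lift x₀ y₀ ≫ f) = 1 := by
  subst h
  simp only [MonObj.comp_mul, lift_fst_assoc, lift_snd_assoc]
  exact aux3 _ _ _ _

end K402.Cross
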