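import Groth.Agent.AlgGrp.K402.SemiAb
import Groth.Agent.AlgGrp.K402.Quo
import Groth.Agent.Sga3B.AlgBc2
import Groth.Agent.S3036
import Groth.Agent.S4121

/-!
# Descent of semi-abelian varieties
-/

set_option autoImplicit false
universe u
open CategoryTheory MonoidalCategory CartesianMonoidalCategory MonObj GrpObj AlgebraicGeometry Limits

namespace K402.Descent

open Groth.Agent Groth.Agent.Sga3B SemiAb Quo

variable {k : Type u} [Field k]

/-- A quasi-compact monomorphism from a torus is a closed immersion. -/
theorem isClosedImmersion_of_torus {T G : Over (Spec (CommRingCat.of k))} [GrpObj T] [GrpObj G]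
    [LocallyOfFiniteType G.hom] (i : T ⟶ G) [IsMonHom i] [Mono i] (hT : Red.IsTorus T) :
    IsClosedImmersion i.left := by
  have hTs := Tori.smooth hT
  have hTq := Tori.quasiCompact hT
  have hsep : IsSeparated G.hom := Books.AntiAffine.isSeparated_hom G
  have hq : QuasiCompact i.left := by
    have : QuasiCompact (i.left ≫ G.hom) := by rw [Over.w]; exact hTq
    exact QuasiCompact.of_comp i.left G.hom
  exact S3036.result k T G i

/-- If the base change of `G` to an algebraic closure is a semi-abelian variety, then `G` is a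
semi-abelian variety. -/
theorem semiAb_of_bc (K : Type u) [Field K] [Algebra k K] [Algebra.IsAlgebraic k K] [IsAlgClosed K]
    (G : Over (Spec (CommRingCat.of k))) [GrpObj G] [LocallyOfFiniteType G.hom] [QuasiCompact G.hom]
    (hK : SemiAb (Red.bc (Spec.map (CommRingCat.ofHom (algebraMap k K))) G)) : SemiAb G := by
  let f : Spec (CommRingCat.of K) ⟶ Spec (CommRingCat.of k) := Spec.map (CommRingCat.ofHom (algebraMap k K))
  change SemiAb (Red.bc f G) at hK
  have i1 : QuasiCompact (Red.bc f G).hom := inferInstanceAs (QuasiCompact (pullback.snd G.hom f))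
  have i2 : LocallyOfFiniteType (Red.bc f G).hom := inferInstanceAs (LocallyOfFiniteType (pullback.snd G.hom f))
  have hs' := smooth hK
  have hc' := connectedSpace hK
  have hs : Smooth G.hom := of_bc_hom f @Smooth hs'
  have hc : ConnectedSpace G.left := connectedSpace_of_bc f hc'
  obtain ⟨T, _, i, hi⟩ := S4121.result k G
  have halg : ResAlg.AlgRes f := ResAlg.algRes_SpecMap _ _ (fun a => Algebra.IsIntegral.isIntegral (R := k) a)
  obtain ⟨hi1, hi2, hi3, hi4⟩ := (AlgBc.isMaximalTorus_iff (K := K)).1 (AlgBc.isMaximalTorus_bc f hi)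
  obtain ⟨him, hmono, hT, -⟩ := hi
  obtain ⟨T', _, i', A', _, q', h1, h2, h3, h4, h5, h6, h7, h8, h9, h10⟩ := hK
  have hcl : IsClosedImmersion i.left := isClosedImmersion_of_torus i hT
  -- the base change of the maximal torus is the torus of the extension
  have hTa := Tori.isAffine hi3
  have hTs := Tori.smooth hi3
  have hTc := Tori.connectedSpace hi3
  obtain ⟨a, ha⟩ := Sga3.H821.AffProper.exists_factor_kernel K ((Over.pullback f).map i) i' q' h7
  have hm' : Mono i' := Books.AlgPtsGrp.mono_of_isClosedImmersion i'
  have haI : IsIso a := hi4 T' i' a h3 ha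
  have hn' : AlgGrp.IsNormalHom i' := Sga3.H821.AffProper.isNormalHom_of_isKernel K i' q' h7
  have hn : AlgGrp.IsNormalHom i := by
    refine isNormalHom_of_bc f i ?_
    rw [← ha]
    exact NormBc.isNormalHom_iso_comp a i' hn'
  obtain ⟨Q, _, q, g1, g2, g3, g4, g5, g6, g7⟩ := exists_quotient i hn
  refine ⟨T, inferInstance, i, Q, inferInstance, q, him, hcl, hT, g1, g2, g3, g4, ?_, g7 hs,
    connected_of_surjective q⟩
  -- properness
  have j1 : QuasiCompact (Red.bc f Q).hom := inferInstanceAs (QuasiCompact (pullback.snd Q.hom f))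
  have j2 : LocallyOfFiniteType (Red.bc f Q).hom := inferInstanceAs (LocallyOfFiniteType (pullback.snd Q.hom f))
  have hw : i' ≫ (Over.pullback f).map q = 1 := by
    have h : i ≫ q = 1 := g4.w
    rw [← cancel_epi a, ← Category.assoc, ha, ← Functor.map_comp, h, Functor.map_one, MonObj.comp_one]
  obtain ⟨φ, hφ1, hφ2⟩ := exists_desc i' q' h7 ((Over.pullback f).map q) hw
  have hqs : Surjective ((Over.pullback f).map q).left :=
    MorphismProperty.of_isPullback (Parab.EtHom.isPullback_map f q) g2
  have hφs : Surjective φ.left := by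
    have : Surjective (q'.left ≫ φ.left) := by rw [← Over.comp_left, hφ2]; exact hqs
    exact Surjective.of_comp q'.left φ.left
  have hpr : IsProper (Red.bc f Q).hom := by
    have hsep : IsSeparated (Red.bc f Q).hom := Books.AntiAffine.isSeparated_hom _
    have huc : UniversallyClosed (Red.bc f Q).hom := by
      have h' : UniversallyClosed (φ.left ≫ (Red.bc f Q).hom) := by
        rw [Over.w]; infer_instance
      exact UniversallyClosed.of_comp_surjective φ.left (Red.bc f Q).hom
    exact { }
  have := S0086.result.{u}
  exact of_bc_hom f @IsProper hpr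

end K402.Descent
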