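import Groth.Agent.AlgGrp.K402.PowPts
import Groth.Agent.AlgGrp.K402.CharP
import Groth.Agent.AlgGrp.K398.UnipPow
import Groth.Agent.AlgGrp.K404.QuoKit
import Groth.Agent.AlgGrp.K401.SmallProper

/-!
# Commutative groups in characteristic `p` without semi-abelian subvarieties have finite exponent
-/

set_option autoImplicit false
universe u
open CategoryTheory MonoidalCategory CartesianMonoidalCategory MonObj GrpObj AlgebraicGeometry Limits

namespace K402.Exp

open Groth.Agent Groth.Agent.Sga3B Groth.Agent.Books.AlgPts Groth.Agent.Books.AlgPtsGrp SemiAb PowPts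
  Groth.Agent.Sga3.H739.Fpqc

theorem isCommMonObj_of_mono {S : Scheme.{u}} {R Q : Over S} [GrpObj R] [GrpObj Q] [IsCommMonObj Q] (u : R ⟶ Q)
    [IsMonHom u] [Mono u] : IsCommMonObj R := by
  apply Comm.isCommMonObj_of_points
  intro T x y
  rw [← cancel_mono u, MonObj.mul_comp, MonObj.mul_comp, mul_comm]

theorem isNormalHom_of_comm {S : Scheme.{u}} {R Q : Over S} [GrpObj R] [GrpObj Q] [IsCommMonObj Q] (u : R ⟶ Q) :
    AlgGrp.IsNormalHom u := by
  intro T g n
  refine ⟨n, ?_⟩
  rw [mul_comm g, mul_inv_cancel_right]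

theorem comp_pow_id {S : Scheme.{u}} {X G : Over S} [GrpObj G] (x : X ⟶ G) (n : ℕ) :
    x ≫ (𝟙 G : G ⟶ G) ^ n = x ^ n := by
  rw [MonObj.comp_pow, Category.comp_id]

section ac

variable {K : Type u} [Field K] [IsAlgClosed K]

theorem exists_image_smooth_ac (Q : Over (Spec (CommRingCat.of K))) [GrpObj Q] [IsCommMonObj Q]
    [LocallyOfFiniteType Q.hom] [QuasiCompact Q.hom] :
    ∃ (N : ℕ) (D : Over (Spec (CommRingCat.of K))) (_ : GrpObj D) (p : Q ⟶ D) (d : D ⟶ Q), 0 < N ∧ IsMonHom p ∧
      IsMonHom d ∧ p ≫ d = (𝟙 Q : Q ⟶ Q) ^ N ∧ Cov p ∧ IsClosedImmersion d.left ∧ Smooth D.hom ∧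
      ConnectedSpace D.left := by
  obtain ⟨R, _, u, hu1, hu2, hu3, hu4, hu5⟩ := Sga3B.RedIdComp.exists_redIdComp Q
  have hmu : Mono u := Books.AlgPtsGrp.mono_of_isClosedImmersion u
  have hRc : IsCommMonObj R := isCommMonObj_of_mono u
  have hRq : QuasiCompact R.hom := by rw [← Over.w u]; infer_instance
  obtain ⟨F, _, π, hπ1, hπ2, hπ3, hπ4, hπ5, hπ6, -⟩ := Quo.exists_quotient u (isNormalHom_of_comm u)
  have hF : IsFinite F.hom := isFinite_quot u hu5 π hπ4.w
  have hFc : IsCommMonObj F := _root_.K402.Prod.isCommMonObj_of_cov π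
  obtain ⟨n, hn, hFn⟩ := K405.IsogGm.exists_pow_eq_one F
  obtain ⟨φ, hφ⟩ := K395.Pts.exists_of_comp_eq_one hπ4 ((𝟙 Q : Q ⟶ Q) ^ n) (by
    rw [MonObj.pow_comp, hFn])
  have hφm : IsMonHom φ := by
    have h1 : IsMonHom ((𝟙 Q : Q ⟶ Q) ^ n) := K398.PowSurj.isMonHom_pow n
    have : IsMonHom (φ ≫ u) := by rw [hφ]; exact h1
    exact Sga3C.SubGrp.isMonHom_of_comp_mono φ u
  -- stabilization of the images of the powers
  have hRn : IsNoetherian R.left := K401.SmallProper.isNoetherian_left R
  let Z : ℕ → Set R.left := fun i => Set.range ((𝟙 R : R ⟶ R) ^ (n ^ i)).left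
  have hZcl : ∀ i, IsClosed (Z i) := by
    intro i
    have hm : IsMonHom ((𝟙 R : R ⟶ R) ^ (n ^ i)) := K398.PowSurj.isMonHom_pow _
    obtain ⟨C, _, p, c, hp, hc, hpc, hcov, hcl⟩ := K395.Hom.exists_image ((𝟙 R : R ⟶ R) ^ (n ^ i))
    have hsurj := hcov.surj
    have : Z i = Set.range c.left := by
      change Set.range ((𝟙 R : R ⟶ R) ^ (n ^ i)).left = _
      rw [← hpc, Over.comp_left]
      ext x
      constructor
      · rintro ⟨y, rfl⟩
        exact ⟨p.left y, rfl⟩
      · rintro ⟨y, rfl⟩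
        obtain ⟨z, rfl⟩ := p.left.surjective y
        exact ⟨z, rfl⟩
    rw [this]
    exact c.left.isClosedEmbedding.isClosed_range
  have hZanti : ∀ i, Z (i + 1) ⊆ Z i := by
    rintro i _ ⟨x, rfl⟩
    refine ⟨((𝟙 R : R ⟶ R) ^ n).left x, ?_⟩
    have : ((𝟙 R : R ⟶ R) ^ n) ≫ ((𝟙 R : R ⟶ R) ^ (n ^ i)) = (𝟙 R : R ⟶ R) ^ (n ^ (i + 1)) := by
      rw [comp_pow_id, ← pow_mul, pow_succ']
    rw [← this]
    rfl
  obtain ⟨i, hi⟩ : ∃ i, Z i = Z (i + 1) := by
    let Z' : ℕ →o (TopologicalSpace.Closeds R.left)ᵒᵈ :=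
      { toFun := fun i => OrderDual.toDual ⟨Z i, hZcl i⟩
        monotone' := monotone_nat_of_le_succ fun i => hZanti i }
    have hwf : WellFoundedGT (TopologicalSpace.Closeds R.left)ᵒᵈ := by
      have : WellFoundedLT (TopologicalSpace.Closeds R.left) := inferInstance
      infer_instance
    obtain ⟨m, hm⟩ := WellFoundedGT.monotone_chain_condition Z'
    refine ⟨m, ?_⟩
    have := hm (m + 1) (Nat.le_succ m)
    exact congrArg (fun z => ((OrderDual.ofDual z : TopologicalSpace.Closeds R.left) : Set R.left)) this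
  have hm : IsMonHom ((𝟙 R : R ⟶ R) ^ (n ^ i)) := K398.PowSurj.isMonHom_pow _
  obtain ⟨D, _, pD, d, hpD, hd, hpd, hcov, hcl⟩ := K395.Hom.exists_image ((𝟙 R : R ⟶ R) ^ (n ^ i))
  have hDf : LocallyOfFiniteType D.hom := by rw [← Over.w d]; infer_instance
  have hDq : QuasiCompact D.hom := by rw [← Over.w d]; infer_instance
  have hs1 := hcov.surj
  have hs2 := hcov.flat
  have hDs : Smooth D.hom := Quo.smooth_of_quotient pD
  have hDc : ConnectedSpace D.left := Quo.connected_of_surjective pD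
  have hDr : IsReduced D.left := Etcore.SmoothRed.isReduced_of_smooth D.hom
  have hmd : Mono d := Books.AlgPtsGrp.mono_of_isClosedImmersion d
  have huφ : u ≫ φ = (𝟙 R : R ⟶ R) ^ n := by
    rw [← cancel_mono u, Category.assoc, hφ, comp_pow_id, MonObj.pow_comp, Category.id_comp]
  have hsurj : Surjective (φ ≫ pD).left := by
    refine ⟨fun y => ?_⟩
    have h1 : d.left y ∈ Z i := by
      obtain ⟨x, hx⟩ := pD.left.surjective y
      refine ⟨x, ?_⟩
      rw [← hpd, ← hx]
      rfl
    rw [hi] at h1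
    obtain ⟨x, hx⟩ := h1
    refine ⟨u.left x, d.left.injective ?_⟩
    rw [← hx]
    have : u ≫ (φ ≫ pD) ≫ d = (𝟙 R : R ⟶ R) ^ (n ^ (i + 1)) := by
      rw [Category.assoc, hpd, ← Category.assoc, huφ, comp_pow_id, ← pow_mul, pow_succ']
    rw [← this]
    rfl
  have hcov' : Cov (φ ≫ pD) := K395.Hom.cov_of_surjective (φ ≫ pD)
  refine ⟨n ^ (i + 1), D, inferInstance, φ ≫ pD, d ≫ u, pow_pos hn _, inferInstance, inferInstance, ?_, hcov', ?_,
    hDs, hDc⟩
  · rw [Category.assoc, ← Category.assoc pD, hpd, MonObj.pow_comp, Category.id_comp, MonObj.comp_pow, hφ, ← pow_mul,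
      pow_succ']
  · rw [Over.comp_left]; infer_instance

end ac

section field

variable {k : Type u} [Field k]

/-- Uniqueness of the image factorization. -/
theorem exists_iso_image {S : Scheme.{u}} {G C D H : Over S} (p : G ⟶ C) (c : C ⟶ H) (p' : G ⟶ D) (d : D ⟶ H)
    [Mono c] [Mono d] (hp : Cov p) (hp' : Cov p') (h : p ≫ c = p' ≫ d) :
    ∃ e : C ≅ D, p ≫ e.hom = p' := by
  apply K395.Quo.exists_iso_of_cov p p' hp hp'
  intro T x y
  rw [← cancel_mono c, Category.assoc, Category.assoc, h, ← Category.assoc, ← Category.assoc, cancel_mono]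

/-- Over any field: some power map of a commutative group of finite type has smooth connected image. -/
theorem exists_image_smooth (Q : Over (Spec (CommRingCat.of k))) [GrpObj Q] [IsCommMonObj Q]
    [LocallyOfFiniteType Q.hom] [QuasiCompact Q.hom] :
    ∃ (N : ℕ) (D : Over (Spec (CommRingCat.of k))) (_ : GrpObj D) (p : Q ⟶ D) (d : D ⟶ Q), 0 < N ∧ IsMonHom p ∧
      IsMonHom d ∧ p ≫ d = (𝟙 Q : Q ⟶ Q) ^ N ∧ Cov p ∧ IsClosedImmersion d.left ∧ Smooth D.hom ∧
      ConnectedSpace D.left := by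
  let f := Crit.cl k
  have i1 : QuasiCompact (Red.bc f Q).hom := inferInstanceAs (QuasiCompact (pullback.snd Q.hom f))
  have i2 : LocallyOfFiniteType (Red.bc f Q).hom := inferInstanceAs (LocallyOfFiniteType (pullback.snd Q.hom f))
  have i3 : IsCommMonObj (Red.bc f Q) := Crit.isCommMonObj_bc f Q
  obtain ⟨N, D, _, p, d, hN, hp, hd, hpd, hcov, hcl, hDs, hDc⟩ := exists_image_smooth_ac (Red.bc f Q)
  have hm : IsMonHom ((𝟙 Q : Q ⟶ Q) ^ N) := K398.PowSurj.isMonHom_pow N
  obtain ⟨C, _, p', c, hp', hc, hpc, hcov', hcl'⟩ := K395.Hom.exists_image ((𝟙 Q : Q ⟶ Q) ^ N)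
  have hmd : Mono d := Books.AlgPtsGrp.mono_of_isClosedImmersion d
  have hclc : IsClosedImmersion ((Over.pullback f).map c).left :=
    MorphismProperty.of_isPullback (Parab.EtHom.isPullback_map f c) inferInstance
  have hmc : Mono ((Over.pullback f).map c) := Books.AlgPtsGrp.mono_of_isClosedImmersion _
  have hcovb : Cov ((Over.pullback f).map p') :=
    ⟨MorphismProperty.of_isPullback (Parab.EtHom.isPullback_map f p') hcov'.flat,
      MorphismProperty.of_isPullback (Parab.EtHom.isPullback_map f p') hcov'.surj,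
      MorphismProperty.of_isPullback (Parab.EtHom.isPullback_map f p') hcov'.qc⟩
  obtain ⟨e, he⟩ := exists_iso_image ((Over.pullback f).map p') ((Over.pullback f).map c) p d hcovb hcov (by
    rw [hpd, ← Functor.map_comp, hpc, map_pow_bc, CategoryTheory.Functor.map_id])
  have heI : IsIso e.hom.left := inferInstanceAs (IsIso ((Over.forget _).map e.hom))
  have hs' : Smooth (Red.bc f C).hom := by rw [← Over.w e.hom]; infer_instance
  have hc' : ConnectedSpace (Red.bc f C).left := by
    have h1 : Function.Surjective (inv e.hom.left) := (inv e.hom.left).surjective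
    exact h1.connectedSpace (inv e.hom.left).continuous
  have hs : Smooth C.hom := Quo.of_bc_hom f @Smooth hs'
  have hcc : ConnectedSpace C.left := Quo.connectedSpace_of_bc f hc'
  exact ⟨N, C, inferInstance, p', c, hN, hp', hc, hpc, hcov', hcl', hs, hcc⟩

theorem isIso_left_hom {X Y : Over (Spec (CommRingCat.of k))} (e : X ⟶ Y) [IsIso e] : IsIso e.left :=
  inferInstanceAs (IsIso ((Over.forget _).map e))

/-- In characteristic `p`: a smooth connected commutative group without semi-abelian subvarieties has finite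
exponent. -/
theorem exists_pow_of_smooth (p : ℕ) [Fact p.Prime] [CharP k p] (G : Over (Spec (CommRingCat.of k))) [GrpObj G]
    [IsCommMonObj G] [Smooth G.hom] [QuasiCompact G.hom] [ConnectedSpace G.left]
    (hno : ∀ (S : Over (Spec (CommRingCat.of k))) [GrpObj S] (s : S ⟶ G) [IsMonHom s] [IsClosedImmersion s.left],
      SemiAb S → IsIso η[S]) : ∃ n : ℕ, 0 < n ∧ (𝟙 G : G ⟶ G) ^ n = 1 := by
  -- `G` is affine
  have hGa : IsAffine G.left := by
    obtain ⟨M, H, _, _, m, ρ, hm, hρ, hmc, hρf, hρs, hk, hHa, hHf, hMa, hMs, hMc⟩ := K404.QuoKit.exists_hull k G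
    have hMq : QuasiCompact M.hom := by rw [← Over.w m]; infer_instance
    have hM := CharP.semiAb_of_antiAffine p M hMa
    have hη := hno M m hM
    have hcov : Cov ρ := K395.CovKit.cov_of ρ
    obtain ⟨e, he⟩ := K395.Quo.exists_iso_of_cov ρ (𝟙 _) hcov ⟨inferInstanceAs (Flat (𝟙 _)), inferInstanceAs (Surjective (𝟙 _)),
      inferInstanceAs (QuasiCompact (𝟙 _))⟩ (by
        intro T x y
        constructor
        · intro h
          obtain ⟨n, hn'⟩ := K395.Pts.exists_of_comp_eq hk x y h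
          have h1 : n = 1 := by
            rw [← cancel_mono (inv η[M])]
            exact toUnit_unique _ _
          rw [hn', h1, MonObj.one_comp, _root_.one_mul]
        · intro h
          rw [Category.comp_id, Category.comp_id] at h
          rw [h])
    have heI : IsIso e.inv.left := isIso_left_hom e.inv
    exact IsAffine.of_isIso e.inv.left
  -- no subtorus geometrically
  let f := Crit.cl k
  let K := AlgebraicClosure k
  obtain ⟨T, _, i, hi⟩ := S4121.result k G
  have halg : ResAlg.AlgRes f := ResAlg.algRes_SpecMap _ _ (fun a => Algebra.IsIntegral.isIntegral (R := k) a)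
  obtain ⟨hi1, hi2, hi3, hi4⟩ := (AlgBc.isMaximalTorus_iff (K := K)).1 (AlgBc.isMaximalTorus_bc f hi)
  obtain ⟨him, hmono, hT, -⟩ := hi
  have hicl : IsClosedImmersion i.left := Descent.isClosedImmersion_of_torus i hT
  have hη := hno T i (SemiAb.of_torus hT)
  have hi' : i = 1 := by
    have h1 : 𝟙 T = 1 := by
      rw [← cancel_mono (inv η[T])]
      exact toUnit_unique _ _
    rw [← Category.id_comp i, h1, MonObj.one_comp]
  have hThom : IsIso T.hom := by
    have h1 : (η[T] : 𝟙_ (Over (Spec (CommRingCat.of k))) ⟶ T).left ≫ T.hom = 𝟙 _ := Over.w η[T]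
    have h2 : IsIso (η[T] : 𝟙_ (Over (Spec (CommRingCat.of k))) ⟶ T).left := isIso_left_hom η[T]
    have h3 : T.hom = inv (η[T] : 𝟙_ (Over (Spec (CommRingCat.of k))) ⟶ T).left := by
      rw [← cancel_epi (η[T] : 𝟙_ (Over (Spec (CommRingCat.of k))) ⟶ T).left, h1, IsIso.hom_inv_id]
    rw [h3]
    infer_instance
  have hno' : Red.HasNoSubtorus K (Red.bc f G) := by
    intro T' _ j _ _ hT'
    have ha : (1 : Red.bc f T ⟶ T') ≫ j = (Over.pullback f).map i := by
      rw [MonObj.one_comp, hi', Functor.map_one]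
    have hI := hi4 T' j 1 hT' ha
    have hTK : IsIso (Red.bc f T).hom := inferInstanceAs (IsIso (pullback.snd T.hom f))
    have h1 : IsIso (1 : Red.bc f T ⟶ T').left := isIso_left_hom _
    have h2 : (1 : Red.bc f T ⟶ T').left ≫ T'.hom = (Red.bc f T).hom := Over.w _
    have h3 : T'.hom = inv (1 : Red.bc f T ⟶ T').left ≫ (Red.bc f T).hom := by
      rw [← h2, IsIso.inv_hom_id_assoc]
    change IsIso T'.hom
    rw [h3]
    infer_instance
  have i1 : QuasiCompact (Red.bc f G).hom := inferInstanceAs (QuasiCompact (pullback.snd G.hom f))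
  have i2 : Smooth (Red.bc f G).hom := inferInstanceAs (Smooth (pullback.snd G.hom f))
  have i3 : ConnectedSpace (Red.bc f G).left := Quo.connectedSpace_bc f G
  have i4 : IsAffine (Red.bc f G).left := by
    have h1 : IsAffineHom G.hom := inferInstance
    have h2 : IsAffineHom (pullback.snd G.hom f) := inferInstance
    exact isAffine_of_isAffineHom (pullback.snd G.hom f)
  have hchar : CharP K p := charP_of_injective_algebraMap (algebraMap k K).injective p
  obtain ⟨n, hn⟩ := K398.UnipPow.exists_pow_id_eq_one p (Red.bc f G) hno'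
  refine ⟨p ^ n, pow_pos (Fact.out : p.Prime).pos n, ?_⟩
  apply (Over.pullback f).map_injective
  rw [map_pow_bc, CategoryTheory.Functor.map_id, Functor.map_one]
  exact hn

/-- **Finite exponent**: in characteristic `p`, a commutative group of finite type without non-trivial semi-abelian
subvarieties has finite exponent. -/
theorem exists_pow (p : ℕ) [Fact p.Prime] [CharP k p] (G : Over (Spec (CommRingCat.of k))) [GrpObj G]
    [IsCommMonObj G] [LocallyOfFiniteType G.hom] [QuasiCompact G.hom]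
    (hno : ∀ (S : Over (Spec (CommRingCat.of k))) [GrpObj S] (s : S ⟶ G) [IsMonHom s] [IsClosedImmersion s.left],
      SemiAb S → IsIso η[S]) : ∃ n : ℕ, 0 < n ∧ (𝟙 G : G ⟶ G) ^ n = 1 := by
  obtain ⟨N, D, _, q, d, hN, hq, hd, hqd, hcov, hcl, hDs, hDc⟩ := exists_image_smooth G
  have hmd : Mono d := Books.AlgPtsGrp.mono_of_isClosedImmersion d
  have hDcomm : IsCommMonObj D := isCommMonObj_of_mono d
  have hDq : QuasiCompact D.hom := by rw [← Over.w d]; infer_instance
  obtain ⟨n, hn, hDn⟩ := exists_pow_of_smooth p D (by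
    intro S _ s _ _ hS
    have h1 : IsClosedImmersion (s ≫ d).left := by rw [Over.comp_left]; infer_instance
    exact hno S (s ≫ d) hS)
  refine ⟨N * n, Nat.mul_pos hN hn, ?_⟩
  have h1 := congrArg (fun m => q ≫ m ≫ d) hDn
  simp only [MonObj.one_comp, MonObj.comp_one] at h1
  rw [MonObj.pow_comp, Category.id_comp, MonObj.comp_pow, hqd, ← pow_mul] at h1
  exact h1

end field

end K402.Exp
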