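import Groth.Agent.AlgGrp.K402.Prod
import Groth.Agent.Fga.DimLt
import Groth.Agent.Sga3.H784.Exist

/-!
# The largest semi-abelian subgroup
-/

set_option autoImplicit false
universe u
open CategoryTheory MonoidalCategory CartesianMonoidalCategory MonObj GrpObj AlgebraicGeometry Limits

namespace K402.Largest

open Groth.Agent Groth.Agent.Sga3B SemiAb Quo Crit Isog _root_.K402.Prod Groth.Agent.Sga7.H109.Basic

section field

variable {k : Type u} [Field k]

/-- The sum of two commuting semi-abelian subgroups. -/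
theorem exists_sum {G S S' : Over (Spec (CommRingCat.of k))} [GrpObj G] [IsCommMonObj G] [GrpObj S] [GrpObj S']
    [LocallyOfFiniteType G.hom] [QuasiCompact G.hom] (s : S ⟶ G) [IsMonHom s] [IsClosedImmersion s.left]
    (s' : S' ⟶ G) [IsMonHom s'] [IsClosedImmersion s'.left] (hS : SemiAb S) (hS' : SemiAb S') :
    ∃ (C : Over (Spec (CommRingCat.of k))) (_ : GrpObj C) (c : C ⟶ G) (a : S ⟶ C) (b : S' ⟶ C), IsMonHom c ∧
      IsClosedImmersion c.left ∧ SemiAb C ∧ a ≫ c = s ∧ b ≫ c = s' := by
  have q1 : QuasiCompact S.hom := by rw [← Over.w s]; infer_instance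
  have q2 : QuasiCompact S'.hom := by rw [← Over.w s']; infer_instance
  have hm : IsMonHom ((fst S S' ≫ s) * (snd S S' ≫ s')) := by
    refine K395.Pts.isMonHom_of_pts _ fun T x y => ?_
    simp only [MonObj.comp_mul, MonObj.mul_comp, ← Category.assoc]
    exact _root_.mul_mul_mul_comm _ _ _ _
  have i3 : QuasiCompact (S ⊗ S').hom := inferInstanceAs (QuasiCompact (pullback.fst S.hom S'.hom ≫ S.hom))
  obtain ⟨C, _, p, c, h1, h2, h3, h4, h5, h6, h7⟩ :=
    exists_image ((fst S S' ≫ s) * (snd S S' ≫ s')) (semiAb_tensor hS hS')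
  refine ⟨C, inferInstance, c, lift (𝟙 S) 1 ≫ p, lift 1 (𝟙 S') ≫ p, h2, h6, h7, ?_, ?_⟩
  · rw [Category.assoc, h3]
    simp [MonObj.comp_mul, MonObj.one_comp]
  · rw [Category.assoc, h3]
    simp [MonObj.comp_mul, MonObj.one_comp]

lemma range_subset_of_comp {A B C : Over (Spec (CommRingCat.of k))} (a : A ⟶ B) (b : B ⟶ C) (c : A ⟶ C)
    (h : a ≫ b = c) : Set.range c.left ⊆ Set.range b.left := by
  rw [← h, Over.comp_left]
  rintro _ ⟨x, rfl⟩
  exact ⟨a.left x, by simp⟩

/-- The dimension of a group of finite type is finite. -/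
theorem exists_dim_bound (G : Over (Spec (CommRingCat.of k))) [GrpObj G] [LocallyOfFiniteType G.hom] :
    ∃ d : ℕ, ∀ A : Set G.left, topologicalKrullDim A ≤ d := by
  obtain ⟨d, hd, -⟩ := Sga3.H784.Exist.exists_rank_bound G
  refine ⟨d, fun A => ?_⟩
  rw [← hd]
  exact (Topology.IsInducing.subtypeVal (t := A)).topologicalKrullDim_le

/-- **The largest semi-abelian closed subgroup** of a commutative algebraic group. -/
theorem exists_largest (G : Over (Spec (CommRingCat.of k))) [GrpObj G] [IsCommMonObj G]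
    [LocallyOfFiniteType G.hom] [QuasiCompact G.hom] :
    ∃ (S : Over (Spec (CommRingCat.of k))) (_ : GrpObj S) (s : S ⟶ G), IsMonHom s ∧ IsClosedImmersion s.left ∧
      SemiAb S ∧ ∀ (S' : Over (Spec (CommRingCat.of k))) [GrpObj S'] (s' : S' ⟶ G) [IsMonHom s']
        [IsClosedImmersion s'.left], SemiAb S' → ∃ g : S' ⟶ S, g ≫ s = s' := by
  classical
  obtain ⟨d, hd⟩ := exists_dim_bound G
  -- the set of dimensions
  let P : ℕ → Prop := fun n => ∃ (S : Over (Spec (CommRingCat.of k))) (_ : GrpObj S) (s : S ⟶ G), IsMonHom s ∧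
    IsClosedImmersion s.left ∧ SemiAb S ∧ (n : WithBot ℕ∞) ≤ topologicalKrullDim (Set.range s.left)
  have hP0 : P 0 := by
    have hsep : IsSeparated G.hom := Books.AntiAffine.isSeparated_hom G
    have i1 : IsProper (𝟙_ (Over (Spec (CommRingCat.of k)))).hom := inferInstanceAs (IsProper (𝟙 _))
    have i2 : Smooth (𝟙_ (Over (Spec (CommRingCat.of k)))).hom := inferInstanceAs (Smooth (𝟙 _))
    have i3 : ConnectedSpace (𝟙_ (Over (Spec (CommRingCat.of k)))).left :=
      inferInstanceAs (ConnectedSpace (Spec (CommRingCat.of k)))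
    have hcl : IsClosedImmersion (η[G] : 𝟙_ (Over (Spec (CommRingCat.of k))) ⟶ G).left := by
      have h2 : IsClosedImmersion ((η[G] : 𝟙_ (Over (Spec (CommRingCat.of k))) ⟶ G).left ≫ G.hom) := by
        rw [Over.w]
        change IsClosedImmersion (𝟙 _)
        infer_instance
      exact IsClosedImmersion.of_comp _ G.hom
    refine ⟨𝟙_ _, inferInstance, η[G], inferInstance, hcl, SemiAb.of_proper _, ?_⟩
    have hne : Nonempty (Set.range (η[G] : 𝟙_ (Over (Spec (CommRingCat.of k))) ⟶ G).left) :=
      ⟨⟨_, Set.mem_range_self (Nonempty.some inferInstance)⟩⟩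
    have hne' : Nonempty (TopologicalSpace.IrreducibleCloseds (Set.range (η[G] : 𝟙_ (Over (Spec (CommRingCat.of k))) ⟶ G).left)) :=
      ⟨⟨closure {hne.some}, isIrreducible_singleton.closure, isClosed_closure⟩⟩
    exact_mod_cast Order.krullDim_nonneg (α := TopologicalSpace.IrreducibleCloseds (Set.range (η[G] : 𝟙_ (Over (Spec (CommRingCat.of k))) ⟶ G).left))
  have hPb : ∀ n, P n → n ≤ d := by
    rintro n ⟨S, _, s, -, -, -, h⟩
    exact_mod_cast h.trans (hd _)
  let n₀ := Nat.findGreatest P d
  have hn₀ : P n₀ := Nat.findGreatest_spec (Nat.zero_le d) hP0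
  have hmax : ∀ n, P n → n ≤ n₀ := fun n hn => Nat.le_findGreatest (hPb n hn) hn
  obtain ⟨S, _, s, h1, h2, h3, h4⟩ := hn₀
  refine ⟨S, inferInstance, s, h1, h2, h3, ?_⟩
  intro S' _ s' _ _ hS'
  obtain ⟨C, _, c, a, b, g1, g2, g3, g4, g5⟩ := exists_sum s s' h3 hS'
  have qC : QuasiCompact C.hom := by rw [← Over.w c]; infer_instance
  have qS' : QuasiCompact S'.hom := by rw [← Over.w s']; infer_instance
  have := smooth g3
  have := connectedSpace g3
  have := smooth hS'
  have hCi : IrreducibleSpace C.left := by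
    have : GrpObj (Over.mk C.hom) := inferInstanceAs (GrpObj C)
    have := Sga3C.GrpIrr.geometricallyIrreducible_of_connectedSpace C.hom
    exact GeometricallyIrreducible.irreducibleSpace_of_subsingleton C.hom
  have hdimC : topologicalKrullDim (Set.range c.left) < ((n₀ + 1 : ℕ) : WithBot ℕ∞) := by
    by_contra hcon
    rw [not_lt] at hcon
    have := hmax (n₀ + 1) ⟨C, inferInstance, c, g1, g2, g3, hcon⟩
    omega
  have heq : Set.range s.left = Set.range c.left := by
    by_contra hne
    have hirr : IsIrreducible (Set.range c.left) := by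
      rw [← Set.image_univ]
      exact (IrreducibleSpace.isIrreducible_univ C.left).image _ c.left.continuous.continuousOn
    have := Fga.DimLt.topologicalKrullDim_lt hirr s.left.isClosedEmbedding.isClosed_range
      (range_subset_of_comp a c s g4) hne hdimC
    exact absurd (lt_of_le_of_lt h4 this) (lt_irrefl _)
  have hred : IsReduced S'.left := isReduced_of_smooth S'
  exact Books.AlgPtsGrp.exists_lift s s' (by rw [heq]; exact range_subset_of_comp b c s' g5)

/-- The quotient by the largest semi-abelian subgroup contains no semi-abelian subgroup. -/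
theorem isIso_of_quotient {G S Q S'' : Over (Spec (CommRingCat.of k))} [GrpObj G] [IsCommMonObj G] [GrpObj S]
    [GrpObj Q] [GrpObj S''] [LocallyOfFiniteType G.hom] [QuasiCompact G.hom] [LocallyOfFiniteType Q.hom]
    (s : S ⟶ G) [IsMonHom s] [IsClosedImmersion s.left] (hS : SemiAb S)
    (hmax : ∀ (S' : Over (Spec (CommRingCat.of k))) [GrpObj S'] (s' : S' ⟶ G) [IsMonHom s']
        [IsClosedImmersion s'.left], SemiAb S' → ∃ g : S' ⟶ S, g ≫ s = s')
    (q : G ⟶ Q) [IsMonHom q] [Surjective q.left] [Flat q.left] (hK : AlgGrp.IsKernel s q)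
    (s'' : S'' ⟶ Q) [IsMonHom s''] [IsClosedImmersion s''.left] (hS'' : SemiAb S'') : IsIso η[S''] := by
  have hm : Mono s'' := Books.AlgPtsGrp.mono_of_isClosedImmersion s''
  have qQ := quasiCompact_of_surjective q
  have qS : QuasiCompact S.hom := by rw [← Over.w s]; infer_instance
  have qS'' : QuasiCompact S''.hom := by rw [← Over.w s'']; infer_instance
  have hsm := smooth hS''
  obtain ⟨N, _, a, b, h1, h2, h3⟩ := exists_preimage q s''
  have h3' := h3.map (Over.forget _)
  have ha : IsClosedImmersion a.left := MorphismProperty.of_isPullback (P := @IsClosedImmersion) h3'.flip ‹_›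
  have hb1 : Flat b.left := MorphismProperty.of_isPullback (P := @Flat) h3' ‹_›
  have hb2 : Surjective b.left := MorphismProperty.of_isPullback (P := @Surjective) h3' ‹_›
  have ham : Mono a := Books.AlgPtsGrp.mono_of_isClosedImmersion a
  have hNc : IsCommMonObj N := Sga7.H109.Struct.isCommMonObj_of_mono a
  have qN : QuasiCompact N.hom := by rw [← Over.w a]; infer_instance
  -- the kernel of `b` is `S`
  have hsm' : Mono s := K395.Pts.mono_of_isKernel hK
  obtain ⟨i, hi⟩ : ∃ i : S ⟶ N, i ≫ a = s := ⟨h3.lift s 1 (by rw [K395.Pts.one_comp_of_mul]; exact hK.w),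
    h3.lift_fst _ _ _⟩
  have hib : i ≫ b = 1 := by
    rw [← cancel_mono s'', Category.assoc, ← h3.w, ← Category.assoc, hi, MonObj.one_comp]
    exact hK.w
  have : IsMonHom (i ≫ a) := by rw [hi]; infer_instance
  have him : IsMonHom i := Comm.isMonHom_of_comp_mono i a
  have hii : Mono i := by
    have : Mono (i ≫ a) := by rw [hi]; infer_instance
    exact mono_of_mono i a
  have hKb : AlgGrp.IsKernel i b := by
    refine K395.Pts.isKernel_of_pts (fun T n => by rw [Category.assoc, hib, MonObj.comp_one]) fun T x hx => ?_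
    obtain ⟨n, hn⟩ := K395.Pts.exists_of_comp_eq_one hK (x ≫ a) (by
      rw [Category.assoc, h3.w, ← Category.assoc, hx, MonObj.one_comp])
    exact ⟨n, by rw [← cancel_mono a, Category.assoc, hi, hn]⟩
  have hN : SemiAb N := semiAb_of_ext i b hKb hS hS''
  obtain ⟨g, hg⟩ := hmax N a hN
  have hb : b = 1 := by
    rw [← cancel_mono s'', ← h3.w, ← hg, Category.assoc]
    have : s ≫ q = 1 := hK.w
    rw [this, MonObj.comp_one, MonObj.one_comp]
  have hepi : Epi b := Sga3C.QuotProps.epi_of_flat_surjective b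
  have hid : 𝟙 S'' = toUnit S'' ≫ η[S''] := by
    rw [← cancel_epi b, Category.comp_id]
    conv_lhs => rw [hb]
    have : toUnit S'' ≫ η[S''] = 1 := rfl
    rw [this, MonObj.comp_one]
  exact ⟨toUnit S'', toUnit_unique _ _, hid.symm⟩

end field

end K402.Largest
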