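import Groth.Agent.AlgGrp.K402.Exp
import Groth.Agent.AlgGrp.K402.Largest

/-!
# The largest semi-abelian subvariety in characteristic `p`: quasi-complements
-/

set_option autoImplicit false
universe u
open CategoryTheory MonoidalCategory CartesianMonoidalCategory MonObj GrpObj AlgebraicGeometry Limits

namespace K402.ExpMain

open Groth.Agent Groth.Agent.Sga3B SemiAb PowPts Exp Groth.Agent.Sga3.H739.Fpqc

variable {k : Type u} [Field k]

/-- A semi-abelian variety killed by `n ≥ 1` is trivial. -/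
theorem isIso_of_pow {S : Over (Spec (CommRingCat.of k))} [GrpObj S] [QuasiCompact S.hom] (hS : SemiAb S) (n : ℕ)
    (hn : 0 < n) (h : (𝟙 S : S ⟶ S) ^ n = 1) : IsIso η[S] := by
  have hs := smooth hS
  have hr : IsReduced S.left := Etcore.SmoothRed.isReduced_of_smooth S.hom
  have h1 := surjective_pow hS n hn
  rw [h] at h1
  have h0 : (1 : S ⟶ S) = toUnit S ≫ η[S] := by rw [MonObj.one_eq_one, MonObj.comp_one]
  rw [h0, Over.comp_left] at h1
  have h2 : Surjective (η[S] : 𝟙_ (Over (Spec (CommRingCat.of k))) ⟶ S).left :=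
    Surjective.of_comp (toUnit S).left (η[S] : 𝟙_ (Over (Spec (CommRingCat.of k))) ⟶ S).left
  have hsep : IsSeparated S.hom := Books.AntiAffine.isSeparated_hom S
  have h3 : IsClosedImmersion (η[S] : 𝟙_ (Over (Spec (CommRingCat.of k))) ⟶ S).left := by
    have h4 : IsClosedImmersion ((η[S] : 𝟙_ (Over (Spec (CommRingCat.of k))) ⟶ S).left ≫ S.hom) := by
      rw [Over.w]
      exact inferInstanceAs (IsClosedImmersion (𝟙 _))
    exact IsClosedImmersion.of_comp _ S.hom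
  have h5 : IsIso (η[S] : 𝟙_ (Over (Spec (CommRingCat.of k))) ⟶ S).left :=
    isIso_of_isClosedImmersion_of_surjective _
  have h6 : IsIso ((Over.forget (Spec (CommRingCat.of k))).map (η[S] : 𝟙_ (Over (Spec (CommRingCat.of k))) ⟶ S)) := h5
  exact isIso_of_reflects_iso (η[S] : 𝟙_ (Over (Spec (CommRingCat.of k))) ⟶ S) (Over.forget _)

section

variable (p : ℕ) [Fact p.Prime] [CharP k p] (G : Over (Spec (CommRingCat.of k))) [GrpObj G]
    [IsCommMonObj G] [LocallyOfFiniteType G.hom] [QuasiCompact G.hom]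
    (S : Over (Spec (CommRingCat.of k))) [GrpObj S] (s : S ⟶ G) [IsMonHom s] [IsClosedImmersion s.left] (hS : SemiAb S)
    (hSmax : ∀ (S' : Over (Spec (CommRingCat.of k))) [GrpObj S'] (s' : S' ⟶ G) [IsMonHom s'] [IsClosedImmersion s'.left],
      SemiAb S' → ∃ g : S' ⟶ S, g ≫ s = s')

include p hS hSmax

theorem exists_pow_quot (Q : Over (Spec (CommRingCat.of k))) [GrpObj Q] [LocallyOfFiniteType Q.hom]
    (q : G ⟶ Q) [IsMonHom q] [Surjective q.left] [Flat q.left] (hK : AlgGrp.IsKernel s q) :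
    ∃ n : ℕ, 0 < n ∧ (𝟙 Q : Q ⟶ Q) ^ n = 1 := by
  have hc : IsCommMonObj Q := _root_.K402.Prod.isCommMonObj_of_cov q
  have hqc : QuasiCompact Q.hom := Quo.quasiCompact_of_surjective q
  exact exists_pow p Q fun S'' _ s'' _ _ hS'' => Largest.isIso_of_quotient s hS hSmax q hK s'' hS''

/-- Some power map of `G` factors through the largest semi-abelian subvariety. -/
theorem exists_factor : ∃ (n : ℕ) (φ : G ⟶ S), 0 < n ∧ IsMonHom φ ∧ φ ≫ s = (𝟙 G : G ⟶ G) ^ n ∧
    s ≫ φ = (𝟙 S : S ⟶ S) ^ n := by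
  have hms : Mono s := Books.AlgPtsGrp.mono_of_isClosedImmersion s
  obtain ⟨Q, _, q, hq1, hq2, hq3, hq4, hq5, hq6, -⟩ := Quo.exists_quotient s (isNormalHom_of_comm s)
  obtain ⟨n, hn, hQn⟩ := exists_pow_quot p G S s hS hSmax Q q hq4
  obtain ⟨φ, hφ⟩ := K395.Pts.exists_of_comp_eq_one hq4 ((𝟙 G : G ⟶ G) ^ n) (by
    rw [MonObj.pow_comp, Category.id_comp, ← comp_pow_id, hQn, MonObj.comp_one])
  have hφm : IsMonHom φ := by
    have h1 : IsMonHom ((𝟙 G : G ⟶ G) ^ n) := K398.PowSurj.isMonHom_pow n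
    have : IsMonHom (φ ≫ s) := by rw [hφ]; exact h1
    exact Sga3C.SubGrp.isMonHom_of_comp_mono φ s
  refine ⟨n, φ, hn, hφm, hφ, ?_⟩
  rw [← cancel_mono s, Category.assoc, hφ, comp_pow_id, MonObj.pow_comp, Category.id_comp]

theorem exists_complement : ∃ (H : Over (Spec (CommRingCat.of k))) (_ : GrpObj H) (h : H ⟶ G), IsMonHom h ∧ IsClosedImmersion h.left ∧
      Flat ((s ⊗ₘ h) ≫ μ[G]).left ∧ Surjective ((s ⊗ₘ h) ≫ μ[G]).left ∧
      IsFinite (pullback.fst s.left h.left ≫ S.hom) := by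
  have hms : Mono s := Books.AlgPtsGrp.mono_of_isClosedImmersion s
  have hSq : QuasiCompact S.hom := by rw [← Over.w s]; infer_instance
  have hSf : LocallyOfFiniteType S.hom := by rw [← Over.w s]; infer_instance
  have hSs := smooth hS
  have hSr : IsReduced S.left := Etcore.SmoothRed.isReduced_of_smooth S.hom
  have hsep : IsSeparated S.hom := Books.AntiAffine.isSeparated_hom S
  have hSc : IsCommMonObj S := isCommMonObj_of_mono s
  obtain ⟨n, φ, hn, hφm, hφs, hsφ⟩ := exists_factor p G S s hS hSmax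
  obtain ⟨_, hh⟩ := KerGrp.exists_grpObj φ
  have hnm : IsMonHom ((𝟙 S : S ⟶ S) ^ n) := K398.PowSurj.isMonHom_pow n
  have hnsurj := surjective_pow hS n hn
  have hncov : Cov ((𝟙 S : S ⟶ S) ^ n) := K395.Hom.cov_of_surjective _
  have hcl : IsClosedImmersion (KerGrp.kerι φ).left := inferInstance
  have hHq : QuasiCompact (KerGrp.kerObj φ).hom := by rw [← Over.w (KerGrp.kerι φ)]; infer_instance
  have hHf : LocallyOfFiniteType (KerGrp.kerObj φ).hom := by rw [← Over.w (KerGrp.kerι φ)]; infer_instance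
  have hcov : Cov ((s ⊗ₘ KerGrp.kerι φ) ≫ μ[G]) := by
    have hmm : IsMonHom ((s ⊗ₘ KerGrp.kerι φ) ≫ μ[G]) := inferInstance
    have hq1 : QuasiCompact (S ⊗ KerGrp.kerObj φ).hom := inferInstanceAs (QuasiCompact (pullback.fst _ _ ≫ S.hom))
    have hf1 : LocallyOfFiniteType (S ⊗ KerGrp.kerObj φ).hom :=
      inferInstanceAs (LocallyOfFiniteType (pullback.fst _ _ ≫ S.hom))
    obtain ⟨C, _, p', c, hp', hc, hpc, hcov', hcl'⟩ := K395.Hom.exists_image ((s ⊗ₘ KerGrp.kerι φ) ≫ μ[G])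
    have hmc : Mono c := Books.AlgPtsGrp.mono_of_isClosedImmersion c
    obtain ⟨T', t, y, ht, hy⟩ := hncov.exists_local φ
    rw [comp_pow_id] at hy
    obtain ⟨b, hb⟩ := KerGrp.exists_lift φ (t * (y ≫ s)⁻¹) (by
      rw [MonObj.mul_comp, GrpObj.inv_comp, Category.assoc, hsφ, comp_pow_id, hy, mul_inv_cancel])
    have h1 : lift y b ≫ (s ⊗ₘ KerGrp.kerι φ) ≫ μ[G] = t := by
      rw [← Category.assoc, lift_map, ← Hom.mul_def, hb, mul_comm t, mul_inv_cancel_left]
    obtain ⟨l, hl⟩ := ht.exists_lift_of_mono c (𝟙 G) (lift y b ≫ p') (by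
      rw [Category.assoc, hpc, h1, Category.comp_id])
    have hcI : IsIso c := ⟨l, by rw [← cancel_mono c, Category.assoc, hl, Category.id_comp, Category.comp_id], hl⟩
    have hcIl : IsIso c.left := isIso_left_hom c
    have h2 := hcov'.flat
    have h3 := hcov'.surj
    have h4 := hcov'.qc
    rw [← hpc]
    refine ⟨?_, ?_, ?_⟩
    · rw [Over.comp_left]; infer_instance
    · rw [Over.comp_left]; infer_instance
    · rw [Over.comp_left]; infer_instance
  refine ⟨KerGrp.kerObj φ, inferInstance, KerGrp.kerι φ, hh, hcl, hcov.flat, hcov.surj, ?_⟩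
  -- finiteness of the intersection
  obtain ⟨_, hN⟩ := KerGrp.exists_grpObj ((𝟙 S : S ⟶ S) ^ n)
  have hfin : IsFinite (KerGrp.kerObj ((𝟙 S : S ⟶ S) ^ n)).hom :=
    isFinite_ker_pow hS n hn (KerGrp.kerι ((𝟙 S : S ⟶ S) ^ n)) (KerGrp.isPullback_ker _)
  let P : Over (Spec (CommRingCat.of k)) := Over.mk (pullback.fst s.left (KerGrp.kerι φ).left ≫ S.hom)
  let x : P ⟶ S := Over.homMk (pullback.fst s.left (KerGrp.kerι φ).left) rfl
  let y : P ⟶ KerGrp.kerObj φ := Over.homMk (pullback.snd s.left (KerGrp.kerι φ).left) (by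
    change pullback.snd s.left (KerGrp.kerι φ).left ≫ (KerGrp.kerObj φ).hom =
      pullback.fst s.left (KerGrp.kerι φ).left ≫ S.hom
    rw [← Over.w (KerGrp.kerι φ), ← Category.assoc, ← pullback.condition, Category.assoc, Over.w])
  have hxy : x ≫ s = y ≫ KerGrp.kerι φ := by
    apply Over.OverMorphism.ext
    exact pullback.condition
  obtain ⟨z, hz⟩ := KerGrp.exists_lift ((𝟙 S : S ⟶ S) ^ n) x (by
    rw [← hsφ, ← Category.assoc, hxy, Category.assoc, KerGrp.kerι_comp, MonObj.comp_one])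
  have hxc : IsClosedImmersion x.left := inferInstanceAs (IsClosedImmersion (pullback.fst s.left (KerGrp.kerι φ).left))
  have hzc : IsClosedImmersion z.left := by
    have h1 : IsClosedImmersion (z ≫ KerGrp.kerι ((𝟙 S : S ⟶ S) ^ n)).left := by rw [hz]; exact hxc
    rw [Over.comp_left] at h1
    exact IsClosedImmersion.of_comp z.left (KerGrp.kerι ((𝟙 S : S ⟶ S) ^ n)).left
  have h2 : IsFinite (z.left ≫ (KerGrp.kerObj ((𝟙 S : S ⟶ S) ^ n)).hom) := inferInstance
  rw [Over.w] at h2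
  exact h2

end

/-- `S14603`. -/
theorem trivial_iff (p : ℕ) [Fact p.Prime] [CharP k p] (G : Over (Spec (CommRingCat.of k))) [GrpObj G]
    [IsCommMonObj G] [LocallyOfFiniteType G.hom] [QuasiCompact G.hom] :
    (∀ (S : Over (Spec (CommRingCat.of k))) [GrpObj S] (s : S ⟶ G) [IsMonHom s] [IsClosedImmersion s.left],
      SemiAb S → IsIso η[S]) ↔ ∃ n : ℕ, 0 < n ∧ (𝟙 G : G ⟶ G) ^ n = 1 := by
  refine ⟨exists_pow p G, ?_⟩
  rintro ⟨n, hn, h⟩ S _ s _ _ hS
  have hms : Mono s := Books.AlgPtsGrp.mono_of_isClosedImmersion s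
  have hSq : QuasiCompact S.hom := by rw [← Over.w s]; infer_instance
  refine isIso_of_pow hS n hn ?_
  rw [← cancel_mono s, MonObj.pow_comp, Category.id_comp, MonObj.one_comp, ← comp_pow_id, h, MonObj.comp_one]

/-- `S14605`. -/
theorem range_eq (p : ℕ) [Fact p.Prime] [CharP k p]
    (G : Over (Spec (CommRingCat.of k))) [GrpObj G] [IsCommMonObj G] [LocallyOfFiniteType G.hom] [QuasiCompact G.hom]
    (Q : Over (Spec (CommRingCat.of k))) [GrpObj Q] [LocallyOfFiniteType Q.hom] [QuasiCompact Q.hom]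
    (q : G ⟶ Q) [IsMonHom q] [Surjective q.left]
    (S : Over (Spec (CommRingCat.of k))) [GrpObj S] (s : S ⟶ G) [IsMonHom s] [IsClosedImmersion s.left] (hS : SemiAb S)
    (hSmax : ∀ (S₁ : Over (Spec (CommRingCat.of k))) [GrpObj S₁] (s₁ : S₁ ⟶ G) [IsMonHom s₁] [IsClosedImmersion s₁.left],
      SemiAb S₁ → ∃ g : S₁ ⟶ S, g ≫ s = s₁)
    (S' : Over (Spec (CommRingCat.of k))) [GrpObj S'] (s' : S' ⟶ Q) [IsMonHom s'] [IsClosedImmersion s'.left]
    (hS' : SemiAb S')
    (hS'max : ∀ (S₁ : Over (Spec (CommRingCat.of k))) [GrpObj S₁] (s₁ : S₁ ⟶ Q) [IsMonHom s₁] [IsClosedImmersion s₁.left],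
      SemiAb S₁ → ∃ g : S₁ ⟶ S', g ≫ s' = s₁) :
    Set.range (s ≫ q).left = Set.range s'.left := by
  have hSq : QuasiCompact S.hom := by rw [← Over.w s]; infer_instance
  have hS'q : QuasiCompact S'.hom := by rw [← Over.w s']; infer_instance
  apply subset_antisymm
  · obtain ⟨C, _, p', c, hp', hc, hpc, hpf, hps, hcl, hC⟩ := _root_.K402.Prod.exists_image (s ≫ q) hS
    obtain ⟨g, hg⟩ := hS'max C c hC
    rintro _ ⟨x, rfl⟩
    refine ⟨(p' ≫ g).left x, ?_⟩
    have : (p' ≫ g) ≫ s' = s ≫ q := by rw [Category.assoc, hg, hpc]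
    rw [← this]
    rfl
  · obtain ⟨n, φ, hn, hφm, hφs, hsφ⟩ := exists_factor p G S s hS hSmax
    have hsurj := surjective_pow hS' n hn
    rintro _ ⟨x, rfl⟩
    obtain ⟨y, rfl⟩ := hsurj.surj x
    obtain ⟨g, hg⟩ := q.left.surjective (s'.left y)
    refine ⟨φ.left g, ?_⟩
    have h1 : φ ≫ s ≫ q = q ≫ (𝟙 Q : Q ⟶ Q) ^ n := by
      rw [← Category.assoc, hφs, MonObj.pow_comp, Category.id_comp, comp_pow_id]
    have h2 : ((𝟙 S' : S' ⟶ S') ^ n) ≫ s' = s' ≫ (𝟙 Q : Q ⟶ Q) ^ n := by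
      rw [MonObj.pow_comp, Category.id_comp, comp_pow_id]
    calc (s ≫ q).left (φ.left g) = (φ ≫ s ≫ q).left g := rfl
      _ = (q ≫ (𝟙 Q : Q ⟶ Q) ^ n).left g := by rw [h1]
      _ = ((𝟙 Q : Q ⟶ Q) ^ n).left (q.left g) := rfl
      _ = ((𝟙 Q : Q ⟶ Q) ^ n).left (s'.left y) := by rw [hg]
      _ = (s' ≫ (𝟙 Q : Q ⟶ Q) ^ n).left y := rfl
      _ = (((𝟙 S' : S' ⟶ S') ^ n) ≫ s').left y := by rw [h2]
      _ = s'.left (((𝟙 S' : S' ⟶ S') ^ n).left y) := rfl

end K402.ExpMain
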