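import Groth.Agent.Sga3.H794.FinPts
import Groth.Agent.Agf.H585.QuotBc
import Groth.Agent.Agf.H584.QBasic
import Groth.Agent.Sga3C.GrpIrr
import Groth.Agent.Fdesc.GeomAlgClosed
import Groth.Agent.S0084
import Groth.Agent.Sga3B.Parab.EtHom
import Groth.Agent.Sga3C.LocConn
import Groth.Agent.Sga3B.NormBc
import Mathlib.AlgebraicGeometry.Morphisms.QuasiFinite

/-!
# Finite homogeneous spaces and the reduced neutral component
-/

set_option autoImplicit false
universe u
open CategoryTheory MonoidalCategory CartesianMonoidalCategory MonObj GrpObj AlgebraicGeometry Limits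

namespace K402.FinQuot

open Groth.Agent Groth.Agent.Books.AlgPts Groth.Agent.Books.AlgPtsGrp

/-- A scheme of finite type over a field with discrete underlying space is finite. -/
theorem isFinite_of_discrete {k : Type u} [Field k] {X : Scheme.{u}} (p : X ⟶ Spec (CommRingCat.of k))
    [LocallyOfFiniteType p] [QuasiCompact p] [DiscreteTopology X] : IsFinite p := by
  have h3 : LocallyQuasiFinite p :=
    locallyQuasiFinite_iff_isDiscrete_preimage_singleton.mpr fun x => ⟨inferInstance⟩
  have : IsNoetherianRing (CommRingCat.of k) := inferInstanceAs (IsNoetherianRing k)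
  have : IsArtinianRing (CommRingCat.of k) := inferInstanceAs (IsArtinianRing k)
  exact IsFinite.of_locallyQuasiFinite _

/-- Finiteness descends along a field extension. -/
theorem isFinite_of_bc {k K : Type u} [Field k] [Field K]
    (f : Spec (CommRingCat.of K) ⟶ Spec (CommRingCat.of k)) (X : Over (Spec (CommRingCat.of k)))
    (h : IsFinite (Red.bc f X).hom) : IsFinite X.hom := by
  have hd : MorphismProperty.DescendsAlong @IsFinite
      (@Surjective ⊓ @Flat ⊓ @QuasiCompact : MorphismProperty Scheme.{u}) := S0084.result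
  have hff : (@Surjective ⊓ @Flat ⊓ @QuasiCompact : MorphismProperty Scheme.{u}) f :=
    ⟨⟨inferInstance, inferInstance⟩, inferInstance⟩
  exact MorphismProperty.of_pullback_snd_of_descendsAlong
    (Q := @Surjective ⊓ @Flat ⊓ @QuasiCompact) (g := f) hff h

theorem range_of_isPullback {X Y Z W : Scheme.{u}} {a : X ⟶ Y} {b : X ⟶ Z} {f : Y ⟶ W} {g : Z ⟶ W}
    (h : IsPullback a b f g) : Set.range a = f ⁻¹' Set.range g := by
  have h1 : a = h.isoPullback.hom ≫ pullback.fst f g := h.isoPullback_hom_fst.symm
  rw [h1, ← Scheme.Pullback.range_fst]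
  ext y
  constructor
  · rintro ⟨x, rfl⟩
    exact ⟨h.isoPullback.hom x, by rw [Scheme.Hom.comp_apply]⟩
  · rintro ⟨x, rfl⟩
    exact ⟨h.isoPullback.inv x, by rw [← Scheme.Hom.comp_apply, Iso.inv_hom_id_assoc]⟩

variable {k : Type u} [Field k]

instance locallyConnectedSpace (G : Over (Spec (CommRingCat.of k))) [LocallyOfFiniteType G.hom] :
    LocallyConnectedSpace G.left := by
  have : IsLocallyNoetherian G.left := LocallyOfFiniteType.isLocallyNoetherian G.hom
  exact Sga3C.LocConn.locallyConnectedSpace_of_isLocallyNoetherian G.left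

/-- A subgroup whose image is the neutral component stays so after base change. -/
theorem range_bc {K : Type u} [Field K] (f : Spec (CommRingCat.of K) ⟶ Spec (CommRingCat.of k))
    {G G₀ : Over (Spec (CommRingCat.of k))} [GrpObj G] [GrpObj G₀] [LocallyOfFiniteType G.hom]
    [LocallyOfFiniteType G₀.hom] (r : G₀ ⟶ G) [IsMonHom r] [IsClosedImmersion r.left]
    (hr : Set.range r.left = connectedComponent (pt η[G])) :
    Set.range ((Over.pullback f).map r).left = connectedComponent (pt η[Red.bc f G]) := by
  have hc : ConnectedSpace G₀.left := by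
    have h1 : PreconnectedSpace G₀.left := by
      rw [preconnectedSpace_iff_univ, ← r.left.isClosedEmbedding.isInducing.isPreconnected_image,
        Set.image_univ]
      rw [hr]
      exact isPreconnected_connectedComponent
    have h2 : Nonempty G₀.left := ⟨pt η[G₀]⟩
    exact { toPreconnectedSpace := h1, toNonempty := h2 }
  have hgi : GeometricallyConnected G₀.hom := by
    have : GrpObj (Over.mk G₀.hom) := inferInstanceAs (GrpObj G₀)
    have := Sga3C.GrpIrr.geometricallyIrreducible_of_connectedSpace G₀.hom
    exact Fdesc.GeomAlgClosed.geometricallyConnected_of_geometricallyIrreducible G₀.hom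
  have hc' : ConnectedSpace (Red.bc f G₀).left := by
    have : GeometricallyConnected (pullback.snd G₀.hom f) := inferInstance
    exact GeometricallyConnected.connectedSpace_of_subsingleton (pullback.snd G₀.hom f)
  have hm : IsMonHom ((Over.pullback f).map r) := Sga3B.NormBc.isMonHom_pullback_map f r
  have hmem : pt η[Red.bc f G] ∈ Set.range ((Over.pullback f).map r).left := by
    refine ⟨pt η[Red.bc f G₀], ?_⟩
    rw [← pt_comp, IsMonHom.one_hom]
  have hpre : Set.range ((Over.pullback f).map r).left =
      (Sga3B.Parab.EtHom.pr f G) ⁻¹' Set.range r.left :=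
    range_of_isPullback (Sga3B.Parab.EtHom.isPullback_map f r).flip
  have hclopen : IsClopen (Set.range r.left) := by
    rw [hr]
    exact ⟨isClosed_connectedComponent, isOpen_connectedComponent⟩
  apply subset_antisymm
  · exact (isPreconnected_range ((Over.pullback f).map r).left.continuous).subset_connectedComponent hmem
  · have h3 : IsClopen (Set.range ((Over.pullback f).map r).left) := by
      rw [hpre]
      exact hclopen.preimage (Sga3B.Parab.EtHom.pr f G).continuous
    exact h3.connectedComponent_subset hmem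

/-- Functions on the rational points of an algebraic group which are constant on the cosets of the neutral
component have finite range. -/
theorem finite_range {K : Type u} [Field K] [IsAlgClosed K] {N U : Over (Spec (CommRingCat.of K))} [GrpObj N]
    [LocallyOfFiniteType N.hom] [QuasiCompact N.hom] [LocallyOfFiniteType U.hom]
    (u : U ⟶ N) (hu : Set.range u.left = connectedComponent (pt η[N])) {α : Type*}
    (f : (𝟙_ (Over (Spec (CommRingCat.of K))) ⟶ N) → α)
    (hf : ∀ x y, (∃ w : 𝟙_ (Over (Spec (CommRingCat.of K))) ⟶ U, w ≫ u = x * y⁻¹) → f x = f y) :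
    (Set.range f).Finite := by
  classical
  have := Sga3.H794.FinPts.finite_connectedComponents (N := N)
  have hf' : ∀ x y, (pt x : ConnectedComponents N.left) = pt y → f x = f y := by
    intro x y hxy
    have h1 := Sga3.H794.FinPts.mem_connectedComponent_of_eq x y (ConnectedComponents.coe_eq_coe.mp hxy)
    rw [← hu] at h1
    exact hf x y (exists_comp_eq_of_pt_mem_range u _ h1)
  have h2 : (Set.range fun x : 𝟙_ (Over (Spec (CommRingCat.of K))) ⟶ N =>
      (pt x : ConnectedComponents N.left)).Finite := Set.toFinite _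
  refine (h2.image (fun c => if h : ∃ x : 𝟙_ (Over (Spec (CommRingCat.of K))) ⟶ N,
      (pt x : ConnectedComponents N.left) = c then f h.choose else f 1)).subset ?_
  rintro _ ⟨x, rfl⟩
  refine ⟨_, ⟨x, rfl⟩, ?_⟩
  have h3 : ∃ x' : 𝟙_ (Over (Spec (CommRingCat.of K))) ⟶ N,
      (pt x' : ConnectedComponents N.left) = pt x := ⟨x, rfl⟩
  simp only [h3]
  exact hf' _ _ h3.choose_spec

/-- The quotient of an algebraic group by a subgroup with image the neutral component is finite. -/
theorem isFinite_quotient {G G₀ : Over (Spec (CommRingCat.of k))} [GrpObj G] [GrpObj G₀]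
    [LocallyOfFiniteType G.hom] [QuasiCompact G.hom]
    [LocallyOfFiniteType G₀.hom] (r : G₀ ⟶ G) [IsMonHom r] [IsClosedImmersion r.left]
    (hr : Set.range r.left = connectedComponent (pt η[G]))
    (X : Over (Spec (CommRingCat.of k))) (a : AlgGrp.Action G X) (o : 𝟙_ (Over (Spec (CommRingCat.of k))) ⟶ X)
    (hX : AGF.IsQuotient r X a o) : IsFinite X.hom := by
  let K : Type u := AlgebraicClosure k
  let f : Spec (CommRingCat.of K) ⟶ Spec (CommRingCat.of k) := Spec.map (CommRingCat.ofHom (algebraMap k K))
  apply isFinite_of_bc f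
  have hq := Agf.H585.QuotBc.isQuotient_bc f hX
  have hrr := range_bc f r hr
  have i1 : LocallyOfFiniteType (Red.bc f G).hom := inferInstanceAs (LocallyOfFiniteType (pullback.snd G.hom f))
  have i2 : QuasiCompact (Red.bc f G).hom := inferInstanceAs (QuasiCompact (pullback.snd G.hom f))
  have i3 : LocallyOfFiniteType (Red.bc f G₀).hom := inferInstanceAs (LocallyOfFiniteType (pullback.snd G₀.hom f))
  have i4 : LocallyOfFiniteType (Red.bc f X).hom := hq.1
  have h := Agf.H584.QBasic.isQ_of_isQuotient hq
  set p := (Agf.H585.QuotBc.bcAct f a).orbitMap (Agf.H585.QuotBc.bcPt f o) with hp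
  have := h.surj
  have hfin : (Set.range fun x : 𝟙_ (Over (Spec (CommRingCat.of K))) ⟶ Red.bc f G => x⁻¹ ≫ p).Finite := by
    apply finite_range ((Over.pullback f).map r) hrr
    rintro x y ⟨w, hw⟩
    rw [eq_comm, h.eq_iff]
    refine ⟨w⁻¹, ?_⟩
    rw [GrpObj.inv_comp, hw, _root_.mul_inv_rev, _root_.inv_inv, inv_mul_cancel_left]
  have hfin' : Finite (𝟙_ (Over (Spec (CommRingCat.of K))) ⟶ Red.bc f X) := by
    rw [← Set.finite_univ_iff]
    refine hfin.subset ?_
    intro x _
    obtain ⟨y, hy⟩ := exists_comp_eq_of_pt_mem_range p x (p.left.surjective _)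
    exact ⟨y⁻¹, by simpa using hy⟩
  have hd := Sga3.H794.FinPts.discreteTopology_of_finite hfin'
  have hqc : QuasiCompact (Red.bc f X).hom := by
    have h1 : CompactSpace (Red.bc f G).left := (quasiCompact_iff_compactSpace (Red.bc f G).hom).1 i2
    have h2 : CompactSpace (Red.bc f X).left := h.surj.surj.compactSpace p.left.continuous
    exact (quasiCompact_iff_compactSpace (Red.bc f X).hom).2 h2
  exact isFinite_of_discrete (Red.bc f X).hom

/-- A morphism from a connected reduced scheme to a finite scheme over a field which takes a rational point to a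
rational point is constant. -/
theorem eq_const {X T : Over (Spec (CommRingCat.of k))} [IsFinite X.hom] [IsReduced T.left]
    [ConnectedSpace T.left] (φ : T ⟶ X) (t : 𝟙_ (Over (Spec (CommRingCat.of k))) ⟶ T)
    (o : 𝟙_ (Over (Spec (CommRingCat.of k))) ⟶ X) (h : t ≫ φ = o) : φ = toUnit T ≫ o := by
  have hdisc : DiscreteTopology X.left := by
    have h1 : ∀ y : Spec (CommRingCat.of k), _root_.IsDiscrete (X.hom ⁻¹' {y}) :=
      X.hom.isDiscrete_preimage_singleton
    have h2 : ∀ y : Spec (CommRingCat.of k), X.hom ⁻¹' {y} = Set.univ := fun y =>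
      Set.eq_univ_of_forall fun x => Subsingleton.elim (α := Spec (CommRingCat.of k)) _ _
    simp only [h2] at h1
    exact isDiscrete_univ_iff.1 (h1 (IsLocalRing.closedPoint k))
  have hrange : Set.range φ.left ⊆ Set.range o.left := by
    have h1 := (isPreconnected_range φ.left.continuous).subsingleton
    rintro x hx
    refine ⟨IsLocalRing.closedPoint k, ?_⟩
    refine h1 ⟨pt t, ?_⟩ hx
    change φ.left (pt t) = pt o
    rw [← h, pt_comp]
  have hcl : IsClosedImmersion o.left := by
    have h2 : IsClosedImmersion (o.left ≫ X.hom) := by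
      rw [Over.w]
      change IsClosedImmersion (𝟙 _)
      infer_instance
    exact IsClosedImmersion.of_comp _ X.hom
  obtain ⟨g, hg⟩ := exists_lift o φ hrange
  rw [← hg, toUnit_unique g (toUnit T)]

/-- A connected reduced subgroup is contained in every subgroup with finite quotient. -/
theorem exists_factor {G G₀ H : Over (Spec (CommRingCat.of k))} [GrpObj G] [GrpObj G₀] [GrpObj H]
    [QuasiCompact G.hom] (r : G₀ ⟶ G) [IsMonHom r] [IsReduced G₀.left]
    [ConnectedSpace G₀.left] (h : H ⟶ G)
    (X : Over (Spec (CommRingCat.of k))) (a : AlgGrp.Action G X) (o : 𝟙_ (Over (Spec (CommRingCat.of k))) ⟶ X)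
    (hX : AGF.IsQuotient h X a o) (hfin : IsFinite X.hom) : ∃ g : G₀ ⟶ H, g ≫ h = r := by
  have hq := Agf.H584.QBasic.isQ_of_isQuotient hX
  have h1 : r ≫ a.orbitMap o = toUnit G₀ ≫ (η[G] ≫ a.orbitMap o) := by
    apply eq_const _ η[G₀]
    rw [← Category.assoc, IsMonHom.one_hom]
  have h2 : (1 : G₀ ⟶ G) ≫ a.orbitMap o = r ≫ a.orbitMap o := by
    rw [h1, ← Category.assoc]
    rfl
  obtain ⟨x, hx⟩ := (hq.eq_iff _ _).1 h2
  exact ⟨x, by rw [hx, _root_.one_mul]⟩

end K402.FinQuot
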