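import Groth.Agent.AlgGrp.K395.Anti
import Groth.Agent.AlgGrp.K395.Fix
import Groth.Agent.AlgGrp.K402.Quo
import Groth.Agent.AlgGrp.K404.QuoKit
import Groth.Agent.AlgGrp.K414.AntiAffBC

/-!
# Groups acting with a fixed rational point: the quotient by the kernel is affine

(the space is integral, separated, locally Noetherian; not necessarily of finite type)
-/

set_option autoImplicit false
universe u
open CategoryTheory MonoidalCategory CartesianMonoidalCategory MonObj GrpObj AlgebraicGeometry Limits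

namespace K402.FixAff

open Groth.Agent Groth.Agent.Sga3B Groth.Agent.Sga3.H739.Fpqc

variable {k : Type u} [Field k]

open Groth.Agent.Books.AntiAffine in
/-- An anti-affine group acting on an integral separated locally Noetherian scheme with a fixed rational point acts
trivially. -/
theorem act_eq_snd
    (N X : Over (Spec (CommRingCat.of k))) [GrpObj N] [LocallyOfFiniteType N.hom] [QuasiCompact N.hom]
    [IsIso N.hom.appTop] [IsSeparated X.hom] [IsIntegral X.left] [IsLocallyNoetherian X.left]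
    (α : N ⊗ X ⟶ X) (h1 : lift (toUnit _ ≫ η[N]) (𝟙 _) ≫ α = 𝟙 _)
    (P : 𝟙_ _ ⟶ X) (hP : N ◁ P ≫ α = toUnit _ ≫ P) : α = snd N X := by
  have hnoeth : IsLocallyNoetherian N.left := LocallyOfFiniteType.isLocallyNoetherian N.hom
  have hcpt : CompactSpace N.left := QuasiCompact.compactSpace_of_compactSpace N.hom
  have key : N ◁ locι X (P.left (IsLocalRing.closedPoint k)) ≫ α = snd _ _ ≫ locι X _ := by
    refine K395.Anti.loc_gen N η[N] X X P P _ _ ?_ ?_ ?_
    · rw [← Category.assoc, ← MonoidalCategory.whiskerLeft_comp, K395.Anti.locPt_locι, hP]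
    · rw [whiskerLeft_snd_assoc, K395.Anti.locPt_locι, toUnit_unique (snd N (𝟙_ _)) (toUnit _)]
    · have h2 : lift (toUnit _ ≫ η[N]) (𝟙 _) ≫ N ◁ locι X (P.left (IsLocalRing.closedPoint k)) =
          locι X _ ≫ lift (toUnit _ ≫ η[N]) (𝟙 _) := by
        ext1 <;> simp
      rw [reassoc_of% h2, h1]
      simp
  obtain ⟨Z, z, hz, huniv⟩ := K395.Fix.exists_agree (K395.Fix.locProj_of_field N.hom) (Y := X)
    ((β_ X N).hom ≫ α) (fst X N)
  obtain ⟨b, hb⟩ := (huniv (loc X (P.left (IsLocalRing.closedPoint k))) (locι X _)).2 (by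
    intro T' x h
    have h3 := congr(lift h x ≫ $key)
    simpa using h3)
  have hs : Surjective z.left := by
    refine ⟨fun x => ?_⟩
    have hcl : IsClosed (Set.range z.left) := z.left.isClosedEmbedding.isClosed_range
    have hg : genericPoint X.left ∈ Set.range z.left := by
      obtain ⟨w, hw⟩ : genericPoint X.left ∈ Set.range (locι X (P.left (IsLocalRing.closedPoint k))).left := by
        change _ ∈ Set.range (X.left.fromSpecStalk _)
        rw [Scheme.range_fromSpecStalk]
        exact genericPoint_specializes _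
      refine ⟨b.left w, ?_⟩
      rw [← Scheme.Hom.comp_apply, ← Over.comp_left, hb, hw]
    have := (genericPoint_spec X.left).def ▸ hcl.closure_subset_iff.2 (Set.singleton_subset_iff.2 hg)
    exact this (Set.mem_univ x)
  have hiso : IsIso z.left := isIso_of_isClosedImmersion_of_surjective z.left
  have hiso' : IsIso z := by
    have : IsIso ((Over.forget _).map z) := hiso
    exact isIso_of_reflects_iso z (Over.forget _)
  have h4 := (huniv X (𝟙 X)).1 ⟨inv z, by simp⟩ (N ⊗ X) (snd N X) (fst N X)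
  simpa using h4

theorem main (G X : Over (Spec (CommRingCat.of k))) [GrpObj G] [LocallyOfFiniteType G.hom] [QuasiCompact G.hom]
    [IsSeparated X.hom] [IsIntegral X.left] [IsLocallyNoetherian X.left]
    (a : AlgGrp.Action G X) (x : 𝟙_ (Over (Spec (CommRingCat.of k))) ⟶ X) (hx : a.IsFixedPt x)
    (N : Over (Spec (CommRingCat.of k))) [GrpObj N] (n : N ⟶ G) [IsMonHom n] [IsClosedImmersion n.left]
    (hN : ∀ (T : Over (Spec (CommRingCat.of k))) (g : T ⟶ G), (∃ m : T ⟶ N, m ≫ n = g) ↔
      ∀ (T' : Over (Spec (CommRingCat.of k))) (t : T' ⟶ T) (y : T' ⟶ X), lift (t ≫ g) y ≫ a.act = y)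
    (Q : Over (Spec (CommRingCat.of k))) [GrpObj Q] [LocallyOfFiniteType Q.hom] [QuasiCompact Q.hom]
    (q : G ⟶ Q) [IsMonHom q] [Surjective q.left] [Flat q.left] (hq : AlgGrp.IsKernel n q) :
    IsAffine Q.left := by
  obtain ⟨M, H, _, _, m, ρ, hm, hρ, hmc, hρf, hρs, hk, hHa, hHf, hMa, hMs, hMc⟩ := K404.QuoKit.exists_hull k G
  have hMq : QuasiCompact M.hom := by rw [← Over.w m]; infer_instance
  have hMi : IsIso M.hom.appTop := (K414.AntiAffBC.bijective_iff M).1 hMa
  have key := act_eq_snd M X (m ▷ X ≫ a.act) ?_ x ?_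
  · obtain ⟨b, hb⟩ := (hN M m).2 (by
      intro T' t y
      have h := congr(lift t y ≫ $key)
      simpa using h)
    have hmq : m ≫ q = 1 := by
      rw [← hb]
      exact K395.Pts.comp_eq_one hq b
    obtain ⟨ψ, hψ1, hψ2⟩ := Quo.exists_desc m ρ hk q hmq
    have hcov1 : Cov ρ := K395.CovKit.cov_of ρ
    have hcov2 : Cov (ρ ≫ ψ) := by rw [hψ2]; exact K395.CovKit.cov_of q
    exact K395.Quo.isAffine_of_quotient ψ (hcov1.of_comp hcov2) hHa
  · have h2 : lift (toUnit X ≫ η[M]) (𝟙 X) ≫ m ▷ X = lift (toUnit X ≫ η[G]) (𝟙 X) := by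
      ext1 <;> simp
    have h3 := a.one_act
    rw [reassoc_of% h2]
    have h4 : lift (toUnit X ≫ η[G]) (𝟙 X) = (λ_ X).inv ≫ (η[G] ▷ X) := by
      ext1 <;> simp
    rw [h4, Category.assoc, h3, Iso.inv_hom_id]
  · have h2 := hx (M ⊗ 𝟙_ _) (fst _ _ ≫ m)
    rw [← h2, ← Category.assoc]
    congr 1
    ext1
    · simp
    · simp [toUnit_unique (snd M (𝟙_ _)) (toUnit _)]

end K402.FixAff
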