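import Groth.Agent.AlgGrp.K402.Crit
import Groth.Agent.AlgGrp.K402.FinQuot

/-!
# Isogenies and semi-abelian varieties
-/

set_option autoImplicit false
universe u
open CategoryTheory MonoidalCategory CartesianMonoidalCategory MonObj GrpObj AlgebraicGeometry Limits

namespace K402.Isog

open Groth.Agent Groth.Agent.Sga3B SemiAb Quo Crit Groth.Agent.Sga7.H109.Basic

section field

variable {k : Type u} [Field k]

/-- A pointed morphism from a connected reduced scheme which lands in the finite kernel of a homomorphism is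
trivial. -/
theorem eq_one_of_kernel {X G H N : Over (Spec (CommRingCat.of k))} [GrpObj G] [GrpObj H] (f : G ⟶ H)
    (n : N ⟶ G) (hker : AlgGrp.IsKernel n f) [IsFinite N.hom] [IsReduced X.left] [ConnectedSpace X.left]
    (φ : X ⟶ G) (h1 : φ ≫ f = 1) (t : 𝟙_ (Over (Spec (CommRingCat.of k))) ⟶ X) (h2 : t ≫ φ = 1) : φ = 1 := by
  obtain ⟨y, rfl⟩ := Sga3.H794.ChevKer.exists_lift_ker hker φ h1
  have h3 := FinQuot.eq_const y t (t ≫ y) rfl
  rw [h3, Category.assoc, Category.assoc, h2]
  exact MonObj.comp_one _

/-- The product of smooth connected groups is connected. -/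
theorem connectedSpace_tensor (G H : Over (Spec (CommRingCat.of k))) [GrpObj G] [ConnectedSpace G.left]
    [LocallyOfFiniteType G.hom] [ConnectedSpace H.left] : ConnectedSpace (G ⊗ H).left := by
  have hgc := Sga3.H821.ChevDesc.geometricallyConnected G
  exact inferInstanceAs (ConnectedSpace ↥(pullback G.hom H.hom))

theorem isReduced_of_smooth (X : Over (Spec (CommRingCat.of k))) [Smooth X.hom] : IsReduced X.left :=
  Etcore.SmoothRed.isReduced_of_smooth X.hom

/-- A smooth connected group with a homomorphism with finite kernel to a commutative group is commutative. -/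
theorem isCommMonObj_of_finite_kernel {G H N : Over (Spec (CommRingCat.of k))} [GrpObj G] [GrpObj H]
    [IsCommMonObj H] [Smooth G.hom] [ConnectedSpace G.left] (f : G ⟶ H) [IsMonHom f]
    (n : N ⟶ G) (hker : AlgGrp.IsKernel n f) [IsFinite N.hom] : IsCommMonObj G := by
  have hc := connectedSpace_tensor G G
  have hs : Smooth (G ⊗ G).hom := inferInstanceAs (Smooth (pullback.fst G.hom G.hom ≫ G.hom))
  have hr := isReduced_of_smooth (G ⊗ G)
  have key : fst G G * snd G G * (fst G G)⁻¹ * (snd G G)⁻¹ = 1 := by
    refine eq_one_of_kernel f n hker _ ?_ (lift η[G] η[G]) ?_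
    · simp only [MonObj.mul_comp, GrpObj.inv_comp]
      rw [_root_.mul_comm (fst G G ≫ f) (snd G G ≫ f)]
      simp
    · simp only [MonObj.comp_mul, GrpObj.comp_inv, lift_fst, lift_snd]
      simp
  refine Comm.isCommMonObj_of_points _ fun X a b => ?_
  have h1 := congrArg (fun φ => lift a b ≫ φ) key
  simp only [MonObj.comp_mul, GrpObj.comp_inv, lift_fst, lift_snd, MonObj.comp_one] at h1
  rw [mul_inv_eq_one, mul_inv_eq_iff_eq_mul] at h1
  exact h1

/-- A smooth connected group isogenous to a semi-abelian variety is semi-abelian (more generally with a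
homomorphism with finite kernel). -/
theorem semiAb_of_finite_kernel {G H N : Over (Spec (CommRingCat.of k))} [GrpObj G] [GrpObj H]
    [Smooth G.hom] [QuasiCompact G.hom] [ConnectedSpace G.left] [QuasiCompact H.hom] (f : G ⟶ H)
    [IsMonHom f] (n : N ⟶ G) (hker : AlgGrp.IsKernel n f) [IsFinite N.hom] (hH : SemiAb H) : SemiAb G := by
  have := Comm.isCommMonObj hH
  have := isCommMonObj_of_finite_kernel f n hker
  refine semiAb_iff_ga.2 fun j _ => ?_
  have hfin : IsFinite (Red.bc (cl k) N).hom := inferInstanceAs (IsFinite (pullback.snd N.hom (cl k)))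
  have g2 := Sga3.H783.GaGm.isIntegral_ga (AlgebraicClosure k)
  refine eq_one_of_kernel ((Over.pullback (cl k)).map f) _ (Sga7.H760.KerBc.isKernel_bc (cl k) hker) j ?_ η ?_
  · exact ga_eq_one (SemiAb.bc (cl k) hH) _
  · rw [IsMonHom.one_hom, MonObj.one_eq_one]

end field

end K402.Isog
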