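import Groth.Agent.AlgGrp.K402.Prod
import Groth.Agent.AlgGrp.K398.PowSurj
import Groth.Agent.AlgGrp.K395.Hom
import Groth.Agent.AlgGrp.K405.IsogGm
import Groth.Agent.Sga3B.TorusAlgClosed

/-!
# Power maps of semi-abelian varieties: surjective with finite kernel
-/

set_option autoImplicit false
universe u
open CategoryTheory MonoidalCategory CartesianMonoidalCategory MonObj GrpObj AlgebraicGeometry Limits

namespace K402.PowPts

open Groth.Agent Groth.Agent.Sga3B Groth.Agent.Books.AlgPts Groth.Agent.Books.AlgPtsGrp SemiAb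

section ac

variable {K : Type u} [Field K] [IsAlgClosed K]

/-- A homomorphism which is surjective on rational points is surjective. -/
theorem surjective_of_points {G H : Over (Spec (CommRingCat.of K))} [GrpObj G] [GrpObj H] [LocallyOfFiniteType G.hom]
    [QuasiCompact G.hom] [LocallyOfFiniteType H.hom] (f : G ⟶ H) [IsMonHom f]
    (h : ∀ x : 𝟙_ (Over (Spec (CommRingCat.of K))) ⟶ H, ∃ y : 𝟙_ (Over (Spec (CommRingCat.of K))) ⟶ G, y ≫ f = x) :
    Surjective f.left := by
  obtain ⟨C, _, p, i, hp, hi, hpi, hcov, hcl⟩ := K395.Hom.exists_image f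
  have h1 : (Set.univ : Set H.left) ⊆ Set.range i.left := by
    refine subset_of_forall_pt isClosed_univ.isLocallyClosed i.left.isClosedEmbedding.isClosed_range fun x _ => ?_
    obtain ⟨y, hy⟩ := h x
    refine ⟨pt (y ≫ p), ?_⟩
    rw [← pt_comp, Category.assoc, hpi, hy]
  have h2 : Surjective i.left := ⟨fun x => h1 (Set.mem_univ x)⟩
  have h3 := hcov.surj
  rw [← hpi, Over.comp_left]
  infer_instance

/-- A group whose reduced neutral component has only the trivial point is finite. -/
theorem isFinite_of_points {N U : Over (Spec (CommRingCat.of K))} [GrpObj N]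
    [LocallyOfFiniteType N.hom] [QuasiCompact N.hom] [LocallyOfFiniteType U.hom]
    (u : U ⟶ N) (hu : Set.range u.left = connectedComponent (pt η[N]))
    (h : ∀ w : 𝟙_ (Over (Spec (CommRingCat.of K))) ⟶ U, w ≫ u = 1) : IsFinite N.hom := by
  have h1 : (Set.range (id : (𝟙_ (Over (Spec (CommRingCat.of K))) ⟶ N) → _)).Finite := by
    apply FinQuot.finite_range u hu
    rintro x y ⟨w, hw⟩
    rw [h] at hw
    exact (mul_inv_eq_one.1 hw.symm)
  rw [Set.range_id, Set.finite_univ_iff] at h1
  have hd := Sga3.H794.FinPts.discreteTopology_of_finite h1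
  exact FinQuot.isFinite_of_discrete N.hom

/-- The quotient by the neutral component is finite. -/
theorem isFinite_quot {Q F R : Over (Spec (CommRingCat.of K))} [GrpObj Q] [GrpObj F]
    [LocallyOfFiniteType Q.hom] [QuasiCompact Q.hom] [LocallyOfFiniteType R.hom] [LocallyOfFiniteType F.hom]
    (u : R ⟶ Q) (hu : Set.range u.left = connectedComponent (pt η[Q]))
    (π : Q ⟶ F) [IsMonHom π] [Surjective π.left] (h : u ≫ π = 1) : IsFinite F.hom := by
  have h1 : (Set.range (fun x : (𝟙_ (Over (Spec (CommRingCat.of K))) ⟶ Q) => x ≫ π)).Finite := by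
    apply FinQuot.finite_range u hu
    rintro x y ⟨w, hw⟩
    have h2 : (x * y⁻¹) ≫ π = 1 := by rw [← hw, Category.assoc, h, MonObj.comp_one]
    rw [MonObj.mul_comp, GrpObj.inv_comp] at h2
    exact (mul_inv_eq_one.1 h2)
  have h3 : Finite (𝟙_ (Over (Spec (CommRingCat.of K))) ⟶ F) := by
    rw [← Set.finite_univ_iff]
    refine h1.subset ?_
    intro x _
    obtain ⟨y, hy⟩ := exists_comp_eq_of_pt_mem_range π x (π.left.surjective _)
    exact ⟨y, hy⟩
  have hd := Sga3.H794.FinPts.discreteTopology_of_finite h3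
  have hq := Quo.quasiCompact_of_surjective π
  exact FinQuot.isFinite_of_discrete F.hom

/-- Units of an algebraically closed field have roots. -/
theorem exists_root (r : ℕ) (n : ℕ) (hn : 0 < n) (χ : Multiplicative (Fin r → ℤ) →* Kˣ) :
    ∃ χ' : Multiplicative (Fin r → ℤ) →* Kˣ, χ' ^ n = χ := by
  have hroot : ∀ a : Kˣ, ∃ b : Kˣ, b ^ n = a := by
    intro a
    obtain ⟨b, hb⟩ := IsAlgClosed.exists_pow_nat_eq (a : K) hn
    have hb0 : b ≠ 0 := by
      rintro rfl
      rw [zero_pow hn.ne'] at hb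
      exact a.ne_zero hb.symm
    exact ⟨Units.mk0 b hb0, Units.ext hb⟩
  choose b hb using fun i : Fin r => hroot (χ (Multiplicative.ofAdd (Pi.single i 1)))
  refine ⟨{ toFun := fun m => ∏ i, b i ^ (Multiplicative.toAdd m i), map_one' := by simp, map_mul' := ?_ }, ?_⟩
  · intro x y
    rw [← Finset.prod_mul_distrib]
    refine Finset.prod_congr rfl fun i _ => ?_
    rw [toAdd_mul, Pi.add_apply, zpow_add]
  · refine MonoidHom.ext fun m => ?_
    change (∏ i, b i ^ (Multiplicative.toAdd m i)) ^ n = χ m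
    rw [← Finset.prod_pow]
    have h1 : ∀ i, (b i ^ (Multiplicative.toAdd m i)) ^ n = χ (Multiplicative.ofAdd (Pi.single i (Multiplicative.toAdd m i))) := by
      intro i
      rw [← zpow_natCast, ← zpow_mul, mul_comm, zpow_mul, zpow_natCast, hb, ← map_zpow, ← ofAdd_zsmul]
      congr 2
      ext j
      by_cases h : j = i
      · subst h; simp
      · simp [h]
    rw [Finset.prod_congr rfl fun i _ => h1 i, ← map_prod, ← ofAdd_sum]
    congr 1
    exact (Finset.univ_sum_single (Multiplicative.toAdd m)).symm ▸ rfl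

/-- Points of tori have roots. -/
theorem torus_root {T : Over (Spec (CommRingCat.of K))} [GrpObj T] (hT : Red.IsTorus T) (n : ℕ) (hn : 0 < n)
    (x : 𝟙_ (Over (Spec (CommRingCat.of K))) ⟶ T) : ∃ y : 𝟙_ (Over (Spec (CommRingCat.of K))) ⟶ T, y ^ n = x := by
  obtain ⟨r, ⟨e⟩⟩ := TorusAlgClosed.exists_isSplitTorusWith hT
  have h2 : e.hom.hom.hom ≫ e.inv.hom.hom = 𝟙 T := congrArg (fun f => f.hom.hom) e.hom_inv_id
  let ε : K ≃+* Γ(Spec (CommRingCat.of K), ⊤) := (Scheme.ΓSpecIso (CommRingCat.of K)).symm.commRingCatIsoToRingEquiv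
  let χ : Multiplicative (Fin r → ℤ) →* Γ(Spec (CommRingCat.of K), ⊤) := DSPts.dsChar (x ≫ e.hom.hom.hom)
  obtain ⟨χ', hχ'⟩ := exists_root r n hn ((Units.map (ε.symm : _ →* K)).comp χ.toHomUnits)
  let ψ : Multiplicative (Fin r → ℤ) →* Γ(Spec (CommRingCat.of K), ⊤) :=
    (ε : K →* _).comp ((Units.coeHom K).comp χ')
  have hψ : ψ ^ n = χ := by
    refine MonoidHom.ext fun m => ?_
    have h := DFunLike.congr_fun hχ' m
    have h' := congrArg (fun a : Kˣ => ε (a : K)) h
    simp only [MonoidHom.pow_apply, Units.val_pow_eq_pow_val, map_pow] at h'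
    rw [MonoidHom.pow_apply]
    refine h'.trans ?_
    change ε (ε.symm (χ m)) = χ m
    exact ε.apply_symm_apply _
  let y' : 𝟙_ (Over (Spec (CommRingCat.of K))) ⟶ Red.DS (Spec (CommRingCat.of K)) (Fin r → ℤ) :=
    DSPts.dsEquiv _ _ ψ
  have hy' : y' ^ n = x ≫ e.hom.hom.hom := by
    have h3 : DSPts.dsEquiv (𝟙_ (Over (Spec (CommRingCat.of K)))) (Fin r → ℤ) (ψ ^ n) = y' ^ n := map_pow _ _ _
    rw [← h3, hψ]
    exact DSPts.dsEquiv_dsChar _
  refine ⟨y' ≫ e.inv.hom.hom, ?_⟩
  have h4 := MonObj.pow_comp y' n e.inv.hom.hom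
  rw [← h4, hy', Category.assoc, h2, Category.comp_id]

/-- Points of abelian varieties have roots. -/
theorem proper_root {A : Over (Spec (CommRingCat.of K))} [GrpObj A] [IsProper A.hom] [Smooth A.hom]
    [ConnectedSpace A.left] (n : ℕ) (hn : 0 < n)
    (x : 𝟙_ (Over (Spec (CommRingCat.of K))) ⟶ A) : ∃ y : 𝟙_ (Over (Spec (CommRingCat.of K))) ⟶ A, y ^ n = x := by
  have hgi := Sga3.H794.ChevProper.geometricallyIntegral A
  have h1 := S0383.result K A n hn
  obtain ⟨y, hy⟩ := exists_comp_eq_of_pt_mem_range ((𝟙 A : A ⟶ A) ^ n) x (((𝟙 A : A ⟶ A) ^ n).left.surjective _)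
  refine ⟨y, ?_⟩
  rw [← hy, MonObj.comp_pow, Category.comp_id]

/-- Points of semi-abelian varieties have roots. -/
theorem semiAb_root {G : Over (Spec (CommRingCat.of K))} [GrpObj G] [QuasiCompact G.hom] (hG : SemiAb G) (n : ℕ) (hn : 0 < n)
    (x : 𝟙_ (Over (Spec (CommRingCat.of K))) ⟶ G) : ∃ y : 𝟙_ (Over (Spec (CommRingCat.of K))) ⟶ G, y ^ n = x := by
  have hc := Comm.isCommMonObj hG
  have hs := smooth hG
  obtain ⟨T, _, i, A, _, q, h1, h2, h3, h4, h5, h6, h7, h8, h9, h10⟩ := hG
  obtain ⟨a, ha⟩ := proper_root n hn (x ≫ q)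
  obtain ⟨y, hy⟩ := exists_comp_eq_of_pt_mem_range q a (q.left.surjective _)
  obtain ⟨t, ht⟩ := K395.Pts.exists_of_comp_eq h7 x (y ^ n) (by
    rw [MonObj.pow_comp, hy, ha])
  obtain ⟨s, hs⟩ := torus_root h3 n hn t
  refine ⟨(s ≫ i) * y, ?_⟩
  rw [mul_pow, ← MonObj.pow_comp, hs, ht]

theorem surjective_pow_ac {G : Over (Spec (CommRingCat.of K))} [GrpObj G] [QuasiCompact G.hom] (hG : SemiAb G) (n : ℕ)
    (hn : 0 < n) : Surjective ((𝟙 G : G ⟶ G) ^ n).left := by
  have hc := Comm.isCommMonObj hG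
  have hs := smooth hG
  have hm : IsMonHom ((𝟙 G : G ⟶ G) ^ n) := K398.PowSurj.isMonHom_pow n
  apply surjective_of_points
  intro x
  obtain ⟨y, hy⟩ := semiAb_root hG n hn x
  exact ⟨y, by rw [MonObj.comp_pow, Category.comp_id, hy]⟩

end ac

section field

variable {k : Type u} [Field k]

theorem map_pow_bc {S S' : Scheme.{u}} (f : S' ⟶ S) {X G : Over S} [GrpObj G] (x : X ⟶ G) (n : ℕ) :
    (Over.pullback f).map (x ^ n) = (((Over.pullback f).map x : Red.bc f X ⟶ Red.bc f G)) ^ n := by
  induction n with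
  | zero => rw [pow_zero, pow_zero, Functor.map_one]
  | succ n ih => rw [pow_succ, pow_succ, Functor.map_mul, ih]

/-- The power maps of a semi-abelian variety are surjective. -/
theorem surjective_pow {G : Over (Spec (CommRingCat.of k))} [GrpObj G] [QuasiCompact G.hom] (hG : SemiAb G) (n : ℕ)
    (hn : 0 < n) : Surjective ((𝟙 G : G ⟶ G) ^ n).left := by
  let f := Crit.cl k
  have i1 : QuasiCompact (Red.bc f G).hom := inferInstanceAs (QuasiCompact (pullback.snd G.hom f))
  have h := surjective_pow_ac (SemiAb.bc f hG) n hn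
  have h1 := map_pow_bc f (𝟙 G) n
  rw [CategoryTheory.Functor.map_id] at h1
  have := S0083.result.{u}
  refine Quo.of_bc_map f @Surjective ((𝟙 G : G ⟶ G) ^ n) ?_
  rw [h1]
  exact h

/-- The power maps of a semi-abelian variety have finite kernels. -/
theorem isFinite_ker_pow {G N : Over (Spec (CommRingCat.of k))} [GrpObj G] [GrpObj N] [QuasiCompact G.hom]
    (hG : SemiAb G) (n : ℕ) (hn : 0 < n) (i : N ⟶ G) [IsMonHom i] [IsClosedImmersion i.left]
    (hk : AlgGrp.IsKernel i ((𝟙 G : G ⟶ G) ^ n)) : IsFinite N.hom := by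
  let f := Crit.cl k
  apply FinQuot.isFinite_of_bc f
  have i1 : QuasiCompact (Red.bc f G).hom := inferInstanceAs (QuasiCompact (pullback.snd G.hom f))
  have hs := smooth hG
  have j0 : LocallyOfFiniteType N.hom := by rw [← Over.w i]; infer_instance
  have j0' : QuasiCompact N.hom := by rw [← Over.w i]; infer_instance
  have j1 : QuasiCompact (Red.bc f N).hom := inferInstanceAs (QuasiCompact (pullback.snd N.hom f))
  have j2 : LocallyOfFiniteType (Red.bc f N).hom := inferInstanceAs (LocallyOfFiniteType (pullback.snd N.hom f))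
  have hG' := SemiAb.bc f hG
  have hm : IsMonHom ((Over.pullback f).map i) := Sga3B.NormBc.isMonHom_pullback_map f i
  have hcl : IsClosedImmersion ((Over.pullback f).map i).left :=
    MorphismProperty.of_isPullback (Parab.EtHom.isPullback_map f i) inferInstance
  obtain ⟨U, _, u, hu1, hu2, hu3, hu4, hu5⟩ := Sga3B.RedIdComp.exists_redIdComp (Red.bc f N)
  have hmu : Mono u := Books.AlgPtsGrp.mono_of_isClosedImmersion u
  have hmi : Mono ((Over.pullback f).map i) := Books.AlgPtsGrp.mono_of_isClosedImmersion _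
  have hui : IsMonHom (u ≫ (Over.pullback f).map i) := inferInstance
  have huc : IsClosedImmersion (u ≫ (Over.pullback f).map i).left := by rw [Over.comp_left]; infer_instance
  have hUq : QuasiCompact U.hom := by rw [← Over.w u]; infer_instance
  have hU : SemiAb U := _root_.K402.Prod.semiAb_of_closedImmersion (u ≫ (Over.pullback f).map i) hG'
  have h1 : (Over.pullback f).map i ≫ (Over.pullback f).map ((𝟙 G : G ⟶ G) ^ n) = 1 := by
    have : i ≫ (𝟙 G : G ⟶ G) ^ n = 1 := hk.w
    rw [← Functor.map_comp, this, Functor.map_one]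
  have h2 : (Over.pullback f).map i ^ n = 1 := by
    have h3 := map_pow_bc f (𝟙 G) n
    rw [CategoryTheory.Functor.map_id] at h3
    rw [h3, MonObj.comp_pow, Category.comp_id] at h1
    exact h1
  have h3 : (𝟙 U : U ⟶ U) ^ n = 1 := by
    rw [← cancel_mono (u ≫ (Over.pullback f).map i), MonObj.pow_comp, Category.id_comp, MonObj.one_comp,
      ← MonObj.comp_pow, h2, MonObj.comp_one]
  refine isFinite_of_points u hu5 fun w => ?_
  obtain ⟨y, hy⟩ := semiAb_root hU n hn w
  have h4 : w = 1 := by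
    rw [← hy]
    have := congrArg (fun m => y ≫ m) h3
    simp only [MonObj.comp_one] at this
    rwa [MonObj.comp_pow, Category.comp_id] at this
  rw [h4, MonObj.one_comp]

end field

end K402.PowPts
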