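import Groth.Agent.AlgGrp.K402.Isog
import Groth.Agent.AlgGrp.K411.HomKit

/-!
# Products, images and extensions of semi-abelian varieties
-/

set_option autoImplicit false
universe u
open CategoryTheory MonoidalCategory CartesianMonoidalCategory MonObj GrpObj AlgebraicGeometry Limits

namespace K402.Prod

open Groth.Agent Groth.Agent.Sga3B SemiAb Quo Crit Isog Groth.Agent.Sga7.H109.Basic

/-- Points of the base change of a product are determined by their components. -/
theorem ext_bc_tensor {S S' : Scheme.{u}} (f : S' ⟶ S) {A B : Over S} {X : Over S'} (x y : X ⟶ Red.bc f (A ⊗ B))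
    (h1 : x ≫ (Over.pullback f).map (fst A B) = y ≫ (Over.pullback f).map (fst A B))
    (h2 : x ≫ (Over.pullback f).map (snd A B) = y ≫ (Over.pullback f).map (snd A B)) : x = y := by
  apply (BcPts.bcEquiv f X (A ⊗ B)).symm.injective
  ext1
  · rw [← BcPts.bcEquiv_symm_comp, ← BcPts.bcEquiv_symm_comp, h1]
  · rw [← BcPts.bcEquiv_symm_comp, ← BcPts.bcEquiv_symm_comp, h2]

section field

variable {k : Type u} [Field k]

/-- The product of two semi-abelian varieties is semi-abelian. -/
theorem semiAb_tensor {G H : Over (Spec (CommRingCat.of k))} [GrpObj G] [GrpObj H] [QuasiCompact G.hom]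
    [QuasiCompact H.hom] (hG : SemiAb G) (hH : SemiAb H) : SemiAb (G ⊗ H) := by
  have := smooth hG
  have := smooth hH
  have := connectedSpace hG
  have := connectedSpace hH
  have := Comm.isCommMonObj hG
  have := Comm.isCommMonObj hH
  have i1 := connectedSpace_tensor G H
  have i2 : Smooth (G ⊗ H).hom := inferInstanceAs (Smooth (pullback.fst G.hom H.hom ≫ G.hom))
  have i3 : QuasiCompact (G ⊗ H).hom := inferInstanceAs (QuasiCompact (pullback.fst G.hom H.hom ≫ G.hom))
  refine semiAb_iff_ga.2 fun j _ => ?_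
  refine ext_bc_tensor (cl k) _ _ ?_ ?_
  · rw [ga_eq_one (SemiAb.bc (cl k) hG) (j ≫ (Over.pullback (cl k)).map (fst G H)), MonObj.one_comp]
  · rw [ga_eq_one (SemiAb.bc (cl k) hH) (j ≫ (Over.pullback (cl k)).map (snd G H)), MonObj.one_comp]

/-- The target of a faithfully flat homomorphism from a commutative group is commutative. -/
theorem isCommMonObj_of_cov {G H : Over (Spec (CommRingCat.of k))} [GrpObj G] [GrpObj H] [IsCommMonObj G]
    [QuasiCompact G.hom] [LocallyOfFiniteType H.hom]
    (q : G ⟶ H) [IsMonHom q] [Flat q.left] [Surjective q.left] : IsCommMonObj H := by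
  have h1 : Epi (q ⊗ₘ q) := by
    have hc := K395.CovKit.cov_of q
    have h2 : Sga3.H739.Fpqc.Cov (q ⊗ₘ q) := by
      rw [MonoidalCategory.tensorHom_def]
      exact (hc.whiskerRight G).comp (hc.whiskerLeft H)
    have := h2.flat
    have := h2.surj
    exact Sga3C.QuotProps.epi_of_flat_surjective _
  refine ⟨?_⟩
  rw [← cancel_epi (q ⊗ₘ q), BraidedCategory.braiding_naturality_assoc, ← IsMonHom.mul_hom,
    ← Category.assoc, IsCommMonObj.mul_comm]

/-- Quotients of semi-abelian varieties are semi-abelian. -/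
theorem semiAb_of_cov {G H : Over (Spec (CommRingCat.of k))} [GrpObj G] [GrpObj H] [QuasiCompact G.hom]
    [LocallyOfFiniteType H.hom] (q : G ⟶ H) [IsMonHom q] [Flat q.left] [Surjective q.left] (hG : SemiAb G) :
    SemiAb H := by
  have := smooth hG
  have := connectedSpace hG
  have := Comm.isCommMonObj hG
  have i1 := isCommMonObj_of_cov q
  have i2 : Smooth H.hom := smooth_of_quotient q
  have i3 := connected_of_surjective q
  have i4 := quasiCompact_of_surjective q
  refine semiAb_iff_noGa.2 ?_
  have j1 : QuasiCompact (Red.bc (cl k) G).hom := inferInstanceAs (QuasiCompact (pullback.snd G.hom (cl k)))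
  have j2 : LocallyOfFiniteType (Red.bc (cl k) G).hom :=
    inferInstanceAs (LocallyOfFiniteType (pullback.snd G.hom (cl k)))
  have j3 : Surjective ((Over.pullback (cl k)).map q).left :=
    MorphismProperty.of_isPullback (Parab.EtHom.isPullback_map (cl k) q) ‹Surjective q.left›
  exact Sga7.H109.Quot.noGa_of_surjective ((Over.pullback (cl k)).map q) (noGa (SemiAb.bc (cl k) hG))

/-- Images of semi-abelian varieties are semi-abelian. -/
theorem exists_image {G H : Over (Spec (CommRingCat.of k))} [GrpObj G] [GrpObj H] [QuasiCompact G.hom]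
    [LocallyOfFiniteType H.hom] [QuasiCompact H.hom] (f : G ⟶ H) [IsMonHom f] (hG : SemiAb G) :
    ∃ (C : Over (Spec (CommRingCat.of k))) (_ : GrpObj C) (p : G ⟶ C) (i : C ⟶ H), IsMonHom p ∧ IsMonHom i ∧
      p ≫ i = f ∧ Flat p.left ∧ Surjective p.left ∧ IsClosedImmersion i.left ∧ SemiAb C := by
  have := smooth hG
  have : IsSeparated H.hom := Books.AntiAffine.isSeparated_hom H
  have hq : QuasiCompact f.left := by
    have : QuasiCompact (f.left ≫ H.hom) := by rw [Over.w]; infer_instance
    exact QuasiCompact.of_comp f.left H.hom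
  obtain ⟨C, _, p, i, h1, h2, h3, h4, h5, h6, h7, h8, h9, h10⟩ :=
    Groth.Agent.AlgGrp.K411.HomKit.exists_image f
  exact ⟨C, inferInstance, p, i, h1, h2, h3, h4, h5, h7, semiAb_of_cov p hG⟩

/-- Commutative extensions of semi-abelian varieties are semi-abelian. -/
theorem semiAb_of_ext {N G Q : Over (Spec (CommRingCat.of k))} [GrpObj N] [GrpObj G] [GrpObj Q] [IsCommMonObj G]
    [QuasiCompact G.hom] [QuasiCompact N.hom] [QuasiCompact Q.hom] (i : N ⟶ G) [IsMonHom i] (q : G ⟶ Q)
    [IsMonHom q] [Flat q.left] [Surjective q.left] (hK : AlgGrp.IsKernel i q) (hN : SemiAb N) (hQ : SemiAb Q) :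
    SemiAb G := by
  have := smooth hN
  have := connectedSpace hN
  have := smooth hQ
  have := connectedSpace hQ
  have : IsSeparated Q.hom := Books.AntiAffine.isSeparated_hom Q
  obtain ⟨-, -, h1, h2⟩ := Sga3.H821.ExtConn.smooth_connected i q hK
  refine semiAb_iff_ga.2 fun j _ => ?_
  have hK' := Sga7.H760.KerBc.isKernel_bc (cl k) hK
  obtain ⟨y, hy⟩ := Sga3.H794.ChevKer.exists_lift_ker hK' j (ga_eq_one (SemiAb.bc (cl k) hQ) _)
  have hm : Mono ((Over.pullback (cl k)).map i) := K395.Pts.mono_of_isKernel hK'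
  have : IsMonHom (y ≫ (Over.pullback (cl k)).map i) := by rw [hy]; infer_instance
  have hyh : IsMonHom y := Comm.isMonHom_of_comp_mono y ((Over.pullback (cl k)).map i)
  rw [← hy, ga_eq_one (SemiAb.bc (cl k) hN) y, MonObj.one_comp]

/-- Closed smooth connected subgroups of semi-abelian varieties are semi-abelian. -/
theorem semiAb_of_closedImmersion {H G : Over (Spec (CommRingCat.of k))} [GrpObj H] [GrpObj G]
    [QuasiCompact G.hom] (i : H ⟶ G) [IsMonHom i] [IsClosedImmersion i.left] [Smooth H.hom] [ConnectedSpace H.left]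
    (hG : SemiAb G) : SemiAb H := by
  have := smooth hG
  have := Comm.isCommMonObj hG
  have hm : Mono i := Books.AlgPtsGrp.mono_of_isClosedImmersion i
  have : IsCommMonObj H := Sga7.H109.Struct.isCommMonObj_of_mono i
  have hq : QuasiCompact H.hom := by rw [← Over.w i]; infer_instance
  refine semiAb_iff_noGa.2 ?_
  have hcl : IsClosedImmersion ((Over.pullback (cl k)).map i).left :=
    MorphismProperty.of_isPullback (Parab.EtHom.isPullback_map (cl k) i) ‹IsClosedImmersion i.left›
  exact NoGa.of_closedImmersion (noGa (SemiAb.bc (cl k) hG)) ((Over.pullback (cl k)).map i)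

end field

end K402.Prod
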