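import Groth.Agent.AlgGrp.K402.Tori
import Groth.Agent.Sga3.H821.AffProper
import Groth.Agent.Sga3.H821.ExtConn
import Groth.Agent.Sga3.H821.ChevDesc
import Groth.Agent.Sga3.H794.ChevKer
import Groth.Agent.Sga7.H760.KerBc
import Groth.Agent.Sga3B.Parab.EtHom

/-!
# Semi-abelian varieties over a field
-/

set_option autoImplicit false
universe u
open CategoryTheory MonoidalCategory CartesianMonoidalCategory MonObj GrpObj AlgebraicGeometry Limits

namespace K402.SemiAb

set_option linter.dupNamespace false

open Groth.Agent Groth.Agent.Sga3B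

/-- `G` is an extension of a proper smooth connected group by a torus (word for word the clause of the
statements). -/
def SemiAb {S : Scheme.{u}} (G : Over S) [GrpObj G] : Prop :=
  ∃ (T : Over S) (_ : GrpObj T) (i : T ⟶ G) (A : Over S) (_ : GrpObj A) (q : G ⟶ A),
    IsMonHom i ∧ IsClosedImmersion i.left ∧ Red.IsTorus T ∧ IsMonHom q ∧ Surjective q.left ∧ Flat q.left ∧
    AlgGrp.IsKernel i q ∧ IsProper A.hom ∧ Smooth A.hom ∧ ConnectedSpace ↥A.left

section field

variable {k : Type u} [Field k] {G : Over (Spec (CommRingCat.of k))} [GrpObj G]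

theorem smooth_connected (h : SemiAb G) [QuasiCompact G.hom] : Smooth G.hom ∧ ConnectedSpace G.left := by
  obtain ⟨T, _, i, A, _, q, h1, h2, h3, h4, h5, h6, h7, h8, h9, h10⟩ := h
  have := Tori.smooth h3
  have := Tori.connectedSpace h3
  exact (Sga3.H821.ExtConn.smooth_connected i q h7).2.2

theorem smooth (h : SemiAb G) [QuasiCompact G.hom] : Smooth G.hom := (smooth_connected h).1

theorem connectedSpace (h : SemiAb G) [QuasiCompact G.hom] : ConnectedSpace G.left := (smooth_connected h).2

omit [GrpObj G] in
lemma isMonHom_inv {C : Type*} [Category C] [CartesianMonoidalCategory C] {G H : C} [GrpObj G] [GrpObj H]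
    (e : G ≅ H) [IsMonHom e.hom] : IsMonHom e.inv := inferInstance

theorem of_iso {G' : Over (Spec (CommRingCat.of k))} [GrpObj G'] (e : G ≅ G') [IsMonHom e.hom]
    (h : SemiAb G) : SemiAb G' := by
  obtain ⟨T, _, i, A, _, q, h1, h2, h3, h4, h5, h6, h7, h8, h9, h10⟩ := h
  have hI : IsIso e.hom.left := inferInstanceAs (IsIso ((Over.forget _).mapIso e).hom)
  have hI' : IsIso e.inv.left := inferInstanceAs (IsIso ((Over.forget _).mapIso e).inv)
  refine ⟨T, inferInstance, i ≫ e.hom, A, inferInstance, e.inv ≫ q, inferInstance, ?_, h3, inferInstance,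
    ?_, ?_, ?_, h8, h9, h10⟩
  · rw [Over.comp_left]; infer_instance
  · rw [Over.comp_left]; infer_instance
  · rw [Over.comp_left]; infer_instance
  · exact IsPullback.of_iso h7 (Iso.refl _) e (Iso.refl _) (Iso.refl _) (by simp) (by simp) (by simp) (by simp)

theorem of_proper (G : Over (Spec (CommRingCat.of k))) [GrpObj G] [IsProper G.hom] [Smooth G.hom]
    [ConnectedSpace G.left] : SemiAb G := by
  have hK : AlgGrp.IsKernel η[G] (𝟙 G) := by
    have : toUnit (𝟙_ (Over (Spec (CommRingCat.of k)))) = 𝟙 _ := toUnit_unique _ _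
    change IsPullback _ _ _ _
    rw [this]
    exact IsPullback.of_vert_isIso ⟨by simp⟩
  refine ⟨𝟙_ _, inferInstance, η[G], G, inferInstance, 𝟙 G, inferInstance,
    Sga3.H794.ChevKer.isClosedImmersion_ker _ _ hK, Tori.isTorus_unit, inferInstance, ?_, ?_, hK, inferInstance,
    inferInstance, inferInstance⟩
  · rw [Over.id_left]; infer_instance
  · rw [Over.id_left]; infer_instance

theorem of_torus (hG : Red.IsTorus G) : SemiAb G := by
  have hs := Tori.smooth hG
  have hsurj : Surjective G.hom := TorusAlgClosed.surjective_of_grpObj G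
  have hK : AlgGrp.IsKernel (𝟙 G) (toUnit G) := by
    change IsPullback _ _ _ _
    have : (η[𝟙_ (Over (Spec (CommRingCat.of k)))]) = 𝟙 _ := toUnit_unique _ _
    rw [this]
    exact IsPullback.of_horiz_isIso ⟨by simp⟩
  have hl : (toUnit G).left = G.hom := by simp
  refine ⟨G, inferInstance, 𝟙 G, 𝟙_ _, inferInstance, toUnit G, inferInstance, ?_, hG,
    ⟨toUnit_unique _ _, toUnit_unique _ _⟩, ?_, ?_, hK, ?_, ?_, ?_⟩
  · rw [Over.id_left]; infer_instance
  · rw [hl]; exact hsurj
  · rw [hl]; infer_instance
  · exact inferInstanceAs (IsProper (𝟙 _))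
  · exact inferInstanceAs (Smooth (𝟙 _))
  · exact inferInstanceAs (ConnectedSpace (Spec (CommRingCat.of k)))

/-- Base change of semi-abelian varieties along an extension of fields. -/
theorem bc {K : Type u} [Field K] (f : Spec (CommRingCat.of K) ⟶ Spec (CommRingCat.of k)) (h : SemiAb G) :
    SemiAb (Red.bc f G) := by
  obtain ⟨T, _, i, A, _, q, h1, h2, h3, h4, h5, h6, h7, h8, h9, h10⟩ := h
  have hgc := Sga3.H821.ChevDesc.geometricallyConnected A
  refine ⟨Red.bc f T, inferInstance, (Over.pullback f).map i, Red.bc f A, inferInstance,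
    (Over.pullback f).map q, inferInstance, ?_, TorusBc.isTorus_bc f h3, inferInstance, ?_, ?_,
    Sga7.H760.KerBc.isKernel_bc f h7, ?_, ?_, ?_⟩
  · exact MorphismProperty.of_isPullback (Parab.EtHom.isPullback_map f i) h2
  · exact MorphismProperty.of_isPullback (Parab.EtHom.isPullback_map f q) h5
  · exact MorphismProperty.of_isPullback (Parab.EtHom.isPullback_map f q) h6
  · exact inferInstanceAs (IsProper (pullback.snd A.hom f))
  · exact inferInstanceAs (Smooth (pullback.snd A.hom f))
  · have : GeometricallyConnected (pullback.snd A.hom f) := inferInstance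
    exact GeometricallyConnected.connectedSpace_of_subsingleton (pullback.snd A.hom f)

end field

end K402.SemiAb
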