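import Groth.Agent.AlgGrp.K402.RedNeut
import Groth.Agent.AlgGrp.K402.Largest

/-!
# The smallest smooth connected normal subgroup with semi-abelian quotient, over a perfect field
-/

set_option autoImplicit false
universe u
open CategoryTheory MonoidalCategory CartesianMonoidalCategory MonObj GrpObj AlgebraicGeometry Limits

namespace K402.SmallSab

open Groth.Agent Groth.Agent.Sga3B SemiAb Groth.Agent.Books.AlgPts Groth.Agent.Sga3.H739.Fpqc

variable {k : Type u} [Field k]

/-- The family of smooth connected normal subgroups with semi-abelian quotient. -/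
def Fam (G : Over (Spec (CommRingCat.of k))) [GrpObj G] {H : Over (Spec (CommRingCat.of k))} [GrpObj H] (h : H ⟶ G) :
    Prop :=
  IsMonHom h ∧ IsClosedImmersion h.left ∧ AlgGrp.IsNormalHom h ∧ Smooth H.hom ∧ ConnectedSpace ↥H.left ∧
    ∃ (Q : Over (Spec (CommRingCat.of k))) (_ : GrpObj Q) (q : G ⟶ Q), IsMonHom q ∧ Surjective q.left ∧ Flat q.left ∧
      AlgGrp.IsKernel h q ∧ SemiAb Q

variable {G : Over (Spec (CommRingCat.of k))} [GrpObj G] [Smooth G.hom] [QuasiCompact G.hom] [ConnectedSpace ↥G.left]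

omit [QuasiCompact G.hom] in
theorem fam_self : Fam G (𝟙 G) := by
  refine ⟨inferInstance, inferInstanceAs (IsClosedImmersion (𝟙 _)), ?_, inferInstance, inferInstance, 𝟙_ _, inferInstance,
    toUnit G, inferInstance, ?_, ?_, ?_, SemiAb.of_torus Tori.isTorus_unit⟩
  · intro T g n
    exact ⟨g * (n ≫ 𝟙 G) * g⁻¹, (Category.comp_id _).symm⟩
  · have h1 : (toUnit G).left = G.hom := by
      have := Over.w (toUnit G)
      exact (Category.comp_id _).symm.trans this
    rw [h1]
    have h2 : Surjective ((η[G] : 𝟙_ (Over (Spec (CommRingCat.of k))) ⟶ G).left ≫ G.hom) := by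
      rw [Over.w]
      exact inferInstanceAs (Surjective (𝟙 _))
    exact Surjective.of_comp (η[G] : 𝟙_ (Over (Spec (CommRingCat.of k))) ⟶ G).left G.hom
  · have h1 : (toUnit G).left = G.hom := by
      have := Over.w (toUnit G)
      exact (Category.comp_id _).symm.trans this
    rw [h1]
    infer_instance
  · apply K395.Pts.isKernel_of_pts
    · intro T n
      exact toUnit_unique _ _
    · intro T x _
      exact ⟨x, Category.comp_id x⟩

/-- The family is directed downwards. -/
theorem exists_inter [PerfectField k] {H H' : Over (Spec (CommRingCat.of k))} [GrpObj H] [GrpObj H'] {h : H ⟶ G} {h' : H' ⟶ G}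
    (hH : Fam G h) (hH' : Fam G h') :
    ∃ (U : Over (Spec (CommRingCat.of k))) (_ : GrpObj U) (u : U ⟶ G) (a : U ⟶ H) (a' : U ⟶ H'), Fam G u ∧
      a ≫ h = u ∧ a' ≫ h' = u := by
  obtain ⟨h1, h2, h3, h4, h5, Q, _, q, h6, h7, h8, h9, h10⟩ := hH
  obtain ⟨h1', h2', h3', h4', h5', Q', _, q', h6', h7', h8', h9', h10'⟩ := hH'
  have i1 : QuasiCompact Q.hom := Quo.quasiCompact_of_surjective q
  have i2 : QuasiCompact Q'.hom := Quo.quasiCompact_of_surjective q'
  have i3 := smooth h10
  have i4 := smooth h10'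
  have hQQ := _root_.K402.Prod.semiAb_tensor h10 h10'
  have i5 : QuasiCompact (Q ⊗ Q').hom := inferInstanceAs (QuasiCompact (pullback.fst _ _ ≫ Q.hom))
  have i6 : Smooth (Q ⊗ Q').hom := K395.Dense.smooth_tensor Q Q'
  have hw : IsMonHom (lift q q') := inferInstance
  obtain ⟨C, _, p, c, hp, hc, hpc, hcov, hcl⟩ := K395.Hom.exists_image (lift q q')
  have hmc : Mono c := Books.AlgPtsGrp.mono_of_isClosedImmersion c
  have hCf : LocallyOfFiniteType C.hom := by rw [← Over.w c]; infer_instance
  have hCq : QuasiCompact C.hom := by rw [← Over.w c]; infer_instance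
  have hs1 := hcov.surj
  have hs2 := hcov.flat
  have hCs : Smooth C.hom := Quo.smooth_of_quotient p
  have hCc : ConnectedSpace C.left := Quo.connected_of_surjective p
  have hC : SemiAb C := _root_.K402.Prod.semiAb_of_closedImmersion c hQQ
  have hCsep : IsSeparated C.hom := Books.AntiAffine.isSeparated_hom C
  -- the kernel
  obtain ⟨_, hI⟩ := KerGrp.exists_grpObj p
  have hIn : AlgGrp.IsNormalHom (KerGrp.kerι p) := K395.Quo.isNormalHom_ker _ p (KerGrp.isPullback_ker p)
  have hIf : LocallyOfFiniteType (KerGrp.kerObj p).hom := by rw [← Over.w (KerGrp.kerι p)]; infer_instance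
  have hIq : QuasiCompact (KerGrp.kerObj p).hom := by rw [← Over.w (KerGrp.kerι p)]; infer_instance
  obtain ⟨U, _, u, hu1, hu2, hu3, hu4, hu5⟩ := RedNeut.exists_redNeut (KerGrp.kerObj p)
  have hUn : AlgGrp.IsNormalHom (u ≫ KerGrp.kerι p) := RedNeut.isNormalHom (KerGrp.kerι p) hIn u hu5
  have hUc : IsClosedImmersion (u ≫ KerGrp.kerι p).left := by rw [Over.comp_left]; infer_instance
  obtain ⟨R, _, r, hr1, hr2, hr3, hr4, hr5, hr6, hr7⟩ := Quo.exists_quotient (u ≫ KerGrp.kerι p) hUn
  have hRs : Smooth R.hom := hr7 inferInstance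
  have hRc : ConnectedSpace R.left := Quo.connected_of_surjective r
  obtain ⟨π, hπ1, hπ2⟩ := Quo.exists_desc (u ≫ KerGrp.kerι p) r hr4 p (by
    rw [Category.assoc, KerGrp.kerι_comp, MonObj.comp_one])
  obtain ⟨_, hE1, hE2⟩ := RedNeut.isFinite_ker (KerGrp.kerι p) u hu5 r π hr4.w (by
    rw [hπ2]; exact KerGrp.isPullback_ker p)
  have hR : SemiAb R := Isog.semiAb_of_finite_kernel π (KerGrp.kerι π) (KerGrp.isPullback_ker π) hC
  have hkill : (u ≫ KerGrp.kerι p) ≫ lift q q' = 1 := by
    rw [← hpc, Category.assoc, ← Category.assoc (KerGrp.kerι p), KerGrp.kerι_comp, MonObj.one_comp, MonObj.comp_one]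
  obtain ⟨a, ha⟩ := K395.Pts.exists_of_comp_eq_one h9 (u ≫ KerGrp.kerι p) (by
    have := congrArg (· ≫ fst Q Q') hkill
    simpa [MonObj.one_comp] using this)
  obtain ⟨a', ha'⟩ := K395.Pts.exists_of_comp_eq_one h9' (u ≫ KerGrp.kerι p) (by
    have := congrArg (· ≫ snd Q Q') hkill
    simpa [MonObj.one_comp] using this)
  exact ⟨U, inferInstance, u ≫ KerGrp.kerι p, a, a', ⟨inferInstance, hUc, hUn, hu3, hu4, R, inferInstance, r, hr1, hr2,
    hr3, hr4, hR⟩, ha, ha'⟩

theorem exists_smallest [PerfectField k] :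
    ∃ (H : Over (Spec (CommRingCat.of k))) (_ : GrpObj H) (h : H ⟶ G), Fam G h ∧
      ∀ (H' : Over (Spec (CommRingCat.of k))) [GrpObj H'] (h' : H' ⟶ G), Fam G h' → ∃ g : H ⟶ H', g ≫ h' = h := by
  have hN : IsNoetherian G.left := K401.SmallProper.isNoetherian_left G
  let S : Set (TopologicalSpace.Closeds G.left) :=
    {Z | ∃ (H : Over (Spec (CommRingCat.of k))) (_ : GrpObj H) (h : H ⟶ G), Fam G h ∧ (Z : Set G.left) = Set.range h.left}
  have hS : S.Nonempty := ⟨⊤, G, inferInstance, 𝟙 G, fam_self, by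
    have : Set.range (𝟙 G : G ⟶ G).left = Set.univ := Set.range_id
    rw [this]; rfl⟩
  have hwf : WellFoundedLT (TopologicalSpace.Closeds G.left) := inferInstance
  obtain ⟨Z, ⟨H, _, h, hH, hZ⟩, hmin⟩ := hwf.wf.has_min S hS
  refine ⟨H, inferInstance, h, hH, fun H' _ h' hH' => ?_⟩
  obtain ⟨U, _, u, a, a', hU, ha, ha'⟩ := exists_inter hH hH'
  have hUcl : IsClosedImmersion u.left := hU.2.1
  have hHcl : IsClosedImmersion h.left := hH.2.1
  have hHs : Smooth H.hom := hH.2.2.2.1
  have hHr : IsReduced H.left := Etcore.SmoothRed.isReduced_of_smooth H.hom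
  have hsub : Set.range u.left ⊆ Set.range h.left := by
    rw [← ha, Over.comp_left]
    exact Set.range_comp_subset_range a.left h.left
  have heq : Set.range u.left = Set.range h.left := by
    by_contra hne
    refine hmin ⟨Set.range u.left, u.left.isClosedEmbedding.isClosed_range⟩ ⟨U, inferInstance, u, hU, rfl⟩ ?_
    refine lt_of_le_of_ne ?_ ?_
    · intro x hx
      change x ∈ (Z : Set G.left)
      rw [hZ]
      exact hsub hx
    · intro h0
      apply hne
      have := congrArg (fun z : TopologicalSpace.Closeds G.left => (z : Set G.left)) h0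
      rw [← hZ, ← this]
      rfl
  have hacl : IsClosedImmersion a.left := by
    have h1 : IsClosedImmersion (a ≫ h).left := by rw [ha]; infer_instance
    rw [Over.comp_left] at h1
    exact IsClosedImmersion.of_comp a.left h.left
  have hasurj : Surjective a.left := by
    refine ⟨fun y => ?_⟩
    have h1 : h.left y ∈ Set.range u.left := by rw [heq]; exact ⟨y, rfl⟩
    obtain ⟨x, hx⟩ := h1
    refine ⟨x, h.left.injective ?_⟩
    rw [← hx, ← ha]
    rfl
  have hI : IsIso a.left := isIso_of_isClosedImmersion_of_surjective a.left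
  have hI' : IsIso ((Over.forget (Spec (CommRingCat.of k))).map a) := hI
  have hI'' : IsIso a := isIso_of_reflects_iso a (Over.forget _)
  refine ⟨inv a ≫ a', ?_⟩
  rw [Category.assoc, ha', ← ha, IsIso.inv_hom_id_assoc]

end K402.SmallSab
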