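import Mathlib.AlgebraicGeometry.Stalk
import Mathlib.AlgebraicGeometry.Morphisms.Separated
import Mathlib.AlgebraicGeometry.Limits
import Mathlib.AlgebraicGeometry.Noetherian

/-!
# Morphisms to the local scheme at a point

* `exists_fac_stalk`: a morphism all of whose values are `x` factors through `Spec O_{X,x}`;
* `st γ`: the endomorphism of `O_{X,x}` induced by an endomorphism `γ` of `X` with `γ x = x`;
* `eq_id_of_fromSpecStalk`: an endomorphism of an integral separated scheme inducing the identity on `O_{X,x}` is the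
  identity.
-/

set_option autoImplicit false
universe u
open CategoryTheory AlgebraicGeometry Limits

namespace K402.StkPt

variable {X : Scheme.{u}}

set_option backward.isDefEq.respectTransparency false in
/-- A morphism all of whose values are `x` factors through the local scheme at `x`. -/
theorem exists_fac_stalk {W : Scheme.{u}} (f : W ⟶ X) (x : X) (h : ∀ w, f w = x) :
    ∃ g : W ⟶ Spec (X.presheaf.stalk x), g ≫ X.fromSpecStalk x = f := by
  obtain ⟨V, hV, hx, -⟩ := exists_isAffineOpen_mem_and_subset (U := ⊤) (x := x) trivial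
  have hle : (⊤ : W.Opens) ≤ f ⁻¹ᵁ V := fun w _ => by
    change f w ∈ V
    rw [h w]
    exact hx
  let θ : Γ(X, V) ⟶ Γ(W, ⊤) := f.appLE V ⊤ hle
  let y : V := ⟨x, hx⟩
  let : Algebra Γ(X, V) (X.presheaf.stalk x) := (X.presheaf.germ V x hx).hom.toAlgebra
  have hloc : IsLocalization.AtPrime (X.presheaf.stalk x) (hV.primeIdealOf y).asIdeal :=
    hV.isLocalization_stalk y
  have hun : ∀ s : (hV.primeIdealOf y).asIdeal.primeCompl, IsUnit (θ.hom s.1) := by
    intro s
    have h1 : x ∈ X.basicOpen s.1 := by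
      rw [Scheme.mem_basicOpen _ _ _ hx]
      exact IsLocalization.map_units (M := (hV.primeIdealOf y).asIdeal.primeCompl) (X.presheaf.stalk x) s
    refine RingedSpace.isUnit_of_isUnit_germ W.toRingedSpace ⊤ (θ.hom s.1) fun w hw => ?_
    have h2 : w ∈ W.basicOpen (θ.hom s.1) := by
      change w ∈ W.basicOpen ((f.appLE V ⊤ hle).hom s.1)
      rw [Scheme.Hom.appLE, CommRingCat.hom_comp, RingHom.comp_apply, Scheme.basicOpen_res]
      refine ⟨trivial, ?_⟩
      rw [← Scheme.preimage_basicOpen]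
      change f w ∈ X.basicOpen s.1
      rw [h w]
      exact h1
    exact (Scheme.mem_basicOpen _ _ _ hw).1 h2
  let ψ : X.presheaf.stalk x →+* Γ(W, ⊤) := IsLocalization.lift hun
  have hψ : X.presheaf.germ V x hx ≫ CommRingCat.ofHom ψ = θ := by
    apply CommRingCat.hom_ext
    rw [CommRingCat.hom_comp, CommRingCat.hom_ofHom]
    exact IsLocalization.lift_comp hun
  have e1 : (⊤ : W.Opens).toSpecΓ ≫ Spec.map θ = f.resLE V ⊤ hle ≫ V.toSpecΓ :=
    Scheme.Opens.toSpecΓ_SpecMap_appLE f V ⊤ hle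
  refine ⟨W.topIso.inv ≫ (⊤ : W.Opens).toSpecΓ ≫ Spec.map (CommRingCat.ofHom ψ), ?_⟩
  rw [← hV.fromSpecStalk_eq_fromSpecStalk hx, IsAffineOpen.fromSpecStalk]
  simp only [Category.assoc]
  rw [← Spec.map_comp_assoc, hψ, reassoc_of% e1, hV.toSpecΓ_fromSpec, Scheme.Hom.resLE_comp_ι,
    ← Scheme.topIso_hom, Iso.inv_hom_id_assoc]

/-- Ring homomorphisms from the local ring are determined by the morphisms to `X`. -/
theorem ring_ext {x : X} {B : CommRingCat.{u}} {φ ψ : X.presheaf.stalk x ⟶ B}
    (h : Spec.map φ ≫ X.fromSpecStalk x = Spec.map ψ ≫ X.fromSpecStalk x) : φ = ψ :=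
  Spec.map_injective ((cancel_mono _).1 h)

theorem exists_ring {B : CommRingCat.{u}} (x : X) (f : Spec B ⟶ X) (h : ∀ w, f w = x) :
    ∃ φ : X.presheaf.stalk x ⟶ B, Spec.map φ ≫ X.fromSpecStalk x = f := by
  obtain ⟨g, hg⟩ := exists_fac_stalk f x h
  exact ⟨Spec.preimage g, by rw [Spec.map_preimage, hg]⟩

theorem exists_st {x y : X} (γ : X ⟶ X) (h : γ x = y) :
    ∃ φ : X.presheaf.stalk y ⟶ X.presheaf.stalk x, Spec.map φ ≫ X.fromSpecStalk y = X.fromSpecStalk x ≫ γ := by
  subst h
  exact ⟨γ.stalkMap x, Scheme.SpecMap_stalkMap_fromSpecStalk γ⟩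

/-- The endomorphism of the local ring induced by an endomorphism of `X` fixing `x`. -/
noncomputable def st (x : X) (γ : X ⟶ X) (h : γ x = x) : X.presheaf.stalk x ⟶ X.presheaf.stalk x :=
  (exists_st γ h).choose

@[reassoc]
theorem st_fac (x : X) (γ : X ⟶ X) (h : γ x = x) :
    Spec.map (st x γ h) ≫ X.fromSpecStalk x = X.fromSpecStalk x ≫ γ := (exists_st γ h).choose_spec

theorem st_comp (x : X) (γ γ' : X ⟶ X) (h : γ x = x) (h' : γ' x = x) (h'' : (γ ≫ γ') x = x) :
    st x (γ ≫ γ') h'' = st x γ' h' ≫ st x γ h := by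
  apply ring_ext
  rw [st_fac, Spec.map_comp, Category.assoc, st_fac, st_fac_assoc]

theorem st_id (x : X) (h : (𝟙 X : X ⟶ X) x = x) : st x (𝟙 X) h = 𝟙 _ := by
  apply ring_ext
  rw [st_fac, Category.comp_id, Spec.map_id, Category.id_comp]

theorem st_congr (x : X) {γ γ' : X ⟶ X} (e : γ = γ') (h : γ x = x) (h' : γ' x = x) : st x γ h = st x γ' h' := by
  subst e
  rfl

instance isDominant_fromSpecStalk [IrreducibleSpace X] (x : X) : IsDominant (X.fromSpecStalk x) := by
  refine ⟨?_⟩
  rw [DenseRange, Scheme.range_fromSpecStalk, dense_iff_closure_eq]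
  have h1 : genericPoint X ∈ {y | y ⤳ x} := genericPoint_specializes x
  refine Set.eq_univ_of_univ_subset ?_
  rw [← genericPoint_closure (α := X)]
  exact closure_mono (Set.singleton_subset_iff.2 h1)

/-- An endomorphism inducing the identity on one local ring is the identity. -/
theorem eq_id_of_fromSpecStalk [IrreducibleSpace X] [IsReduced X] {S : Scheme.{u}} (s : X ⟶ S) [IsSeparated s]
    (x : X) (γ : X ⟶ X) (hs : γ ≫ s = s) (h : X.fromSpecStalk x ≫ γ = X.fromSpecStalk x) : γ = 𝟙 X :=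
  ext_of_isDominant_of_isSeparated s (by rw [hs, Category.id_comp]) (X.fromSpecStalk x) (by rw [h, Category.comp_id])

end K402.StkPt
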