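import Groth.Agent.Sga3B.TorusBc
import Groth.Agent.Sga3B.TorusIrr
import Groth.Agent.Sga3B.DSPts
import Groth.Agent.Sga3B.RG.BrTorus
import Groth.Agent.Sga3C.SubGrp

/-!
# Elementary facts on tori over a field
-/

set_option autoImplicit false
universe u
open CategoryTheory MonoidalCategory CartesianMonoidalCategory MonObj GrpObj AlgebraicGeometry Limits

namespace K402.Tori

open Groth.Agent Groth.Agent.Sga3B

section base

variable {S : Scheme.{u}}

/-- Two points of `D(0)` agree. -/
lemma ds_ext_zero {M : Type} [AddCommGroup M] [Subsingleton M] {X : Over S} (x y : X ⟶ Red.DS S M) : x = y := by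
  rw [← DSPts.dsEquiv_dsChar x, ← DSPts.dsEquiv_dsChar y]
  congr 1
  refine MonoidHom.ext fun m => ?_
  have : m = 1 := Subsingleton.elim (α := M) _ _
  rw [this, map_one, map_one]

/-- An isomorphism of group schemes from a homomorphism which is an isomorphism. -/
noncomputable def grpIso {C : Type*} [Category C] [CartesianMonoidalCategory C] {G H : C} [GrpObj G]
    [GrpObj H] (e : G ≅ H) [IsMonHom e.hom] : Grp.mk G ≅ Grp.mk H :=
  have : IsMonHom e.inv := by infer_instance
  { hom := ⟨⟨e.hom⟩⟩
    inv := ⟨⟨e.inv⟩⟩ }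

/-- The trivial group is a torus. -/
theorem isTorus_unit : Red.IsTorus (𝟙_ (Over S)) := by
  refine RG.BrTorus.isTorus_of_isSplitTorusWith (r := 0) ?_
  let e : Red.DS S (Fin 0 → ℤ) ≅ 𝟙_ (Over S) :=
    ⟨toUnit _, η[Red.DS S (Fin 0 → ℤ)], ds_ext_zero _ _, toUnit_unique _ _⟩
  have : IsMonHom e.hom := ⟨toUnit_unique _ _, toUnit_unique _ _⟩
  exact ⟨(grpIso e).symm⟩

end base

section field

variable {k : Type u} [Field k] {T : Over (Spec (CommRingCat.of k))} [GrpObj T]

lemma isAffine (h : Red.IsTorus T) : IsAffine T.left := by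
  have := TorusAlgClosed.isAffineHom_of_isTorus h
  exact isAffine_of_isAffineHom T.hom

lemma smooth (h : Red.IsTorus T) : Smooth T.hom := TorusAlgClosed.smooth_of_isTorus h

lemma quasiCompact (h : Red.IsTorus T) : QuasiCompact T.hom := by
  have := TorusAlgClosed.isAffineHom_of_isTorus h
  infer_instance

lemma irreducibleSpace (h : Red.IsTorus T) : IrreducibleSpace T.left := by
  have := TorusIrr.geometricallyIrreducible_of_isTorus h
  exact GeometricallyIrreducible.irreducibleSpace_of_subsingleton T.hom

lemma connectedSpace (h : Red.IsTorus T) : ConnectedSpace T.left := by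
  have := irreducibleSpace h
  infer_instance

end field

end K402.Tori
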