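import Mathlib.LinearAlgebra.LinearIndependent.Lemmas
import Mathlib.LinearAlgebra.FiniteDimensional.Basic
import Mathlib.RingTheory.Ideal.Quotient.Operations
import Mathlib.RingTheory.Finiteness.Basic
import Mathlib.FieldTheory.IsAlgClosed.Basic
import Mathlib.RingTheory.Noetherian.Basic

/-!
# Weights of a group on the cotangent space of an augmented algebra

`Γ` a monoid acting by algebra endomorphisms `ρ t` on an augmented algebra `ε : A → k`, with augmentation ideal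
`I = ker ε`; everything is read modulo the powers of `I`.

* `Wts`: the characters `χ : Γ →* k` on `I / I ^ 2`; `finite_wts`: finite if `I` is finitely generated;
* `eq_of_wts`: if every `A / I ^ n` is the sum of its eigenspaces and `⋂ I ^ n = 0`, an element of `Γ` killed by all the
  weights acts trivially;
* `finite_tau`: finitely many `τ : Γ →* Γ` are induced by automorphisms of `A`, if `Γ` acts faithfully.
-/

set_option autoImplicit false

namespace K402.WtAlg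

variable {k A Γ : Type*} [Field k] [CommRing A] [Algebra k A] [Monoid Γ] (ε : A →ₐ[k] k) (ρ : Γ → (A →ₐ[k] A))

/-- The augmentation ideal. -/
abbrev aug : Ideal A := RingHom.ker ε

/-- The weights on the cotangent space. -/
def Wts : Set (Γ →* k) := {χ | ∃ a ∈ aug ε, a ∉ aug ε ^ 2 ∧ ∀ t, ρ t a - χ t • a ∈ aug ε ^ 2}

theorem finiteDimensional_quot (hI : (aug ε).FG) : Module.Finite k (A ⧸ (aug ε ^ 2)) := by
  obtain ⟨S, hS⟩ := hI
  classical
  refine ⟨⟨(insert 1 S).image (Ideal.Quotient.mk (aug ε ^ 2)), ?_⟩⟩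
  rw [eq_top_iff]
  rintro x -
  obtain ⟨a, rfl⟩ := Ideal.Quotient.mk_surjective x
  have h1 : ∀ b : A, b - algebraMap k A (ε b) ∈ aug ε := fun b => by
    rw [RingHom.mem_ker]
    simp
  have hin : ∀ s ∈ insert 1 S, Ideal.Quotient.mk (aug ε ^ 2) s ∈
      Submodule.span k (((insert 1 S).image (Ideal.Quotient.mk (aug ε ^ 2)) : Finset _) : Set (A ⧸ (aug ε ^ 2))) :=
    fun s hs => Submodule.subset_span (Finset.mem_coe.2 (Finset.mem_image_of_mem _ hs))
  have h2 : ∀ b ∈ aug ε, Ideal.Quotient.mk (aug ε ^ 2) b ∈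
      Submodule.span k (((insert 1 S).image (Ideal.Quotient.mk (aug ε ^ 2)) : Finset _) : Set (A ⧸ (aug ε ^ 2))) := by
    intro b hb
    rw [← hS] at hb
    induction hb using Submodule.span_induction with
    | mem x hx => exact hin x (Finset.mem_insert_of_mem hx)
    | zero => rw [map_zero]; exact Submodule.zero_mem _
    | add x y _ _ hx hy => rw [map_add]; exact Submodule.add_mem _ hx hy
    | smul c x hx hx' =>
      have h3 : Ideal.Quotient.mk (aug ε ^ 2) (c • x) = (ε c) • Ideal.Quotient.mk (aug ε ^ 2) x := by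
        have h4 : Ideal.Quotient.mk (aug ε ^ 2) ((c - algebraMap k A (ε c)) * x) = 0 := by
          rw [Ideal.Quotient.eq_zero_iff_mem, pow_two]
          refine Ideal.mul_mem_mul (h1 c) ?_
          rw [← hS]
          exact hx
        rw [sub_mul, map_sub, sub_eq_zero] at h4
        rw [smul_eq_mul, h4, ← Algebra.smul_def]
        rfl
      rw [h3]
      exact Submodule.smul_mem _ _ hx'
  have h5 : Ideal.Quotient.mk (aug ε ^ 2) a = (ε a) • Ideal.Quotient.mk (aug ε ^ 2) 1 +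
      Ideal.Quotient.mk (aug ε ^ 2) (a - algebraMap k A (ε a)) := by
    have h6 : (ε a) • Ideal.Quotient.mk (aug ε ^ 2) 1 = Ideal.Quotient.mk (aug ε ^ 2) ((ε a) • (1 : A)) := rfl
    rw [h6, ← map_add, Algebra.smul_def, mul_one]
    congr 1
    ring
  rw [h5]
  exact Submodule.add_mem _ (Submodule.smul_mem _ _ (hin 1 (Finset.mem_insert_self _ _))) (h2 _ (h1 a))

variable {ε ρ}

omit [Monoid Γ] in
theorem map_mem_pow (hε : ∀ t a, ε (ρ t a) = ε a) (t : Γ) (n : ℕ) {a : A} (ha : a ∈ aug ε ^ n) :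
    ρ t a ∈ aug ε ^ n := by
  have h1 : (aug ε).map (ρ t) ≤ aug ε := by
    rw [Ideal.map_le_iff_le_comap]
    intro b hb
    rw [Ideal.mem_comap, RingHom.mem_ker]
    exact (hε t b).trans hb
  have h2 : (aug ε ^ n).map (ρ t) ≤ aug ε ^ n := by
    rw [Ideal.map_pow]
    exact Ideal.pow_right_mono h1 n
  exact h2 (Ideal.mem_map_of_mem _ ha)

theorem smul_mem_pow (n : ℕ) (c : k) {a : A} (ha : a ∈ aug ε ^ n) : c • a ∈ aug ε ^ n := by
  rw [Algebra.smul_def]
  exact Ideal.mul_mem_left _ _ ha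

open scoped Classical in
/-- Separating a character from the others. -/
theorem exists_coeff (E : Finset (Γ →* k)) (χ : Γ →* k) (hχ : χ ∈ E) :
    ∃ c : Γ →₀ k, ∀ ψ ∈ E, (c.sum fun t a => a * ψ t) = if ψ = χ then 1 else 0 := by
  classical
  have h1 : LinearIndependent k (fun ψ : E => (ψ.1 : Γ → k)) :=
    (linearIndependent_monoidHom Γ k).comp (fun ψ : E => ψ.1) Subtype.val_injective
  by_contra! hcon
  have h2 : ∀ c : Γ →₀ k, (∀ ψ ∈ E, ψ ≠ χ → (c.sum fun t a => a * ψ t) = 0) → (c.sum fun t a => a * χ t) = 0 := by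
    intro c hc
    by_contra h0
    obtain ⟨ψ, hψ, hne⟩ := hcon ((c.sum fun t a => a * χ t)⁻¹ • c)
    apply hne
    have h3 : (((c.sum fun t a => a * χ t)⁻¹ • c).sum fun t a => a * ψ t) =
        (c.sum fun t a => a * χ t)⁻¹ * (c.sum fun t a => a * ψ t) := by
      rw [Finsupp.sum_smul_index (fun i => zero_mul _), Finsupp.mul_sum]
      exact Finsupp.sum_congr fun t _ => mul_assoc _ _ _
    rw [h3]
    split_ifs with h4
    · rw [h4, inv_mul_cancel₀ h0]
    · rw [hc ψ hψ h4, mul_zero]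
  let L : (Γ →* k) → ((Γ →₀ k) →ₗ[k] k) := fun ψ => Finsupp.linearCombination k (ψ : Γ → k)
  have hL : ∀ (ψ : Γ →* k) (c : Γ →₀ k), L ψ c = c.sum fun t a => a * ψ t := fun ψ c => rfl
  have h3 : (⨅ ψ : {ψ : E // ψ.1 ≠ χ}, LinearMap.ker (L ψ.1.1)) ≤ LinearMap.ker (L χ) := by
    intro c hc
    rw [Submodule.mem_iInf] at hc
    rw [LinearMap.mem_ker, hL]
    refine h2 c fun ψ hψ hne => ?_
    exact (hL ψ c).symm.trans (LinearMap.mem_ker.1 (hc ⟨⟨ψ, hψ⟩, hne⟩))
  have h4 := mem_span_of_iInf_ker_le_ker h3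
  have h5 : (χ : Γ → k) ∈ Submodule.span k (Set.range fun ψ : {ψ : E // ψ.1 ≠ χ} => (ψ.1.1 : Γ → k)) := by
    let ev : ((Γ →₀ k) →ₗ[k] k) →ₗ[k] (Γ → k) :=
      { toFun := fun l t => l (Finsupp.single t 1)
        map_add' := fun _ _ => rfl
        map_smul' := fun _ _ => rfl }
    have hev : ∀ ψ : Γ →* k, ev (L ψ) = (ψ : Γ → k) := fun ψ => by
      funext t
      change Finsupp.linearCombination k (ψ : Γ → k) (Finsupp.single t 1) = ψ t
      rw [Finsupp.linearCombination_single, one_smul]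
    have h6 := Submodule.mem_map_of_mem (f := ev) h4
    rw [Submodule.map_span, ← Set.range_comp, hev] at h6
    have h7 : (ev ∘ fun ψ : {ψ : E // ψ.1 ≠ χ} => L ψ.1.1) = fun ψ : {ψ : E // ψ.1 ≠ χ} => (ψ.1.1 : Γ → k) := by
      funext ψ
      exact hev _
    rwa [h7] at h6
  have h6 := h1.notMem_span_image (s := {ψ : E | ψ.1 ≠ χ}) (x := ⟨χ, hχ⟩) (fun h => h rfl)
  apply h6
  have h7 : (fun ψ : E => (ψ.1 : Γ → k)) '' {ψ : E | ψ.1 ≠ χ} =
      Set.range fun ψ : {ψ : E // ψ.1 ≠ χ} => (ψ.1.1 : Γ → k) := by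
    ext f
    constructor
    · rintro ⟨ψ, hψ, rfl⟩
      exact ⟨⟨ψ, hψ⟩, rfl⟩
    · rintro ⟨ψ, rfl⟩
      exact ⟨ψ.1, ψ.2, rfl⟩
  rw [h7]
  exact h5

/-- Extraction of a component in a `k`-module. -/
theorem exists_extract {V : Type*} [AddCommGroup V] [Module k V] (E : Finset (Γ →* k)) (χ : Γ →* k) (hχ : χ ∈ E) :
    ∃ c : Γ →₀ k, ∀ (w : (Γ →* k) → V) (t : Γ), (c.sum fun t' x => x • ∑ ψ ∈ E, ψ (t' * t) • w ψ) = χ t • w χ := by
  classical
  obtain ⟨c, hc⟩ := exists_coeff E χ hχ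
  refine ⟨c, fun w t => ?_⟩
  simp only [Finset.smul_sum, Finsupp.sum]
  rw [Finset.sum_comm, Finset.sum_eq_single χ]
  · have h6 := hc χ hχ
    rw [if_pos rfl, Finsupp.sum] at h6
    conv_rhs => rw [← one_smul k (χ t • w χ), ← h6, Finset.sum_smul]
    refine Finset.sum_congr rfl fun t' _ => ?_
    rw [map_mul, smul_smul, smul_smul, mul_assoc]
  · intro ψ hψ hne
    have h6 := hc ψ hψ
    rw [if_neg hne, Finsupp.sum] at h6
    have h7 : ∑ t' ∈ c.support, c t' • ψ (t' * t) • w ψ = (∑ t' ∈ c.support, c t' * ψ t') • ψ t • w ψ := by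
      rw [Finset.sum_smul]
      exact Finset.sum_congr rfl fun t' _ => by rw [map_mul, smul_smul, smul_smul, mul_assoc]
    rw [h7, h6, zero_smul]
  · exact fun h => absurd hχ h

/-- Finitely many weights. -/
theorem finite_wts (hε : ∀ t a, ε (ρ t a) = ε a) (hI : (aug ε).FG) : (Wts ε ρ).Finite := by
  classical
  have := finiteDimensional_quot ε hI
  choose a ha ha2 hat using fun χ : Wts ε ρ => χ.2
  have h1 : LinearIndependent k (fun χ : Wts ε ρ => Ideal.Quotient.mk (aug ε ^ 2) (a χ)) := by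
    rw [linearIndependent_iff']
    intro E g hg χ hχ
    have h2 : ∑ ψ ∈ E, g ψ • a ψ ∈ aug ε ^ 2 := by
      rw [← Ideal.Quotient.eq_zero_iff_mem, ← hg, map_sum]
      rfl
    obtain ⟨c, hc⟩ := exists_extract (V := A) (E.image fun ψ => ψ.1) χ.1 (Finset.mem_image_of_mem _ hχ)
    have h3 : g χ • a χ ∈ aug ε ^ 2 := by
      -- extend the family by zero
      let w : (Γ →* k) → A := fun ψ => if h : ψ ∈ Wts ε ρ then g ⟨ψ, h⟩ • a ⟨ψ, h⟩ else 0
      have hw : ∀ ψ : Wts ε ρ, w ψ.1 = g ψ • a ψ := fun ψ => dif_pos ψ.2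
      have h4 := hc w 1
      rw [map_one, one_smul, hw] at h4
      rw [← h4]
      refine Submodule.sum_mem _ fun t' _ => smul_mem_pow 2 _ ?_
      rw [mul_one, Finset.sum_image fun _ _ _ _ h => Subtype.ext h]
      have h5 : ρ t' (∑ ψ ∈ E, g ψ • a ψ) - ∑ ψ ∈ E, ψ.1 t' • w ψ.1 ∈ aug ε ^ 2 := by
        rw [map_sum, ← Finset.sum_sub_distrib]
        refine Submodule.sum_mem _ fun ψ _ => ?_
        rw [hw, map_smul, smul_comm, ← smul_sub]
        exact smul_mem_pow 2 _ (hat ψ t')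
      have h6 := Submodule.sub_mem _ (map_mem_pow hε t' 2 h2) h5
      rwa [sub_sub_cancel] at h6
    by_contra h0
    apply ha2 χ
    have h5 := smul_mem_pow 2 (g χ)⁻¹ h3
    rwa [smul_smul, inv_mul_cancel₀ h0, one_smul] at h5
  have := h1.finite_of_isNoetherian
  exact Set.toFinite _

/-- Modulo the powers of the augmentation ideal every element is a sum of eigenvectors. -/
def IsDec (ε : A →ₐ[k] k) (ρ : Γ → (A →ₐ[k] A)) : Prop :=
  ∀ (n : ℕ) (a : A), ∃ (E : Finset (Γ →* k)) (w : (Γ →* k) → A),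
    (∀ χ ∈ E, ∀ t, ρ t (w χ) - χ t • w χ ∈ aug ε ^ n) ∧ a - ∑ χ ∈ E, w χ ∈ aug ε ^ n ∧
      ∀ m ≤ n, a ∈ aug ε ^ m → ∀ χ ∈ E, w χ ∈ aug ε ^ m

/-- A decomposition of the orbits gives a decomposition into eigenvectors. -/
theorem isDec_of (hε : ∀ t a, ε (ρ t a) = ε a) (hmul : ∀ t t' a, ρ t (ρ t' a) = ρ (t' * t) a) (h1 : ∀ a, ρ 1 a = a)
    (h : ∀ (n : ℕ) (a : A), ∃ (E : Finset (Γ →* k)) (w : (Γ →* k) → (A ⧸ aug ε ^ n)),
      ∀ t, Ideal.Quotient.mk (aug ε ^ n) (ρ t a) = ∑ χ ∈ E, χ t • w χ) : IsDec ε ρ := by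
  classical
  intro n a
  obtain ⟨E, w, hw⟩ := h n a
  have hc : ∀ χ ∈ E, ∃ c : Γ →₀ k, ∀ t, (c.sum fun t' x => x • Ideal.Quotient.mk (aug ε ^ n) (ρ (t' * t) a)) =
      χ t • w χ := fun χ hχ => by
    obtain ⟨c, hc⟩ := exists_extract (V := A ⧸ aug ε ^ n) E χ hχ
    refine ⟨c, fun t => ?_⟩
    rw [← hc w t]
    exact Finsupp.sum_congr fun t' _ => by rw [hw]
  choose! c hc using hc
  let b : (Γ →* k) → A := fun χ => (c χ).sum fun t' x => x • ρ t' a
  have hb : ∀ χ, ∀ t, Ideal.Quotient.mk (aug ε ^ n) (ρ t (b χ)) =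
      (c χ).sum fun t' x => x • Ideal.Quotient.mk (aug ε ^ n) (ρ (t' * t) a) := fun χ t => by
    change Ideal.Quotient.mk (aug ε ^ n) (ρ t (Finsupp.sum _ _)) = _
    rw [Finsupp.sum, map_sum, map_sum, Finsupp.sum]
    refine Finset.sum_congr rfl fun t' _ => ?_
    rw [map_smul, hmul]
    rfl
  have hb1 : ∀ χ ∈ E, Ideal.Quotient.mk (aug ε ^ n) (b χ) = w χ := fun χ hχ => by
    have := hb χ 1
    rwa [hc χ hχ, map_one, one_smul, h1] at this
  refine ⟨E, b, fun χ hχ t => ?_, ?_, fun m _ hm χ _ => ?_⟩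
  · rw [← Ideal.Quotient.eq_zero_iff_mem, map_sub, hb, hc χ hχ, sub_eq_zero, ← hb1 χ hχ]
    rfl
  · rw [← Ideal.Quotient.eq_zero_iff_mem, map_sub, sub_eq_zero, ← h1 a, hw 1, map_sum]
    refine Finset.sum_congr rfl fun χ hχ => ?_
    rw [hb1 χ hχ, map_one, one_smul]
  · exact Submodule.sum_mem _ fun t _ => smul_mem_pow m _ (map_mem_pow hε t m hm)

theorem sub_mem_one (hε : ∀ t a, ε (ρ t a) = ε a) (hd : IsDec ε ρ) (t : Γ) (ht : ∀ χ ∈ Wts ε ρ, χ t = 1) {a : A}
    (ha : a ∈ aug ε) : ρ t a - a ∈ aug ε ^ 2 := by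
  obtain ⟨E, w, hw, haw, hmem⟩ := hd 2 a
  have h1 : ρ t a - a = ρ t (a - ∑ χ ∈ E, w χ) - (a - ∑ χ ∈ E, w χ) +
      ∑ χ ∈ E, ((ρ t (w χ) - χ t • w χ) + (χ t - 1) • w χ) := by
    have h2 : ∀ χ ∈ E, ((ρ t (w χ) - χ t • w χ) + (χ t - 1) • w χ) = ρ t (w χ) - w χ := fun χ _ => by
      rw [sub_smul, one_smul]
      abel
    rw [Finset.sum_congr rfl h2, Finset.sum_sub_distrib, map_sub, map_sum]
    abel
  rw [h1]
  refine Submodule.add_mem _ (Submodule.sub_mem _ (map_mem_pow hε t 2 haw) haw) ?_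
  refine Submodule.sum_mem _ fun χ hχ => Submodule.add_mem _ (hw χ hχ t) ?_
  by_cases h2 : w χ ∈ aug ε ^ 2
  · exact smul_mem_pow 2 _ h2
  · have h3 : w χ ∈ aug ε := by
      have := hmem 1 one_le_two (by rwa [pow_one]) χ hχ
      rwa [pow_one] at this
    have h4 : χ ∈ Wts ε ρ := ⟨w χ, h3, h2, hw χ hχ⟩
    rw [ht χ h4, sub_self, zero_smul]
    exact Ideal.zero_mem _

theorem sub_mem (hε : ∀ t a, ε (ρ t a) = ε a) (hd : IsDec ε ρ) (t : Γ) (ht : ∀ χ ∈ Wts ε ρ, χ t = 1) (n : ℕ) {a : A}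
    (ha : a ∈ aug ε ^ n) : ρ t a - a ∈ aug ε ^ (n + 1) := by
  induction n generalizing a with
  | zero =>
    rw [zero_add, pow_one, RingHom.mem_ker]
    change ε (ρ t a - a) = 0
    rw [map_sub, hε, sub_self]
  | succ n ih =>
    rw [pow_succ] at ha
    induction ha using Submodule.mul_induction_on' with
    | mem_mul_mem b hb c hc =>
      have h1 : ρ t (b * c) - b * c = (ρ t b - b) * ρ t c + b * (ρ t c - c) := by
        rw [map_mul]
        ring
      rw [h1]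
      refine Ideal.add_mem _ ?_ ?_
      · rw [pow_succ]
        refine Ideal.mul_mem_mul (ih hb) ?_
        rw [RingHom.mem_ker]
        exact (hε t c).trans hc
      · have h2 : aug ε ^ (n + 1 + 1) = aug ε ^ n * aug ε ^ 2 := by rw [← pow_add]
        rw [h2]
        exact Ideal.mul_mem_mul hb (sub_mem_one hε hd t ht hc)
    | add x _ y _ hx hy =>
      have h1 : ρ t (x + y) - (x + y) = (ρ t x - x) + (ρ t y - y) := by
        rw [map_add]
        ring
      rw [h1]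
      exact Ideal.add_mem _ hx hy

/-- An element on which all the weights are trivial acts trivially. -/
theorem eq_of_wts (hε : ∀ t a, ε (ρ t a) = ε a) (hd : IsDec ε ρ) (hK : ∀ a : A, (∀ n, a ∈ aug ε ^ n) → a = 0) (t : Γ)
    (ht : ∀ χ ∈ Wts ε ρ, χ t = 1) (a : A) : ρ t a = a := by
  rw [← sub_eq_zero]
  refine hK _ fun n => ?_
  obtain ⟨E, w, hw, haw, -⟩ := hd n a
  have h1 : ρ t a - a = ρ t (a - ∑ χ ∈ E, w χ) - (a - ∑ χ ∈ E, w χ) +
      ∑ χ ∈ E, ((ρ t (w χ) - χ t • w χ) + (χ t - 1) • w χ) := by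
    have h2 : ∀ χ ∈ E, ((ρ t (w χ) - χ t • w χ) + (χ t - 1) • w χ) = ρ t (w χ) - w χ := fun χ _ => by
      rw [sub_smul, one_smul]
      abel
    rw [Finset.sum_congr rfl h2, Finset.sum_sub_distrib, map_sub, map_sum]
    abel
  rw [h1]
  refine Submodule.add_mem _ (Submodule.sub_mem _ (map_mem_pow hε t n haw) haw) ?_
  refine Submodule.sum_mem _ fun χ hχ => Submodule.add_mem _ (hw χ hχ t) ?_
  by_cases h0 : χ t = 1
  · rw [h0, sub_self, zero_smul]
    exact Ideal.zero_mem _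
  · have h2 : ∀ j ≤ n, w χ ∈ aug ε ^ j := by
      intro j
      induction j with
      | zero => intro _; rw [pow_zero, Ideal.one_eq_top]; trivial
      | succ j ih =>
        intro hj
        have h3 := sub_mem hε hd t ht j (ih (Nat.le_of_succ_le hj))
        have h4 : (χ t - 1) • w χ = (ρ t (w χ) - w χ) - (ρ t (w χ) - χ t • w χ) := by
          rw [sub_smul, one_smul]
          abel
        have h5 : (χ t - 1) • w χ ∈ aug ε ^ (j + 1) := by
          rw [h4]
          exact Submodule.sub_mem _ h3 (Ideal.pow_le_pow_right hj (hw χ hχ t))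
        have h6 := smul_mem_pow (j + 1) (χ t - 1)⁻¹ h5
        rwa [smul_smul, inv_mul_cancel₀ (sub_ne_zero.2 h0), one_smul] at h6
    exact smul_mem_pow n _ (h2 n le_rfl)

/-- Finitely many endomorphisms of the acting group are induced by automorphisms of the augmented algebra. -/
theorem finite_tau {Γ : Type*} [Group Γ] {ρ : Γ → (A →ₐ[k] A)} (hε : ∀ t a, ε (ρ t a) = ε a) (hd : IsDec ε ρ)
    (hI : (aug ε).FG) (hK : ∀ a : A, (∀ n, a ∈ aug ε ^ n) → a = 0) (hf : ∀ t, (∀ a, ρ t a = a) → t = 1) :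
    {τ : Γ →* Γ | ∃ s : A ≃ₐ[k] A, (∀ a, ε (s a) = ε a) ∧ ∀ t a, ρ t (s a) = s (ρ (τ t) a)}.Finite := by
  have hfin := finite_wts hε hI
  have : Finite (Wts ε ρ) := hfin
  let S : Set (Γ →* Γ) := {τ | ∃ s : A ≃ₐ[k] A, (∀ a, ε (s a) = ε a) ∧ ∀ t a, ρ t (s a) = s (ρ (τ t) a)}
  have h1 : ∀ (τ : Γ →* Γ), τ ∈ S → ∀ χ ∈ Wts ε ρ, χ.comp τ ∈ Wts ε ρ := by
    rintro τ ⟨s, hs, hsτ⟩ χ ⟨a, ha, ha2, hat⟩
    have hmap : ∀ (s : A ≃ₐ[k] A), (∀ a, ε (s a) = ε a) → ∀ b ∈ aug ε ^ 2, s b ∈ aug ε ^ 2 := by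
      intro s hs b hb
      have h3 : (aug ε).map (s : A →+* A) ≤ aug ε := by
        rw [Ideal.map_le_iff_le_comap]
        intro b hb
        rw [Ideal.mem_comap, RingHom.mem_ker]
        exact (hs b).trans hb
      have h4 : (aug ε ^ 2).map (s : A →+* A) ≤ aug ε ^ 2 := by
        rw [Ideal.map_pow]
        exact Ideal.pow_right_mono h3 2
      exact h4 (Ideal.mem_map_of_mem _ hb)
    refine ⟨s a, ?_, ?_, fun t => ?_⟩
    · rw [RingHom.mem_ker]
      exact (hs a).trans ha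
    · intro h2
      apply ha2
      have h5 := hmap s.symm (fun b => by rw [← hs, s.apply_symm_apply]) _ h2
      rwa [s.symm_apply_apply] at h5
    · have h2 : ρ t (s a) - (χ.comp τ) t • s a = s (ρ (τ t) a - χ (τ t) • a) := by
        rw [hsτ, map_sub, map_smul]
        rfl
      rw [h2]
      exact hmap s hs _ (hat (τ t))
  have h2 : Function.Injective (fun (τ : S) (χ : Wts ε ρ) => (⟨χ.1.comp τ.1, h1 τ.1 τ.2 χ.1 χ.2⟩ : Wts ε ρ)) := by
    intro τ τ' h
    apply Subtype.ext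
    ext t
    have h3 : τ.1 t * (τ'.1 t)⁻¹ = 1 := by
      apply hf
      refine fun a => eq_of_wts hε hd hK _ (fun χ hχ => ?_) a
      have h4 := congrArg Subtype.val (congrFun h ⟨χ, hχ⟩)
      have h5 : χ (τ.1 t) = χ (τ'.1 t) := congr($h4 t)
      have h6 : χ (τ'.1 t) * χ ((τ'.1 t)⁻¹) = 1 := by rw [← map_mul, mul_inv_cancel, map_one]
      rw [map_mul, h5, h6]
    rwa [mul_inv_eq_one] at h3
  have : Finite S := Finite.of_injective _ h2
  exact Set.toFinite S

end K402.WtAlg
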