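import Groth.Agent.AlgGrp.K402.WtPt
import Groth.Agent.AlgGrp.K395.TorDec
import Groth.Agent.Sga3B.TorusAlgClosed

/-!
# Finitely many endomorphisms of a torus are induced by automorphisms

`k` algebraically closed, `T` a split torus acting faithfully on `X` integral, separated and locally of finite type,
`x` a rational point fixed by `T`.

* `isDec`: modulo every power of the maximal ideal the local ring of `X` at `x` is the sum of its weight spaces;
* `finite_tau`: only finitely many endomorphisms of `T` are induced by automorphisms of `X` fixing `x`.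
-/

set_option autoImplicit false
universe u
open CategoryTheory MonoidalCategory CartesianMonoidalCategory MonObj GrpObj AlgebraicGeometry Limits

namespace K402.WtFin

open Groth.Agent.Books.AffBridge Groth.Agent.Sga3B.AffPts Groth.Agent.Books.AlgPts K395.TorEv K395.TorDec
open Groth.Agent.Fga.LimSec K402.StkPt K402.WtAlg K402.WtPt K395.Transl

variable {k : Type u} [Field k] {T X : Over (Spec (CommRingCat.of k))}

section nbhd

variable (x : 𝟙_ (Over (Spec (CommRingCat.of k))) ⟶ X) (n : ℕ)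

/-- Reduction modulo a power of the maximal ideal. -/
noncomputable def qn : O x ⟶ CommRingCat.of (O x ⧸ aug (ev x) ^ n) :=
  CommRingCat.ofHom (Ideal.Quotient.mk (aug (ev x) ^ n))

/-- The infinitesimal neighbourhoods of `x`. -/
noncomputable def Zn : Over (Spec (CommRingCat.of k)) :=
  Over.mk (Spec.map (qn x n) ≫ X.left.fromSpecStalk (pt x) ≫ X.hom)

/-- The infinitesimal neighbourhoods of `x`. -/
noncomputable def jn : Zn x n ⟶ X :=
  Over.homMk (Spec.map (qn x n) ≫ X.left.fromSpecStalk (pt x)) (Category.assoc _ _ _)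

theorem jn_left : (jn x n).left = Spec.map (qn x n) ≫ X.left.fromSpecStalk (pt x) := rfl

variable {n}

/-- The value, on the neighbourhood. -/
noncomputable def vn (hn : n ≠ 0) : CommRingCat.of (O x ⧸ aug (ev x) ^ n) ⟶ CommRingCat.of k :=
  CommRingCat.ofHom (Ideal.Quotient.lift (aug (ev x) ^ n) (ev x).toRingHom fun _ ha => Ideal.pow_le_self hn ha)

theorem qn_vn (hn : n ≠ 0) : qn x n ≫ vn x hn = vl x := by
  apply CommRingCat.hom_ext
  exact Ideal.Quotient.lift_comp_mk _ _ _

/-- The reduced point of the neighbourhood. -/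
noncomputable def zn (hn : n ≠ 0) : 𝟙_ (Over (Spec (CommRingCat.of k))) ⟶ Zn x n :=
  Over.homMk (Spec.map (vn x hn)) (by
    change Spec.map (vn x hn) ≫ Spec.map (qn x n) ≫ X.left.fromSpecStalk (pt x) ≫ X.hom = 𝟙 _
    rw [← Spec.map_comp_assoc, qn_vn, vl_fac_assoc]
    exact Over.w x)

theorem zn_jn (hn : n ≠ 0) : zn x hn ≫ jn x n = x := by
  ext1
  change Spec.map (vn x hn) ≫ Spec.map (qn x n) ≫ X.left.fromSpecStalk (pt x) = x.left
  rw [← Spec.map_comp_assoc, qn_vn, vl_fac]

instance surjective_zn (hn : n ≠ 0) : Surjective (zn x hn).left := by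
  refine ⟨fun p => ⟨IsLocalRing.closedPoint k, ?_⟩⟩
  change PrimeSpectrum.comap (vn x hn).hom (IsLocalRing.closedPoint k) = p
  have h1 : RingHom.ker (vn x hn).hom ≤ p.asIdeal := by
    intro b hb
    obtain ⟨b, rfl⟩ := Ideal.Quotient.mk_surjective b
    have h2 : b ∈ aug (ev x) := hb
    refine p.isPrime.mem_of_pow_mem n ?_
    rw [← map_pow, Ideal.Quotient.eq_zero_iff_mem.2 (Ideal.pow_mem_pow h2 n)]
    exact Ideal.zero_mem _
  have hs : Function.Surjective (vn x hn).hom := fun c => by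
    refine ⟨Ideal.Quotient.mk _ (algebraMap k (O x) c), ?_⟩
    exact (ev x).commutes c
  have hmax : (RingHom.ker (vn x hn).hom).IsMaximal := RingHom.ker_isMaximal_of_surjective _ hs
  have h3 : RingHom.ker (vn x hn).hom = p.asIdeal := hmax.eq_of_le p.isPrime.ne_top h1
  ext1
  rw [← h3]
  ext b
  change (vn x hn).hom b ∈ (IsLocalRing.closedPoint k).asIdeal ↔ _
  rw [RingHom.mem_ker, IsLocalRing.closedPoint, IsLocalRing.mem_maximalIdeal, mem_nonunits_iff, isUnit_iff_ne_zero,
    not_not]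

end nbhd

theorem isPullback_whiskerLeft {C : Type*} [Category C] [CartesianMonoidalCategory C] {X Y : C} (f : X ⟶ Y)
    (Z : C) : IsPullback (Z ◁ f) (snd Z X) (snd Z Y) f := by
  refine ⟨⟨by simp⟩, ⟨PullbackCone.IsLimit.mk _ (fun s => lift (s.fst ≫ fst _ _) s.snd) ?_ ?_ ?_⟩⟩
  · intro s
    ext1
    · simp
    · simp [s.condition]
  · intro s; simp
  · intro s m h₁ h₂
    ext1
    · simp [← h₁]
    · simp [h₂]

instance surjective_whiskerLeft {S : Scheme.{u}} {X Y : Over S} (f : X ⟶ Y) (Z : Over S) [Surjective f.left] :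
    Surjective (Z ◁ f).left :=
  MorphismProperty.of_isPullback (P := @Surjective) ((isPullback_whiskerLeft f Z).map (Over.forget _)).flip
    (inferInstanceAs (Surjective f.left))

variable [GrpObj T] (a : AlgGrp.Action T X) (x : 𝟙_ (Over (Spec (CommRingCat.of k))) ⟶ X)
  (hx : a.orbitMap x = toUnit T ≫ x)

/-- The action on the neighbourhood. -/
noncomputable def cn (n : ℕ) : T ⊗ Zn x n ⟶ X := (T ◁ jn x n) ≫ a.act

include hx in
theorem whisker_act : (T ◁ x) ≫ a.act = fst _ _ ≫ toUnit T ≫ x := by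
  rw [← hx, AlgGrp.Action.orbitMap, comp_lift_assoc, Category.comp_id]
  congr 1
  ext1
  · simp
  · simp only [whiskerLeft_snd, lift_snd]
    rw [← Category.assoc, toUnit_unique (fst T _ ≫ toUnit T) (snd T _)]

include hx in
theorem cn_apply (n : ℕ) (w : (T ⊗ Zn x n).left) : (cn a x n).left w = pt x := by
  by_cases hn : n = 0
  · subst hn
    have h1 : Subsingleton (O x ⧸ aug (ev x) ^ 0) := by
      rw [pow_zero, Ideal.one_eq_top]
      exact Ideal.Quotient.subsingleton_iff.2 rfl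
    have h2 : IsEmpty (PrimeSpectrum (O x ⧸ aug (ev x) ^ 0)) := inferInstance
    exact (h2.false ((snd T (Zn x 0)).left w)).elim
  · obtain ⟨q, rfl⟩ := (T ◁ zn x hn).left.surjective w
    have h1 : (T ◁ zn x hn) ≫ cn a x n = fst _ _ ≫ toUnit T ≫ x := by
      rw [cn, ← MonoidalCategory.whiskerLeft_comp_assoc, zn_jn, whisker_act a x hx]
    rw [← Scheme.Hom.comp_apply, ← Over.comp_left, h1]
    have h2 : ((fst _ _ ≫ toUnit T ≫ x : T ⊗ 𝟙_ _ ⟶ X).left) q =
      x.left ((fst _ _ ≫ toUnit T : T ⊗ 𝟙_ _ ⟶ 𝟙_ _).left q) := by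
      rw [← Scheme.Hom.comp_apply, ← Over.comp_left, Category.assoc]
    rw [h2]
    have h3 : (fst _ _ ≫ toUnit T : T ⊗ 𝟙_ _ ⟶ 𝟙_ (Over (Spec (CommRingCat.of k)))).left q =
      IsLocalRing.closedPoint k := Subsingleton.elim (α := PrimeSpectrum k) _ _
    rw [h3]
    rfl

theorem sc_cn (n : ℕ) (t : 𝟙_ (Over (Spec (CommRingCat.of k))) ⟶ T) :
    K395.TorDec.sc (Zn x n) t ≫ cn a x n = jn x n ≫ tr a t := by
  rw [cn, K395.TorDec.sc, comp_tr, lift_whiskerLeft_assoc, Category.id_comp]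

theorem str_eq (n : ℕ) (c : k) : str (Z := Zn x n) ⊤ c =
    (Scheme.ΓSpecIso (CommRingCat.of (O x ⧸ aug (ev x) ^ n))).inv (algebraMap k _ c) := by
  have h1 : str (Z := Zn x n) ⊤ c = (Zn x n).hom.appTop ((Scheme.ΓSpecIso (CommRingCat.of k)).inv c) :=
    (app_eq_al (Zn x n).hom ⊤ ((Scheme.ΓSpecIso (CommRingCat.of k)).inv c)).symm
  have h2 : (Zn x n).hom = Spec.map (cst x ≫ qn x n) := by
    rw [Spec.map_comp, spec_cst]
    rfl
  rw [h1, h2]
  exact congr($(Scheme.ΓSpecIso_inv_naturality (cst x ≫ qn x n)) c).symm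

theorem exists_kap [IsAffine T.left] {M : Type} [CommGroup M] (e : T ≅ SpecOver k (MonoidAlgebra k M))
    [IsMonHom e.hom] (n : ℕ) (b : O x) :
    ∃ f : M →₀ (O x ⧸ aug (ev x) ^ n), ∀ t, Ideal.Quotient.mk (aug (ev x) ^ n) (rho a x hx t b) =
      f.sum fun m g => kap e m t • g := by
  obtain ⟨g, hg⟩ := exists_fac_stalk (cn a x n).left (pt x) (cn_apply a x hx n)
  let H : Γ((T ⊗ Zn x n).left, ⊤) := g.appTop ((Scheme.ΓSpecIso (O x)).inv b)
  have hZ : IsAffineOpen (⊤ : (Zn x n).left.Opens) :=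
    isAffineOpen_top (Spec (CommRingCat.of (O x ⧸ aug (ev x) ^ n)))
  obtain ⟨f, hf⟩ := exists_decomp (fun m t => kap e m t) (fun b => by
    obtain ⟨c, rfl⟩ := (fnT_bijective e).2 b
    exact ⟨c.coeff, fun t => val_fnT e c t⟩) hZ H
  let i := Scheme.ΓSpecIso (CommRingCat.of (O x ⧸ aug (ev x) ^ n))
  have h1 : ∀ t, at_ t ⊤ H = i.inv (Ideal.Quotient.mk (aug (ev x) ^ n) (rho a x hx t b)) := by
    intro t
    have h2 : at_ t ⊤ H = (K395.TorDec.sc (Zn x n) t).left.appTop H := (app_eq_al _ _ _).symm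
    have h3 : (K395.TorDec.sc (Zn x n) t).left ≫ g =
        Spec.map (st (pt x) (tr a t).left (pt_fix (comp_tr_fix a x hx t)) ≫ qn x n) := by
      refine (cancel_mono (X.left.fromSpecStalk (pt x))).1 ?_
      have e1 : (K395.TorDec.sc (Zn x n) t).left ≫ g ≫ X.left.fromSpecStalk (pt x) =
          (jn x n).left ≫ (tr a t).left := by
        rw [hg, ← Over.comp_left, sc_cn, Over.comp_left]
      have e2 : Spec.map (st (pt x) (tr a t).left (pt_fix (comp_tr_fix a x hx t)) ≫ qn x n) ≫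
          X.left.fromSpecStalk (pt x) = (Spec.map (qn x n) ≫ X.left.fromSpecStalk (pt x)) ≫ (tr a t).left := by
        rw [Spec.map_comp, Category.assoc, Category.assoc, st_fac]
      exact (Category.assoc _ _ _).trans (e1.trans e2.symm)
    have h4 : (K395.TorDec.sc (Zn x n) t).left.appTop H =
        ((K395.TorDec.sc (Zn x n) t).left ≫ g).appTop ((Scheme.ΓSpecIso (O x)).inv b) := by
      rw [Scheme.Hom.comp_appTop]
      rfl
    rw [h2, h4, h3]
    exact congr($(Scheme.ΓSpecIso_inv_naturality _) b).symm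
  refine ⟨f.mapRange i.hom (map_zero i.hom.hom), fun t => ?_⟩
  have h5 : i.hom (at_ t ⊤ H) = Ideal.Quotient.mk (aug (ev x) ^ n) (rho a x hx t b) := by
    rw [h1]
    exact congr($(i.inv_hom_id) _)
  have h6 : (f.mapRange i.hom (map_zero i.hom.hom)).sum (fun m g => kap e m t • g) =
      f.sum fun m g => kap e m t • i.hom g := Finsupp.sum_mapRange_index fun m => smul_zero _
  rw [h6, ← h5, hf]
  refine (map_sum i.hom.hom _ _).trans (Finset.sum_congr rfl fun m _ => ?_)
  refine (map_mul i.hom.hom _ _).trans ?_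
  refine Eq.trans ?_ (Algebra.smul_def (kap e m t) (i.hom (f m))).symm
  refine congrArg (· * i.hom (f m)) ((congrArg i.hom (str_eq x n _)).trans ?_)
  exact congr($(i.inv_hom_id) _)

/-- The local ring is, modulo every power of the maximal ideal, the sum of its weight spaces. -/
theorem isDec [IsAffine T.left] {M : Type} [CommGroup M] (e : T ≅ SpecOver k (MonoidAlgebra k M))
    [IsMonHom e.hom] (hinj : Function.Injective (kap e)) : IsDec (ev x) (rho a x hx) := by
  classical
  refine isDec_of (ev_rho a x hx) (rho_rho a x hx) (rho_one a x hx) fun n b => ?_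
  obtain ⟨f, hf⟩ := exists_kap a x hx e n b
  refine ⟨f.support.image (kap e), Function.extend (kap e) f 0, fun t => ?_⟩
  rw [hf, Finset.sum_image fun _ _ _ _ h => hinj h, Finsupp.sum]
  refine Finset.sum_congr rfl fun m _ => ?_
  rw [hinj.extend_apply]

section fin

variable [IsAlgClosed k] [IsIntegral X.left] [IsSeparated X.hom] [LocallyOfFiniteType X.hom]

/-- Finitely many endomorphisms of the group of rational points are induced by automorphisms. -/
theorem finite_tau_pt [LocallyOfFiniteType T.hom] [IsAffine T.left] {M : Type} [CommGroup M]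
    [IsDomain (MonoidAlgebra k M)] (e : T ≅ SpecOver k (MonoidAlgebra k M)) [IsMonHom e.hom]
    (hf : ∀ t : 𝟙_ (Over (Spec (CommRingCat.of k))) ⟶ T, tr a t = 𝟙 X → t = 1) (hx : a.orbitMap x = toUnit T ≫ x) :
    {τ : (𝟙_ (Over (Spec (CommRingCat.of k))) ⟶ T) →* (𝟙_ (Over (Spec (CommRingCat.of k))) ⟶ T) |
      ∃ s : O x ≃ₐ[k] O x, (∀ b, ev x (s b) = ev x b) ∧
        ∀ t b, rho a x hx t (s b) = s (rho a x hx (τ t) b)}.Finite :=
  WtAlg.finite_tau (ev_rho a x hx) (isDec a x hx e (kap_injective e)) (fg_aug x) (krull x)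
    fun t ht => hf t (tr_eq_id a x hx t ht)

/-- Composition with an endomorphism, on rational points. -/
noncomputable def post (τ : T ⟶ T) (hτ : IsMonHom τ) :
    (𝟙_ (Over (Spec (CommRingCat.of k))) ⟶ T) →* (𝟙_ (Over (Spec (CommRingCat.of k))) ⟶ T) where
  toFun t := t ≫ τ
  map_one' := MonObj.one_comp τ
  map_mul' t t' := MonObj.mul_comp t t' τ

theorem post_injective [LocallyOfFiniteType T.hom] [IsSeparated T.hom] [IsReduced T.left] {τ τ' : T ⟶ T}
    (hτ : IsMonHom τ) (hτ' : IsMonHom τ') (h : post τ hτ = post τ' hτ') : τ = τ' := by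
  ext1
  have : LocallyOfFiniteType (τ.left ≫ T.hom) := by rw [Over.w]; infer_instance
  refine ext_of_apply_eq T.hom Set.univ isOpen_univ.isLocallyClosed dense_univ (fun z _ hz => ?_)
    (by rw [Over.w, Over.w])
  obtain ⟨p, rfl⟩ := exists_pt z hz
  exact congrArg (fun q : 𝟙_ (Over (Spec (CommRingCat.of k))) ⟶ T => q.left (IsLocalRing.closedPoint k)) congr($h p)

/-- **Finitely many endomorphisms of a torus acting faithfully are induced by automorphisms fixing a given fixed
point.** -/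
theorem finite_tau (hT : Red.IsTorus T) (a : AlgGrp.Action T X) (x : 𝟙_ (Over (Spec (CommRingCat.of k))) ⟶ X)
    (hx : a.orbitMap x = toUnit T ≫ x)
    (hf : ∀ t : 𝟙_ (Over (Spec (CommRingCat.of k))) ⟶ T, lift (toUnit X ≫ t) (𝟙 X) ≫ a.act = 𝟙 X → t = 1) :
    {τ : T ⟶ T | IsMonHom τ ∧ ∃ γ : X ≅ X, x ≫ γ.hom = x ∧ (τ ⊗ₘ γ.hom) ≫ a.act = a.act ≫ γ.hom}.Finite := by
  classical
  obtain ⟨r, hr⟩ := Groth.Agent.Sga3B.TorusAlgClosed.exists_isSplitTorusWith hT
  obtain ⟨e, he⟩ := Groth.Agent.Sga3B.RG.BrDiag.isSplitTorusWith_iff.1 hr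
  have hie : IsIso e.hom.left := inferInstanceAs (IsIso ((Over.forget _).map e.hom))
  have haff : IsAffine T.left := by
    have : IsAffine (SpecOver k (MonoidAlgebra k (Multiplicative (Fin r → ℤ)))).left :=
      inferInstanceAs (IsAffine (Spec (CommRingCat.of (MonoidAlgebra k (Multiplicative (Fin r → ℤ))))))
    exact IsAffine.of_isIso e.hom.left
  have hlft : LocallyOfFiniteType T.hom := by
    have := Groth.Agent.Sga3B.TorusAlgClosed.smooth_of_isTorus hT
    infer_instance
  have hsep : IsSeparated T.hom := inferInstance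
  have hred : IsReduced T.left := by
    have : IsReduced (SpecOver k (MonoidAlgebra k (Multiplicative (Fin r → ℤ)))).left :=
      inferInstanceAs (IsReduced (Spec (CommRingCat.of (MonoidAlgebra k (Multiplicative (Fin r → ℤ))))))
    exact isReduced_of_isOpenImmersion e.hom.left
  have hfin := finite_tau_pt a x e hf hx
  refine Set.Finite.of_finite_image (f := fun τ => if h : IsMonHom τ then post τ h else 1)
    (hfin.subset ?_) ?_
  · rintro _ ⟨τ, ⟨hτ, γ, hγ, hγτ⟩, rfl⟩
    refine ⟨stEquiv x γ hγ, fun b => ev_stO _ _ _, fun t b => ?_⟩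
    simp only [dif_pos hτ]
    exact rho_stEquiv a x hx τ γ hγ hγτ t b
  · rintro τ ⟨hτ, -⟩ τ' ⟨hτ', -⟩ h
    simp only [dif_pos hτ, dif_pos hτ'] at h
    exact post_injective hτ hτ' h

omit [IsAlgClosed k] [IsIntegral X.left] [IsSeparated X.hom] [LocallyOfFiniteType X.hom] in
theorem eq_one_of_faithful (a : AlgGrp.Action T X)
    (hf : ∀ (Z : Over (Spec (CommRingCat.of k))) (g : Z ⟶ T),
      lift (fst Z X ≫ g) (snd Z X) ≫ a.act = snd Z X → g = toUnit Z ≫ η[T])
    (t : 𝟙_ (Over (Spec (CommRingCat.of k))) ⟶ T) (h : lift (toUnit X ≫ t) (𝟙 X) ≫ a.act = 𝟙 X) : t = 1 := by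
  refine hf _ t ?_
  have h1 : fst (𝟙_ (Over (Spec (CommRingCat.of k)))) X = snd _ X ≫ toUnit X := toUnit_unique _ _
  have h2 : lift (fst (𝟙_ (Over (Spec (CommRingCat.of k)))) X ≫ t) (snd _ X) =
      snd _ X ≫ lift (toUnit X ≫ t) (𝟙 X) := by
    rw [comp_lift, Category.comp_id, h1, Category.assoc]
  rw [h2, Category.assoc, h, Category.comp_id]

/-- The same, the action being faithful on all points. -/
theorem finite_tau_of_faithful (hT : Red.IsTorus T) (a : AlgGrp.Action T X)
    (x : 𝟙_ (Over (Spec (CommRingCat.of k))) ⟶ X) (hx : a.orbitMap x = toUnit T ≫ x)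
    (hf : ∀ (Z : Over (Spec (CommRingCat.of k))) (g : Z ⟶ T),
      lift (fst Z X ≫ g) (snd Z X) ≫ a.act = snd Z X → g = toUnit Z ≫ η[T]) :
    {τ : T ⟶ T | IsMonHom τ ∧ ∃ γ : X ≅ X, x ≫ γ.hom = x ∧ (τ ⊗ₘ γ.hom) ≫ a.act = a.act ≫ γ.hom}.Finite :=
  finite_tau hT a x hx (eq_one_of_faithful a hf)

end fin

end K402.WtFin
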