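import Groth.Agent.AlgGrp.K402.WtAlg
import Groth.Agent.AlgGrp.K402.StkPt
import Groth.Agent.AlgGrp.K395.Transl
import Mathlib.RingTheory.Filtration
import Mathlib.AlgebraicGeometry.Noetherian
import Mathlib.CategoryTheory.Limits.Constructions.Over.Connected

/-!
# The local ring at a fixed rational point

`O x`: the local ring at the rational point `x`, a `k`-algebra with augmentation `ev x`; `stO γ`: the endomorphism
induced by an endomorphism fixing `x`; `rho a x hx`: the action on `O x` of the rational points of a group fixing `x`.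
-/

set_option autoImplicit false
universe u
open CategoryTheory MonoidalCategory CartesianMonoidalCategory MonObj GrpObj AlgebraicGeometry Limits

namespace K402.WtPt

open Groth.Agent.Books.AlgPts K402.StkPt K402.WtAlg K395.Transl

variable {k : Type u} [Field k] {T X : Over (Spec (CommRingCat.of k))} [GrpObj T]

/-- The local ring at a rational point. -/
noncomputable abbrev O (x : 𝟙_ (Over (Spec (CommRingCat.of k))) ⟶ X) : CommRingCat.{u} :=
  X.left.presheaf.stalk (pt x)

/-- The constants in the local ring. -/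
noncomputable def cst (x : 𝟙_ (Over (Spec (CommRingCat.of k))) ⟶ X) : CommRingCat.of k ⟶ O x :=
  Spec.preimage (X.left.fromSpecStalk (pt x) ≫ X.hom)

@[reassoc]
theorem spec_cst (x : 𝟙_ (Over (Spec (CommRingCat.of k))) ⟶ X) :
    Spec.map (cst x) = X.left.fromSpecStalk (pt x) ≫ X.hom := Spec.map_preimage _

noncomputable instance algebraO (x : 𝟙_ (Over (Spec (CommRingCat.of k))) ⟶ X) : Algebra k (O x) :=
  (cst x).hom.toAlgebra

theorem exists_val (x : 𝟙_ (Over (Spec (CommRingCat.of k))) ⟶ X) :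
    ∃ φ : O x ⟶ CommRingCat.of k, Spec.map φ ≫ X.left.fromSpecStalk (pt x) = x.left :=
  exists_ring (pt x) x.left fun w => by
    have : w = IsLocalRing.closedPoint k := Subsingleton.elim (α := PrimeSpectrum k) _ _
    rw [this]
    rfl

/-- The value at the point. -/
noncomputable def vl (x : 𝟙_ (Over (Spec (CommRingCat.of k))) ⟶ X) : O x ⟶ CommRingCat.of k := (exists_val x).choose

@[reassoc]
theorem vl_fac (x : 𝟙_ (Over (Spec (CommRingCat.of k))) ⟶ X) :
    Spec.map (vl x) ≫ X.left.fromSpecStalk (pt x) = x.left := (exists_val x).choose_spec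

theorem cst_vl (x : 𝟙_ (Over (Spec (CommRingCat.of k))) ⟶ X) : cst x ≫ vl x = 𝟙 _ := by
  apply Spec.map_injective
  rw [Spec.map_comp, spec_cst, vl_fac_assoc, Spec.map_id]
  exact Over.w x

/-- The augmentation. -/
noncomputable def ev (x : 𝟙_ (Over (Spec (CommRingCat.of k))) ⟶ X) : O x →ₐ[k] k where
  __ := (vl x).hom
  commutes' c := congr($(cst_vl x) c)

theorem pt_fix {x : 𝟙_ (Over (Spec (CommRingCat.of k))) ⟶ X} {γ : X ⟶ X} (h : x ≫ γ = x) :
    γ.left (pt x) = pt x := by rw [← pt_comp, h]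

/-- The endomorphism of the local ring induced by an endomorphism fixing the point. -/
noncomputable def stO (x : 𝟙_ (Over (Spec (CommRingCat.of k))) ⟶ X) (γ : X ⟶ X) (h : x ≫ γ = x) :
    O x →ₐ[k] O x where
  __ := (st (pt x) γ.left (pt_fix h)).hom
  commutes' c := by
    have h1 : cst x ≫ st (pt x) γ.left (pt_fix h) = cst x := by
      apply Spec.map_injective
      rw [Spec.map_comp, spec_cst, st_fac_assoc, Over.w]
    exact congr($h1 c)

theorem stO_congr {x : 𝟙_ (Over (Spec (CommRingCat.of k))) ⟶ X} {γ γ' : X ⟶ X} (e : γ = γ') (h : x ≫ γ = x)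
    (h' : x ≫ γ' = x) : stO x γ h = stO x γ' h' := by
  subst e
  rfl

theorem stO_comp {x : 𝟙_ (Over (Spec (CommRingCat.of k))) ⟶ X} (γ γ' : X ⟶ X) (h : x ≫ γ = x)
    (h' : x ≫ γ' = x) (h'' : x ≫ γ ≫ γ' = x) (a : O x) : stO x γ h (stO x γ' h' a) = stO x (γ ≫ γ') h'' a :=
  (congr($(st_comp (pt x) γ.left γ'.left (pt_fix h) (pt_fix h') (pt_fix h'')) a)).symm

theorem stO_id {x : 𝟙_ (Over (Spec (CommRingCat.of k))) ⟶ X} (h : x ≫ 𝟙 X = x) (a : O x) : stO x (𝟙 X) h a = a :=
  congr($(st_id (pt x) (pt_fix h)) a)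

theorem ev_stO {x : 𝟙_ (Over (Spec (CommRingCat.of k))) ⟶ X} (γ : X ⟶ X) (h : x ≫ γ = x) (a : O x) :
    ev x (stO x γ h a) = ev x a := by
  have h1 : st (pt x) γ.left (pt_fix h) ≫ vl x = vl x := by
    apply ring_ext
    rw [Spec.map_comp, Category.assoc, st_fac, vl_fac_assoc, vl_fac, ← Over.comp_left, h]
  exact congr($h1 a)

theorem fix_inv {x : 𝟙_ (Over (Spec (CommRingCat.of k))) ⟶ X} {γ : X ≅ X} (h : x ≫ γ.hom = x) :
    x ≫ γ.inv = x := (Iso.comp_inv_eq γ).2 h.symm

/-- An automorphism fixing the point induces an automorphism of the local ring. -/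
noncomputable def stEquiv (x : 𝟙_ (Over (Spec (CommRingCat.of k))) ⟶ X) (γ : X ≅ X) (h : x ≫ γ.hom = x) :
    O x ≃ₐ[k] O x :=
  AlgEquiv.ofAlgHom (stO x γ.hom h) (stO x γ.inv (fix_inv h))
    (by
      ext a
      change stO x γ.hom h (stO x γ.inv (fix_inv h) a) = a
      rw [stO_comp _ _ _ _ (by rw [γ.hom_inv_id, Category.comp_id]),
        stO_congr γ.hom_inv_id _ (Category.comp_id _), stO_id])
    (by
      ext a
      change stO x γ.inv (fix_inv h) (stO x γ.hom h a) = a
      rw [stO_comp _ _ _ _ (by rw [γ.inv_hom_id, Category.comp_id]),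
        stO_congr γ.inv_hom_id _ (Category.comp_id _), stO_id])

theorem stEquiv_apply (x : 𝟙_ (Over (Spec (CommRingCat.of k))) ⟶ X) (γ : X ≅ X) (h : x ≫ γ.hom = x) (a : O x) :
    stEquiv x γ h a = stO x γ.hom h a := rfl

section rho

variable (a : AlgGrp.Action T X) (x : 𝟙_ (Over (Spec (CommRingCat.of k))) ⟶ X)
  (hx : a.orbitMap x = toUnit T ≫ x)

include hx in
theorem comp_tr_fix (t : 𝟙_ (Over (Spec (CommRingCat.of k))) ⟶ T) : x ≫ tr a t = x := by
  have h1 : t ≫ a.orbitMap x = x := by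
    rw [hx, ← Category.assoc, toUnit_unique (t ≫ toUnit T) (𝟙 _), Category.id_comp]
  have h2 : t ≫ a.orbitMap x = x ≫ tr a t := by
    rw [comp_tr, AlgGrp.Action.orbitMap, comp_lift_assoc, Category.comp_id, ← Category.assoc t,
      toUnit_unique (t ≫ toUnit T) (𝟙 _), Category.id_comp,
      toUnit_unique (toUnit (𝟙_ (Over (Spec (CommRingCat.of k))))) (𝟙 _), Category.id_comp]
  rw [← h2, h1]

/-- The action on the local ring. -/
noncomputable def rho (t : 𝟙_ (Over (Spec (CommRingCat.of k))) ⟶ T) : O x →ₐ[k] O x :=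
  stO x (tr a t) (comp_tr_fix a x hx t)

theorem ev_rho (t : 𝟙_ (Over (Spec (CommRingCat.of k))) ⟶ T) (b : O x) : ev x (rho a x hx t b) = ev x b :=
  ev_stO _ _ _

theorem rho_rho (t t' : 𝟙_ (Over (Spec (CommRingCat.of k))) ⟶ T) (b : O x) :
    rho a x hx t (rho a x hx t' b) = rho a x hx (t' * t) b := by
  have h := tr_mul a t' t
  exact (stO_comp _ _ _ _ (by rw [← h]; exact comp_tr_fix a x hx _) _).trans
    congr($(stO_congr h.symm _ (comp_tr_fix a x hx _)) b)

theorem rho_one (b : O x) : rho a x hx 1 b = b :=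
  congr($(stO_congr (tr_one a) _ (Category.comp_id _)) b).trans (stO_id _ _)

/-- An equivariant automorphism (up to `τ`). -/
theorem rho_stEquiv (τ : T ⟶ T) (γ : X ≅ X) (h : x ≫ γ.hom = x) (hτ : (τ ⊗ₘ γ.hom) ≫ a.act = a.act ≫ γ.hom)
    (t : 𝟙_ (Over (Spec (CommRingCat.of k))) ⟶ T) (b : O x) :
    rho a x hx t (stEquiv x γ h b) = stEquiv x γ h (rho a x hx (t ≫ τ) b) := by
  have h1 : tr a t ≫ γ.hom = γ.hom ≫ tr a (t ≫ τ) := by
    rw [comp_tr, tr, Category.assoc, ← hτ, lift_map_assoc, Category.id_comp, Category.assoc]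
  rw [stEquiv_apply, stEquiv_apply]
  have h2 : x ≫ tr a t ≫ γ.hom = x := by rw [← Category.assoc, comp_tr_fix a x hx, h]
  have h3 : x ≫ γ.hom ≫ tr a (t ≫ τ) = x := by rw [← Category.assoc, h, comp_tr_fix a x hx]
  exact (stO_comp _ _ _ _ h2 _).trans (congr($(stO_congr h1 h2 h3) b).trans (stO_comp _ _ _ _ h3 _).symm)

/-- If a rational point acts trivially on the local ring, then it acts trivially on `X`. -/
theorem tr_eq_id [IsIntegral X.left] [IsSeparated X.hom] (t : 𝟙_ (Over (Spec (CommRingCat.of k))) ⟶ T)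
    (h : ∀ b : O x, rho a x hx t b = b) : tr a t = 𝟙 X := by
  have h1 : st (pt x) (tr a t).left (pt_fix (comp_tr_fix a x hx t)) = 𝟙 (O x) := by
    ext b
    exact h b
  have h2 := st_fac (pt x) (tr a t).left (pt_fix (comp_tr_fix a x hx t))
  rw [h1, Spec.map_id, Category.id_comp] at h2
  ext1
  exact eq_id_of_fromSpecStalk X.hom (pt x) _ (Over.w _) h2.symm

end rho

theorem isNoetherianRing_O (x : 𝟙_ (Over (Spec (CommRingCat.of k))) ⟶ X) [LocallyOfFiniteType X.hom] :
    IsNoetherianRing (O x) := by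
  have : IsLocallyNoetherian X.left := LocallyOfFiniteType.isLocallyNoetherian X.hom
  infer_instance

theorem krull (x : 𝟙_ (Over (Spec (CommRingCat.of k))) ⟶ X) [LocallyOfFiniteType X.hom] (b : O x)
    (h : ∀ n, b ∈ aug (ev x) ^ n) : b = 0 := by
  have := isNoetherianRing_O x
  have h1 : (⨅ i, aug (ev x) ^ i) = ⊥ := Ideal.iInf_pow_eq_bot_of_isLocalRing _ (RingHom.ker_ne_top _)
  have h2 : b ∈ ⨅ i, aug (ev x) ^ i := (Submodule.mem_iInf _).2 h
  rwa [h1, Ideal.mem_bot] at h2

theorem fg_aug (x : 𝟙_ (Over (Spec (CommRingCat.of k))) ⟶ X) [LocallyOfFiniteType X.hom] :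
    (aug (ev x)).FG := by
  have := isNoetherianRing_O x
  exact IsNoetherian.noetherian _

end K402.WtPt
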